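import Mathlib

/-!
# Four-dimensional algebras with structure constants: coordinate multiplication
-/

namespace Cfsg.Agent.Helper56

section ZAlg

/-- generic structure-constant multiplication -/
theorem lin_mul_generic {R C : Type*} [Ring R] [Ring C] (φ : C →+* R) (e : Fin 4 → R)
    (Γ : Fin 4 → Fin 4 → Fin 4 → C)
    (hc : ∀ c i, φ c * e i = e i * φ c)
    (ht : ∀ i j, e i * e j = ∑ k, φ (Γ i j k) * e k) (v w : Fin 4 → C) :
    (∑ i, φ (v i) * e i) * (∑ j, φ (w j) * e j) =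
      ∑ k, φ (∑ i, ∑ j, v i * w j * Γ i j k) * e k := by
  rw [Finset.sum_mul_sum]
  have h1 : ∀ i j, φ (v i) * e i * (φ (w j) * e j) = ∑ k, φ (v i * w j * Γ i j k) * e k := by
    intro i j
    calc φ (v i) * e i * (φ (w j) * e j) = φ (v i) * (e i * φ (w j)) * e j := by noncomm_ring
      _ = φ (v i) * (φ (w j) * e i) * e j := by rw [hc]
      _ = φ (v i * w j) * (e i * e j) := by rw [map_mul]; noncomm_ring
      _ = ∑ k, φ (v i * w j * Γ i j k) * e k := by
          rw [ht, Finset.mul_sum]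
          apply Finset.sum_congr rfl
          intro k _
          rw [map_mul φ (v i * w j), mul_assoc]
  simp_rw [h1]
  rw [Finset.sum_congr rfl (fun i _ => Finset.sum_comm), Finset.sum_comm]
  apply Finset.sum_congr rfl
  intro k _
  rw [map_sum, Finset.sum_mul]
  apply Finset.sum_congr rfl
  intro i _
  rw [map_sum, Finset.sum_mul]

end ZAlg

section Ham

variable {R : Type*} [Ring R] {C : Type*} [Ring C] (φ : C →+* R) (i j : R)

/-- quaternion-type linear combination with coefficients through `φ` -/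
def ql (a b c d : C) : R := φ a + φ b * i + φ c * j + φ d * (i * j)

/-- Hamilton structure constants -/
def hamΓ (C : Type*) [Ring C] : Fin 4 → Fin 4 → Fin 4 → C :=
  ![![![1, 0, 0, 0], ![0, 1, 0, 0], ![0, 0, 1, 0], ![0, 0, 0, 1]],
    ![![0, 1, 0, 0], ![-1, 0, 0, 0], ![0, 0, 0, 1], ![0, 0, -1, 0]],
    ![![0, 0, 1, 0], ![0, 0, 0, -1], ![-1, 0, 0, 0], ![0, 1, 0, 0]],
    ![![0, 0, 0, 1], ![0, 0, 1, 0], ![0, -1, 0, 0], ![-1, 0, 0, 0]]]

variable {φ i j}

theorem ql_mul (hii : i * i = -1) (hjj : j * j = -1) (hji : j * i = -(i * j))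
    (hci : ∀ c, φ c * i = i * φ c) (hcj : ∀ c, φ c * j = j * φ c)
    (a0 a1 a2 a3 b0 b1 b2 b3 : C) :
    ql φ i j a0 a1 a2 a3 * ql φ i j b0 b1 b2 b3 =
      ql φ i j (a0 * b0 - a1 * b1 - a2 * b2 - a3 * b3) (a0 * b1 + a1 * b0 + a2 * b3 - a3 * b2)
        (a0 * b2 - a1 * b3 + a2 * b0 + a3 * b1) (a0 * b3 + a1 * b2 - a2 * b1 + a3 * b0) := by
  have hik : i * (i * j) = -j := by rw [← mul_assoc, hii]; simp
  have hjk : j * (i * j) = i := by rw [← mul_assoc, hji]; simp [mul_assoc, hjj]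
  have hki : i * j * i = j := by rw [mul_assoc, hji]; simp [← mul_assoc, hii]
  have hkj : i * j * j = -i := by rw [mul_assoc, hjj]; simp
  have hkk : i * j * (i * j) = -1 := by
    rw [mul_assoc, hjk, hii]
  have key := lin_mul_generic φ ![1, i, j, i * j] (hamΓ C)
    (by
      intro c k
      fin_cases k
      · simp
      · simpa using hci c
      · simpa using hcj c
      · simp only [Fin.reduceFinMk, Matrix.cons_val]
        rw [← mul_assoc, hci, mul_assoc, hcj, mul_assoc])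
    (by
      intro a b
      fin_cases a <;> fin_cases b <;>
        simp [Fin.sum_univ_four, hamΓ, hii, hjj, hji, hik, hjk, hki, hkj, hkk])
    ![a0, a1, a2, a3] ![b0, b1, b2, b3]
  simp only [Fin.sum_univ_four, hamΓ, Matrix.cons_val_zero, Matrix.cons_val_one,
    Matrix.cons_val_two, Matrix.cons_val_three, mul_one, mul_zero, add_zero,
    zero_add, mul_neg, Matrix.head_cons, Matrix.tail_cons] at key
  unfold ql
  simpa only [sub_eq_add_neg] using key

end Ham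

section XY

variable {R : Type*} [Ring R] {C : Type*} [Ring C] (φ : C →+* R) (X Y : R)

/-- linear combination of `1, X, Y, XY` with coefficients through `φ` -/
def xl (a b c d : C) : R := φ a + φ b * X + φ c * Y + φ d * (X * Y)

/-- structure constants of the algebra generated by two elements of order three -/
def xyΓ {C : Type*} [Ring C] (S : C) : Fin 4 → Fin 4 → Fin 4 → C :=
  ![![![1, 0, 0, 0], ![0, 1, 0, 0], ![0, 0, 1, 0], ![0, 0, 0, 1]],
    ![![0, 1, 0, 0], ![-1, -1, 0, 0], ![0, 0, 0, 1], ![0, 0, -1, -1]],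
    ![![0, 0, 1, 0], ![S - 1, -1, -1, -1], ![-1, 0, -1, 0], ![1, 1, S, 0]],
    ![![0, 0, 0, 1], ![1, S, 1, 0], ![0, -1, 0, -1], ![-1, 0, 0, S]]]

variable {φ X Y}

theorem xl_mul {S : C} (hXX : X * X = -1 - X) (hYY : Y * Y = -1 - Y)
    (hYX : Y * X = φ S - 1 - X - Y - X * Y)
    (hcX : ∀ c, φ c * X = X * φ c) (hcY : ∀ c, φ c * Y = Y * φ c)
    (a0 a1 a2 a3 b0 b1 b2 b3 : C) :
    xl φ X Y a0 a1 a2 a3 * xl φ X Y b0 b1 b2 b3 =
      xl φ X Y (a0 * b0 - a1 * b1 + a2 * b1 * (S - 1) - a2 * b2 + a2 * b3 + a3 * b1 - a3 * b3)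
        (a0 * b1 + a1 * b0 - a1 * b1 - a2 * b1 + a2 * b3 + a3 * b1 * S - a3 * b2)
        (a0 * b2 - a1 * b3 - a2 * b1 + a2 * b0 - a2 * b2 + a2 * b3 * S + a3 * b1)
        (a0 * b3 + a1 * b2 - a1 * b3 - a2 * b1 + a3 * b0 - a3 * b2 + a3 * b3 * S) := by
  have h1 : X * (X * Y) = -Y - X * Y := by rw [← mul_assoc, hXX]; noncomm_ring
  have h2 : Y * (X * Y) = 1 + X + φ S * Y := by
    rw [← mul_assoc, hYX]
    have : (φ S - 1 - X - Y - X * Y) * Y = φ S * Y - Y - X * Y - Y * Y - X * (Y * Y) := by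
      noncomm_ring
    rw [this, hYY]; noncomm_ring
  have h3 : X * Y * X = 1 + φ S * X + Y := by
    rw [mul_assoc, hYX]
    have : X * (φ S - 1 - X - Y - X * Y) = X * φ S - X - X * X - X * Y - X * X * Y := by
      noncomm_ring
    rw [this, hXX, ← hcX]; noncomm_ring
  have h4 : X * Y * Y = -X - X * Y := by rw [mul_assoc, hYY]; noncomm_ring
  have h5 : X * Y * (X * Y) = -1 + φ S * (X * Y) := by
    rw [mul_assoc, h2]
    have : X * (1 + X + φ S * Y) = X + X * X + X * φ S * Y := by noncomm_ring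
    rw [this, hXX, ← hcX]; noncomm_ring
  have key := lin_mul_generic φ ![1, X, Y, X * Y] (xyΓ S)
    (by
      intro c k
      fin_cases k
      · simp
      · simpa using hcX c
      · simpa using hcY c
      · simp only [Fin.reduceFinMk, Matrix.cons_val]
        rw [← mul_assoc, hcX, mul_assoc, hcY, mul_assoc])
    (by
      intro a b
      fin_cases a <;> fin_cases b <;>
        simp [Fin.sum_univ_four, xyΓ, hXX, hYY, hYX, h1, h2, h3, h4, h5] <;> noncomm_ring)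
    ![a0, a1, a2, a3] ![b0, b1, b2, b3]
  simp only [Fin.sum_univ_four, xyΓ, Matrix.cons_val_zero, Matrix.cons_val_one,
    Matrix.cons_val_two, Matrix.cons_val_three, mul_one, mul_zero, add_zero,
    zero_add, mul_neg, Matrix.head_cons, Matrix.tail_cons] at key
  unfold xl
  rw [key]
  refine congrArg₂ (· + ·) (congrArg₂ (· + ·) (congrArg₂ (· + ·) (congrArg φ ?_)
    (congrArg (φ · * X) ?_)) (congrArg (φ · * Y) ?_)) (congrArg (φ · * (X * Y)) ?_) <;> abel

end XY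

section Tuples

variable {R : Type*} [Ring R] {C : Type*}

/-- multiplication of coordinate tuples in the algebra of two elements of order three -/
def xyMul [Ring C] (S : C) (a b : C × C × C × C) : C × C × C × C :=
  (a.1 * b.1 - a.2.1 * b.2.1 + a.2.2.1 * b.2.1 * (S - 1) - a.2.2.1 * b.2.2.1 + a.2.2.1 * b.2.2.2
      + a.2.2.2 * b.2.1 - a.2.2.2 * b.2.2.2,
    a.1 * b.2.1 + a.2.1 * b.1 - a.2.1 * b.2.1 - a.2.2.1 * b.2.1 + a.2.2.1 * b.2.2.2
      + a.2.2.2 * b.2.1 * S - a.2.2.2 * b.2.2.1,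
    a.1 * b.2.2.1 - a.2.1 * b.2.2.2 - a.2.2.1 * b.2.1 + a.2.2.1 * b.1 - a.2.2.1 * b.2.2.1
      + a.2.2.1 * b.2.2.2 * S + a.2.2.2 * b.2.1,
    a.1 * b.2.2.2 + a.2.1 * b.2.2.1 - a.2.1 * b.2.2.2 - a.2.2.1 * b.2.1 + a.2.2.2 * b.1
      - a.2.2.2 * b.2.2.1 + a.2.2.2 * b.2.2.2 * S)

/-- conjugation of coordinate tuples -/
def xyConj [Ring C] (S : C) (p : C × C × C × C) : C × C × C × C :=
  (p.1 - p.2.1 - p.2.2.1 + S * p.2.2.2, -p.2.1, -p.2.2.1, -p.2.2.2)

/-- the trace of a coordinate tuple -/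
def xyTr [Ring C] (S : C) (p : C × C × C × C) : C :=
  2 * p.1 - p.2.1 - p.2.2.1 + S * p.2.2.2

/-- evaluation of a coordinate tuple -/
def xl4 [Ring C] (φ : C →+* R) (X Y : R) (a : C × C × C × C) : R :=
  xl φ X Y a.1 a.2.1 a.2.2.1 a.2.2.2

theorem xl4_mul [Ring C] {φ : C →+* R} {X Y : R} {S : C} (hXX : X * X = -1 - X)
    (hYY : Y * Y = -1 - Y) (hYX : Y * X = φ S - 1 - X - Y - X * Y)
    (hcX : ∀ c, φ c * X = X * φ c) (hcY : ∀ c, φ c * Y = Y * φ c) (a b : C × C × C × C) :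
    xl4 φ X Y a * xl4 φ X Y b = xl4 φ X Y (xyMul S a b) :=
  xl_mul hXX hYY hYX hcX hcY _ _ _ _ _ _ _ _

theorem xyConj_mul [CommRing C] (S : C) (p q : C × C × C × C) :
    xyConj S (xyMul S p q) = xyMul S (xyConj S q) (xyConj S p) := by
  simp only [xyConj, xyMul, Prod.mk.injEq]
  refine ⟨?_, ?_, ?_, ?_⟩ <;> ring

theorem xyConj_conj [CommRing C] (S : C) (p : C × C × C × C) : xyConj S (xyConj S p) = p := by
  obtain ⟨p0, p1, p2, p3⟩ := p
  simp only [xyConj, Prod.mk.injEq]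
  refine ⟨?_, ?_, ?_, ?_⟩ <;> ring

theorem xl4_add_conj [CommRing C] (φ : C →+* R) (X Y : R) (S : C) (p : C × C × C × C) :
    xl4 φ X Y p + xl4 φ X Y (xyConj S p) = φ (xyTr S p) := by
  simp only [xl4, xl, xyConj, xyTr, map_add, map_sub, map_neg, map_mul, map_ofNat]
  noncomm_ring

theorem xl4_add [Ring C] (φ : C →+* R) (X Y : R) (a b : C × C × C × C) :
    xl4 φ X Y a + xl4 φ X Y b = xl4 φ X Y (a + b) := by
  simp only [xl4, xl, Prod.fst_add, Prod.snd_add, map_add]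
  noncomm_ring

theorem xl4_neg [Ring C] (φ : C →+* R) (X Y : R) (a : C × C × C × C) :
    -xl4 φ X Y a = xl4 φ X Y (-a) := by
  simp only [xl4, xl, Prod.fst_neg, Prod.snd_neg, map_neg]
  noncomm_ring

theorem xl4_sub [Ring C] (φ : C →+* R) (X Y : R) (a b : C × C × C × C) :
    xl4 φ X Y a - xl4 φ X Y b = xl4 φ X Y (a - b) := by
  simp only [xl4, xl, Prod.fst_sub, Prod.snd_sub, map_sub]
  noncomm_ring

theorem xl4_one [Ring C] (φ : C →+* R) (X Y : R) : (1 : R) = xl4 φ X Y (1, 0, 0, 0) := by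
  simp [xl4, xl]

/-- Hamilton multiplication of coordinate tuples -/
def hMul [Ring C] (a b : C × C × C × C) : C × C × C × C :=
  (a.1 * b.1 - a.2.1 * b.2.1 - a.2.2.1 * b.2.2.1 - a.2.2.2 * b.2.2.2,
    a.1 * b.2.1 + a.2.1 * b.1 + a.2.2.1 * b.2.2.2 - a.2.2.2 * b.2.2.1,
    a.1 * b.2.2.1 - a.2.1 * b.2.2.2 + a.2.2.1 * b.1 + a.2.2.2 * b.2.1,
    a.1 * b.2.2.2 + a.2.1 * b.2.2.1 - a.2.2.1 * b.2.1 + a.2.2.2 * b.1)

/-- evaluation of a quaternion coordinate tuple -/
def ql4 [Ring C] (φ : C →+* R) (i j : R) (a : C × C × C × C) : R :=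
  ql φ i j a.1 a.2.1 a.2.2.1 a.2.2.2

theorem ql4_mul [Ring C] {φ : C →+* R} {i j : R} (hii : i * i = -1) (hjj : j * j = -1)
    (hji : j * i = -(i * j)) (hci : ∀ c, φ c * i = i * φ c) (hcj : ∀ c, φ c * j = j * φ c)
    (a b : C × C × C × C) :
    ql4 φ i j a * ql4 φ i j b = ql4 φ i j (hMul a b) :=
  ql_mul hii hjj hji hci hcj _ _ _ _ _ _ _ _

theorem ql4_add [Ring C] (φ : C →+* R) (i j : R) (a b : C × C × C × C) :
    ql4 φ i j a + ql4 φ i j b = ql4 φ i j (a + b) := by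
  simp only [ql4, ql, Prod.fst_add, Prod.snd_add, map_add]
  noncomm_ring

theorem ql4_neg [Ring C] (φ : C →+* R) (i j : R) (a : C × C × C × C) :
    -ql4 φ i j a = ql4 φ i j (-a) := by
  simp only [ql4, ql, Prod.fst_neg, Prod.snd_neg, map_neg]
  noncomm_ring

theorem ql4_sub [Ring C] (φ : C →+* R) (i j : R) (a b : C × C × C × C) :
    ql4 φ i j a - ql4 φ i j b = ql4 φ i j (a - b) := by
  simp only [ql4, ql, Prod.fst_sub, Prod.snd_sub, map_sub]
  noncomm_ring

theorem ql4_one [Ring C] (φ : C →+* R) (i j : R) : (1 : R) = ql4 φ i j (1, 0, 0, 0) := by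
  simp [ql4, ql]

end Tuples

end Cfsg.Agent.Helper56
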