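import Mathlib

/-!
# Klein-type counting for groups with abelian centralizers of non-central elements
-/

namespace Cfsg.Agent.Helper56

section ZKlein

/-- hypotheses of the Klein-type counting: centralizers of non-central elements are abelian, and a
conjugate of `g` commuting with `g` is `g` or `g⁻¹` -/
structure KleinHyp (H : Type*) [Group H] : Prop where
  ca : ∀ g : H, g ∉ Subgroup.center H → ∀ a b : H, a * g = g * a → b * g = g * b → a * b = b * a
  inv : ∀ g n : H, (n * g * n⁻¹) * g = g * (n * g * n⁻¹) → n * g * n⁻¹ = g ∨ n * g * n⁻¹ = g⁻¹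

variable {H : Type*} [Group H]

theorem conj_not_mem_center {g : H} (hg : g ∉ Subgroup.center H) (n : H) :
    n * g * n⁻¹ ∉ Subgroup.center H := by
  intro h
  apply hg
  have h1 := (inferInstance : (Subgroup.center H).Normal).conj_mem _ h n⁻¹
  have h2 : n⁻¹ * (n * g * n⁻¹) * n⁻¹⁻¹ = g := by group
  rwa [h2] at h1

/-- for non-central `g` and non-central `g'` commuting with `g`, the centralizers agree -/
theorem KleinHyp.comm_iff (hK : KleinHyp H) {g g' : H} (hg : g ∉ Subgroup.center H)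
    (hg' : g' ∉ Subgroup.center H) (hc : g' * g = g * g') (b : H) :
    b * g' = g' * b ↔ b * g = g * b := by
  constructor
  · intro hb
    exact hK.ca g' hg' b g hb hc.symm
  · intro hb
    exact hK.ca g hg b g' hb hc

section Count

variable [Fintype H]

open Classical in
/-- centralizer of an element, as a finset -/
noncomputable def cenF (g : H) : Finset H := Finset.univ.filter (fun a => a * g = g * a)

open Classical in
/-- the centre as a finset -/
noncomputable def zF (H : Type*) [Group H] [Fintype H] : Finset H :=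
  Finset.univ.filter (fun a => a ∈ Subgroup.center H)

open Classical in
/-- the non-central elements commuting with a conjugate of `g` -/
noncomputable def uF (g : H) : Finset H :=
  Finset.univ.filter (fun u => u ∉ Subgroup.center H ∧
    ∃ n : H, u * (n * g * n⁻¹) = (n * g * n⁻¹) * u)

open Classical in
/-- the elements conjugating `g` to an element commuting with `g` -/
noncomputable def nF (g : H) : Finset H :=
  Finset.univ.filter (fun m => (m * g * m⁻¹) * g = g * (m * g * m⁻¹))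

theorem mem_cenF {g a : H} : a ∈ cenF g ↔ a * g = g * a := by
  simp [cenF]

theorem mem_zF {a : H} : a ∈ zF H ↔ a ∈ Subgroup.center H := by
  simp [zF]

theorem mem_uF {g u : H} : u ∈ uF g ↔ u ∉ Subgroup.center H ∧
    ∃ n : H, u * (n * g * n⁻¹) = (n * g * n⁻¹) * u := by
  simp [uF]

theorem mem_nF {g m : H} : m ∈ nF g ↔ (m * g * m⁻¹) * g = g * (m * g * m⁻¹) := by
  simp [nF]

theorem zF_subset_cenF (g : H) : zF H ⊆ cenF g := by
  intro a ha
  rw [mem_zF] at ha
  rw [mem_cenF]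
  exact (Subgroup.mem_center_iff.mp ha g).symm

theorem card_nF (hK : KleinHyp H) (g : H) :
    (nF g).card = (cenF g).card ∨ (nF g).card = 2 * (cenF g).card := by
  classical
  by_cases hB : ∃ m1 : H, m1 * g * m1⁻¹ = g⁻¹ ∧ g⁻¹ ≠ g
  · right
    obtain ⟨m1, hm1, hne⟩ := hB
    have h1 : nF g = cenF g ∪ (cenF g).image (fun a => m1 * a) := by
      ext m
      rw [mem_nF, Finset.mem_union, mem_cenF, Finset.mem_image]
      constructor
      · intro hm
        rcases hK.inv g m hm with h2 | h2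
        · left
          calc m * g = (m * g * m⁻¹) * m := by group
            _ = g * m := by rw [h2]
        · right
          refine ⟨m1⁻¹ * m, ?_, by group⟩
          rw [mem_cenF]
          have h3 : m * g * m⁻¹ = m1 * g * m1⁻¹ := by rw [h2, hm1]
          calc m1⁻¹ * m * g = m1⁻¹ * (m * g * m⁻¹) * m := by group
            _ = m1⁻¹ * (m1 * g * m1⁻¹) * m := by rw [h3]
            _ = g * (m1⁻¹ * m) := by group
      · rintro (hm | ⟨a, ha, rfl⟩)
        · have : m * g * m⁻¹ = g := by rw [hm]; group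
          rw [this]
        · rw [mem_cenF] at ha
          have : m1 * a * g * (m1 * a)⁻¹ = g⁻¹ := by
            calc m1 * a * g * (m1 * a)⁻¹ = m1 * (a * g) * a⁻¹ * m1⁻¹ := by group
              _ = m1 * (g * a) * a⁻¹ * m1⁻¹ := by rw [ha]
              _ = m1 * g * m1⁻¹ := by group
              _ = g⁻¹ := hm1
          rw [this]; group
    have h2 : Disjoint (cenF g) ((cenF g).image (fun a => m1 * a)) := by
      rw [Finset.disjoint_left]
      intro m hm hm'
      rw [mem_cenF] at hm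
      rw [Finset.mem_image] at hm'
      obtain ⟨a, ha, rfl⟩ := hm'
      rw [mem_cenF] at ha
      apply hne
      calc g⁻¹ = m1 * g * m1⁻¹ := hm1.symm
        _ = m1 * (g * a) * a⁻¹ * m1⁻¹ := by group
        _ = m1 * (a * g) * a⁻¹ * m1⁻¹ := by rw [ha]
        _ = (m1 * a * g) * (m1 * a)⁻¹ := by group
        _ = (g * (m1 * a)) * (m1 * a)⁻¹ := by rw [hm]
        _ = g := by group
    rw [h1, Finset.card_union_of_disjoint h2,
      Finset.card_image_of_injective _ (mul_right_injective m1)]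
    ring
  · left
    push Not at hB
    congr 1
    ext m
    rw [mem_nF, mem_cenF]
    constructor
    · intro hm
      rcases hK.inv g m hm with h2 | h2
      · calc m * g = (m * g * m⁻¹) * m := by group
          _ = g * m := by rw [h2]
      · have h3 := hB m h2
        rw [h3] at h2
        calc m * g = (m * g * m⁻¹) * m := by group
          _ = g * m := by rw [h2]
    · intro hm
      have : m * g * m⁻¹ = g := by rw [hm]; group
      rw [this]

open Classical in
theorem card_filter_conj (g : H) (hg : g ∉ Subgroup.center H) (n : H) :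
    (Finset.univ.filter (fun u : H => u ∉ Subgroup.center H ∧
      u * (n * g * n⁻¹) = (n * g * n⁻¹) * u)).card = (cenF g).card - (zF H).card := by
  classical
  have h1 : Finset.univ.filter (fun u : H => u ∉ Subgroup.center H ∧
      u * (n * g * n⁻¹) = (n * g * n⁻¹) * u) =
      ((cenF g) \ zF H).image (fun c => n * c * n⁻¹) := by
    ext u
    rw [Finset.mem_filter, Finset.mem_image]
    constructor
    · rintro ⟨-, hu, hc⟩
      refine ⟨n⁻¹ * u * n, ?_, by group⟩
      rw [Finset.mem_sdiff, mem_cenF, mem_zF]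
      constructor
      · calc n⁻¹ * u * n * g = n⁻¹ * (u * (n * g * n⁻¹)) * n := by group
          _ = n⁻¹ * ((n * g * n⁻¹) * u) * n := by rw [hc]
          _ = g * (n⁻¹ * u * n) := by group
      · intro hz
        apply hu
        have h2 := (inferInstance : (Subgroup.center H).Normal).conj_mem _ hz n
        have h3 : n * (n⁻¹ * u * n) * n⁻¹ = u := by group
        rwa [h3] at h2
    · rintro ⟨c, hc, rfl⟩
      rw [Finset.mem_sdiff, mem_cenF, mem_zF] at hc
      refine ⟨Finset.mem_univ _, conj_not_mem_center hc.2 n, ?_⟩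
      calc n * c * n⁻¹ * (n * g * n⁻¹) = n * (c * g) * n⁻¹ := by group
        _ = n * (g * c) * n⁻¹ := by rw [hc.1]
        _ = n * g * n⁻¹ * (n * c * n⁻¹) := by group
  rw [h1, Finset.card_image_of_injective, Finset.card_sdiff_of_subset (zF_subset_cenF g)]
  intro c c' hcc
  have h2 : n * c * n⁻¹ = n * c' * n⁻¹ := hcc
  exact mul_left_cancel (mul_right_cancel h2)

open Classical in
theorem card_filter_norm (hK : KleinHyp H) (g : H) (hg : g ∉ Subgroup.center H) (u : H)
    (hu : u ∈ uF g) :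
    (Finset.univ.filter (fun n : H => u ∉ Subgroup.center H ∧
      u * (n * g * n⁻¹) = (n * g * n⁻¹) * u)).card = (nF g).card := by
  classical
  rw [mem_uF] at hu
  obtain ⟨huz, n0, hn0⟩ := hu
  have hg0 : n0 * g * n0⁻¹ ∉ Subgroup.center H := conj_not_mem_center hg n0
  have key := hK.comm_iff hg0 huz hn0
  have h1 : Finset.univ.filter (fun n : H => u ∉ Subgroup.center H ∧
      u * (n * g * n⁻¹) = (n * g * n⁻¹) * u) = (nF g).image (fun m => n0 * m) := by
    ext n
    rw [Finset.mem_filter, Finset.mem_image]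
    constructor
    · rintro ⟨-, -, hc⟩
      refine ⟨n0⁻¹ * n, ?_, by group⟩
      rw [mem_nF]
      have h2 := (key (n * g * n⁻¹)).mp hc.symm
      calc n0⁻¹ * n * g * (n0⁻¹ * n)⁻¹ * g
          = n0⁻¹ * ((n * g * n⁻¹) * (n0 * g * n0⁻¹)) * n0 := by group
        _ = n0⁻¹ * ((n0 * g * n0⁻¹) * (n * g * n⁻¹)) * n0 := by rw [h2]
        _ = g * (n0⁻¹ * n * g * (n0⁻¹ * n)⁻¹) := by group
    · rintro ⟨m, hm, rfl⟩
      rw [mem_nF] at hm
      refine ⟨Finset.mem_univ _, huz, ?_⟩
      have h2 : (n0 * m * g * (n0 * m)⁻¹) * (n0 * g * n0⁻¹) =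
          (n0 * g * n0⁻¹) * (n0 * m * g * (n0 * m)⁻¹) := by
        calc (n0 * m * g * (n0 * m)⁻¹) * (n0 * g * n0⁻¹)
            = n0 * ((m * g * m⁻¹) * g) * n0⁻¹ := by group
          _ = n0 * (g * (m * g * m⁻¹)) * n0⁻¹ := by rw [hm]
          _ = (n0 * g * n0⁻¹) * (n0 * m * g * (n0 * m)⁻¹) := by group
      exact ((key _).mpr h2).symm
  rw [h1, Finset.card_image_of_injective _ (mul_right_injective n0)]

open Classical in
theorem card_filter_norm_zero (g : H) (u : H) (hu : u ∉ uF g) :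
    (Finset.univ.filter (fun n : H => u ∉ Subgroup.center H ∧
      u * (n * g * n⁻¹) = (n * g * n⁻¹) * u)).card = 0 := by
  classical
  rw [Finset.card_eq_zero, Finset.filter_eq_empty_iff]
  intro n _ hn
  apply hu
  rw [mem_uF]
  exact ⟨hn.1, n, hn.2⟩

/-- the class equation for one class -/
theorem class_card (hK : KleinHyp H) (g : H) (hg : g ∉ Subgroup.center H) :
    (uF g).card * (nF g).card = Fintype.card H * ((cenF g).card - (zF H).card) := by
  classical
  have h1 : ∑ n : H, (Finset.univ.filter (fun u : H => u ∉ Subgroup.center H ∧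
      u * (n * g * n⁻¹) = (n * g * n⁻¹) * u)).card =
      ∑ u : H, (Finset.univ.filter (fun n : H => u ∉ Subgroup.center H ∧
      u * (n * g * n⁻¹) = (n * g * n⁻¹) * u)).card := by
    simp only [Finset.card_filter]
    exact Finset.sum_comm
  have h2 : ∑ n : H, (Finset.univ.filter (fun u : H => u ∉ Subgroup.center H ∧
      u * (n * g * n⁻¹) = (n * g * n⁻¹) * u)).card =
      Fintype.card H * ((cenF g).card - (zF H).card) := by
    rw [Finset.sum_congr rfl (fun n _ => card_filter_conj g hg n), Finset.sum_const,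
      Finset.card_univ, smul_eq_mul]
  have h3 : ∑ u : H, (Finset.univ.filter (fun n : H => u ∉ Subgroup.center H ∧
      u * (n * g * n⁻¹) = (n * g * n⁻¹) * u)).card = (uF g).card * (nF g).card := by
    have h4 : ∀ u ∈ (Finset.univ : Finset H), (Finset.univ.filter (fun n : H =>
        u ∉ Subgroup.center H ∧ u * (n * g * n⁻¹) = (n * g * n⁻¹) * u)).card =
        if u ∈ uF g then (nF g).card else 0 := by
      intro u _
      by_cases hu : u ∈ uF g
      · rw [if_pos hu]; exact card_filter_norm hK g hg u hu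
      · rw [if_neg hu]; exact card_filter_norm_zero g u hu
    rw [Finset.sum_congr rfl h4, ← Finset.sum_filter, Finset.sum_const, smul_eq_mul]
    congr 1
    congr 1
    ext u
    simp
  rw [← h3, ← h1, h2]

theorem mem_uF_self {g : H} (hg : g ∉ Subgroup.center H) : g ∈ uF g := by
  rw [mem_uF]
  exact ⟨hg, 1, by simp⟩

/-- classes are equal or disjoint -/
theorem uF_eq_of_mem (hK : KleinHyp H) {g u : H} (hg : g ∉ Subgroup.center H) (hu : u ∈ uF g) :
    uF u = uF g := by
  have hu' := hu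
  rw [mem_uF] at hu'
  obtain ⟨huz, n0, hn0⟩ := hu'
  have hg0 : n0 * g * n0⁻¹ ∉ Subgroup.center H := conj_not_mem_center hg n0
  have key := hK.comm_iff hg0 huz hn0
  ext v
  rw [mem_uF, mem_uF]
  constructor
  · rintro ⟨hvz, n, hn⟩
    refine ⟨hvz, n * n0, ?_⟩
    -- v commutes with n u n⁻¹, so n⁻¹ v n commutes with u, hence with n0 g n0⁻¹
    have h1 : (n⁻¹ * v * n) * u = u * (n⁻¹ * v * n) := by
      calc (n⁻¹ * v * n) * u = n⁻¹ * (v * (n * u * n⁻¹)) * n := by group
        _ = n⁻¹ * ((n * u * n⁻¹) * v) * n := by rw [hn]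
        _ = u * (n⁻¹ * v * n) := by group
    have h2 := (key _).mp h1
    calc v * (n * n0 * g * (n * n0)⁻¹) = n * ((n⁻¹ * v * n) * (n0 * g * n0⁻¹)) * n⁻¹ := by group
      _ = n * ((n0 * g * n0⁻¹) * (n⁻¹ * v * n)) * n⁻¹ := by rw [h2]
      _ = (n * n0 * g * (n * n0)⁻¹) * v := by group
  · rintro ⟨hvz, n, hn⟩
    refine ⟨hvz, n * n0⁻¹, ?_⟩
    have h1 : (n0 * n⁻¹ * v * n * n0⁻¹) * (n0 * g * n0⁻¹) =
        (n0 * g * n0⁻¹) * (n0 * n⁻¹ * v * n * n0⁻¹) := by
      calc (n0 * n⁻¹ * v * n * n0⁻¹) * (n0 * g * n0⁻¹)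
          = n0 * n⁻¹ * (v * (n * g * n⁻¹)) * n * n0⁻¹ := by group
        _ = n0 * n⁻¹ * ((n * g * n⁻¹) * v) * n * n0⁻¹ := by rw [hn]
        _ = (n0 * g * n0⁻¹) * (n0 * n⁻¹ * v * n * n0⁻¹) := by group
    have h2 := (key _).mpr h1
    calc v * (n * n0⁻¹ * u * (n * n0⁻¹)⁻¹)
        = (n * n0⁻¹) * ((n0 * n⁻¹ * v * n * n0⁻¹) * u) * (n * n0⁻¹)⁻¹ := by group
      _ = (n * n0⁻¹) * (u * (n0 * n⁻¹ * v * n * n0⁻¹)) * (n * n0⁻¹)⁻¹ := by rw [h2]
      _ = (n * n0⁻¹ * u * (n * n0⁻¹)⁻¹) * v := by group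

theorem uF_disjoint (hK : KleinHyp H) {g g' : H} (hg : g ∉ Subgroup.center H)
    (hg' : g' ∉ Subgroup.center H) (hne : g' ∉ uF g) : Disjoint (uF g) (uF g') := by
  rw [Finset.disjoint_left]
  intro u hu hu'
  apply hne
  rw [← uF_eq_of_mem hK hg hu, uF_eq_of_mem hK hg' hu']
  exact mem_uF_self hg'

/-- centralizers in one class have the same size -/
theorem card_cenF_of_mem (hK : KleinHyp H) {g u : H} (hg : g ∉ Subgroup.center H)
    (hu : u ∈ uF g) : (cenF u).card = (cenF g).card := by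
  classical
  have hu' := hu
  rw [mem_uF] at hu'
  obtain ⟨huz, n0, hn0⟩ := hu'
  have hg0 : n0 * g * n0⁻¹ ∉ Subgroup.center H := conj_not_mem_center hg n0
  have key := hK.comm_iff hg0 huz hn0
  have h1 : cenF u = (cenF g).image (fun c => n0 * c * n0⁻¹) := by
    ext b
    rw [mem_cenF, Finset.mem_image, key]
    constructor
    · intro hb
      refine ⟨n0⁻¹ * b * n0, ?_, by group⟩
      rw [mem_cenF]
      calc n0⁻¹ * b * n0 * g = n0⁻¹ * (b * (n0 * g * n0⁻¹)) * n0 := by group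
        _ = n0⁻¹ * ((n0 * g * n0⁻¹) * b) * n0 := by rw [hb]
        _ = g * (n0⁻¹ * b * n0) := by group
    · rintro ⟨c, hc, rfl⟩
      rw [mem_cenF] at hc
      calc n0 * c * n0⁻¹ * (n0 * g * n0⁻¹) = n0 * (c * g) * n0⁻¹ := by group
        _ = n0 * (g * c) * n0⁻¹ := by rw [hc]
        _ = n0 * g * n0⁻¹ * (n0 * c * n0⁻¹) := by group
  rw [h1, Finset.card_image_of_injective]
  intro c c' hcc
  have h2 : n0 * c * n0⁻¹ = n0 * c' * n0⁻¹ := hcc
  exact mul_left_cancel (mul_right_cancel h2)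

end Count

section Arith

theorem dio_bound {T u ε a : ℕ} (hε : ε = 1 ∨ ε = 2) (ha : 2 ≤ a)
    (e : u * (ε * a) = T * (a - 1)) : T ≤ 4 * u := by
  obtain ⟨b, rfl⟩ : ∃ b, a = b + 2 := ⟨a - 2, by omega⟩
  have h1 : b + 2 - 1 = b + 1 := by omega
  rw [h1] at e
  rcases hε with rfl | rfl
  · nlinarith
  · nlinarith

theorem dio_bound_one {T u a : ℕ} (ha : 2 ≤ a)
    (e : u * (1 * a) = T * (a - 1)) : T ≤ 2 * u := by
  obtain ⟨b, rfl⟩ : ∃ b, a = b + 2 := ⟨a - 2, by omega⟩
  have h1 : b + 2 - 1 = b + 1 := by omega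
  rw [h1] at e
  nlinarith

/-- the two-variable equation -/
theorem dio2 {h b c : ℤ} (hh : 0 < h) (hb : 2 ≤ b) (hc : 2 ≤ c)
    (e : h * (2 * b + 2 * c - b * c) = 4 * (b * c)) :
    (h = 2 * b ∨ h = 2 * c) ∨ (b ≤ 5 ∧ c ≤ 5) := by
  by_cases hb2 : b = 2
  · subst hb2
    left; right
    nlinarith
  by_cases hc2 : c = 2
  · subst hc2
    left; left
    nlinarith
  right
  have hb3 : 3 ≤ b := by omega
  have hc3 : 3 ≤ c := by omega
  have hpos : 0 < 2 * b + 2 * c - b * c := by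
    by_contra hneg
    push Not at hneg
    nlinarith [mul_pos (by linarith : (0:ℤ) < b) (by linarith : (0:ℤ) < c)]
  constructor
  · by_contra hb6
    push Not at hb6
    nlinarith
  · by_contra hc6
    push Not at hc6
    nlinarith

/-- the three-variable equation -/
theorem dio3 {h a b c : ℤ} (hh : 0 < h) (ha : 2 ≤ a) (hb : 2 ≤ b) (hc : 2 ≤ c)
    (e : h * (b * c + a * c + a * b - a * b * c) = 2 * (a * b * c)) :
    (h = 2 * a ∨ h = 2 * b ∨ h = 2 * c) ∨ (a ≤ 5 ∧ b ≤ 5 ∧ c ≤ 5) := by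
  have habc : 0 < a * b * c := by positivity
  have hpos : 0 < b * c + a * c + a * b - a * b * c := by
    by_contra hneg
    push Not at hneg
    nlinarith
  by_cases ha2 : a = 2
  · subst ha2
    have e' : h * (2 * b + 2 * c - b * c) = 4 * (b * c) := by linarith
    rcases dio2 hh hb hc e' with (h1 | h1) | ⟨h1, h2⟩
    · left; right; left; exact h1
    · left; right; right; exact h1
    · right; exact ⟨by norm_num, h1, h2⟩
  by_cases hb2 : b = 2
  · subst hb2
    have e' : h * (2 * a + 2 * c - a * c) = 4 * (a * c) := by linarith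
    rcases dio2 hh ha hc e' with (h1 | h1) | ⟨h1, h2⟩
    · left; left; exact h1
    · left; right; right; exact h1
    · right; exact ⟨h1, by norm_num, h2⟩
  by_cases hc2 : c = 2
  · subst hc2
    have e' : h * (2 * a + 2 * b - a * b) = 4 * (a * b) := by linarith
    rcases dio2 hh ha hb e' with (h1 | h1) | ⟨h1, h2⟩
    · left; left; exact h1
    · left; right; left; exact h1
    · right; exact ⟨h1, h2, by norm_num⟩
  exfalso
  have ha3 : 3 ≤ a := by omega
  have hb3 : 3 ≤ b := by omega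
  have hc3 : 3 ≤ c := by omega
  nlinarith [mul_nonneg (mul_nonneg (by linarith : (0:ℤ) ≤ a - 3) (by linarith : (0:ℤ) ≤ b)) (by linarith : (0:ℤ) ≤ c),
    mul_nonneg (mul_nonneg (by linarith : (0:ℤ) ≤ b - 3) (by linarith : (0:ℤ) ≤ a)) (by linarith : (0:ℤ) ≤ c),
    mul_nonneg (mul_nonneg (by linarith : (0:ℤ) ≤ c - 3) (by linarith : (0:ℤ) ≤ a)) (by linarith : (0:ℤ) ≤ b)]

/-- the mixed two-class equation -/
theorem dio12 {h a b : ℤ} (hh : 0 < h) (ha : 2 ≤ a) (hb : 2 ≤ b)
    (e : h * (a * b - 2 * b - a) + 2 * (a * b) = 0) :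
    h = 2 * b ∨ (a ≤ 5 ∧ b ≤ 5) := by
  by_cases ha2 : a = 2
  · subst ha2
    left; nlinarith
  by_cases ha3 : a = 3
  · subst ha3
    right
    refine ⟨by norm_num, ?_⟩
    by_contra hb6
    push Not at hb6
    nlinarith
  exfalso
  have ha4 : 4 ≤ a := by omega
  nlinarith [mul_nonneg (by linarith : (0:ℤ) ≤ a - 4) (by linarith : (0:ℤ) ≤ b - 2),
    mul_pos (by linarith : (0:ℤ) < a) (by linarith : (0:ℤ) < b)]

theorem one_class {ζ h a ε u : ℕ} (hζ : 0 < ζ) (ha : 2 ≤ a) (hah : a < h) (hε : ε = 1 ∨ ε = 2)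
    (e : u * (ε * a) = ζ * h * (a - 1)) (hu : u + ζ = ζ * h) : False := by
  obtain ⟨b, rfl⟩ : ∃ b, a = b + 1 := ⟨a - 1, by omega⟩
  rw [Nat.add_sub_cancel] at e
  zify at e hu hζ hah ha
  have hu' : (u : ℤ) = ζ * h - ζ := by linarith
  rw [hu'] at e
  rcases hε with rfl | rfl
  · push_cast at e
    nlinarith [mul_pos hζ (by linarith : (0:ℤ) < (h:ℤ) - (b + 1))]
  · push_cast at e
    have h2 : (ζ : ℤ) * ((h:ℤ) * (b + 1) + h - 2 * (b + 1)) = 0 := by linarith
    have h3 : (0:ℤ) < (h:ℤ) * (b + 1) + h - 2 * (b + 1) := by nlinarith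
    nlinarith [mul_pos hζ h3]

theorem two_class {ζ h a1 a2 ε1 ε2 u1 u2 : ℕ} (hζ : 0 < ζ)
    (ha1 : 2 ≤ a1) (ha1h : a1 < h) (hε1 : ε1 = 1 ∨ ε1 = 2)
    (e1 : u1 * (ε1 * a1) = ζ * h * (a1 - 1))
    (ha2 : 2 ≤ a2) (ha2h : a2 < h) (hε2 : ε2 = 1 ∨ ε2 = 2)
    (e2 : u2 * (ε2 * a2) = ζ * h * (a2 - 1))
    (hu : u1 + u2 + ζ = ζ * h) : (h = 2 * a1 ∨ h = 2 * a2) ∨ (a1 ≤ 5 ∧ a2 ≤ 5) := by
  have hb1 := dio_bound hε1 ha1 e1
  have hb2 := dio_bound hε2 ha2 e2
  obtain ⟨b1, rfl⟩ : ∃ b, a1 = b + 1 := ⟨a1 - 1, by omega⟩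
  obtain ⟨b2, rfl⟩ : ∃ b, a2 = b + 1 := ⟨a2 - 1, by omega⟩
  rw [Nat.add_sub_cancel] at e1 e2
  have hh0 : (0 : ℤ) < h := by zify at ha1h; linarith [Int.natCast_nonneg b1]
  have hζ' : (ζ : ℤ) ≠ 0 := by positivity
  rcases hε1 with rfl | rfl <;> rcases hε2 with rfl | rfl
  · exfalso
    have h1 := dio_bound_one ha1 (by rw [Nat.add_sub_cancel]; exact e1)
    have h2 := dio_bound_one ha2 (by rw [Nat.add_sub_cancel]; exact e2)
    omega
  · have key : (ζ : ℤ) * ((h:ℤ) * (((b1:ℤ) + 1) * ((b2:ℤ) + 1) - 2 * ((b2:ℤ) + 1) - ((b1:ℤ) + 1)) +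
        2 * (((b1:ℤ) + 1) * ((b2:ℤ) + 1))) = 0 := by
      zify at e1 e2 hu
      linear_combination -(2 * ((b2:ℤ) + 1)) * e1 - ((b1:ℤ) + 1) * e2 +
        (2 * ((b1:ℤ) + 1) * ((b2:ℤ) + 1)) * hu
    have key2 := (mul_eq_zero.mp key).resolve_left hζ'
    rcases dio12 hh0 (by zify at ha1; linarith) (by zify at ha2; linarith) key2 with h1 | ⟨h1, h2⟩
    · left; right; zify; linarith
    · right; constructor <;> [(zify; linarith); (zify; linarith)]
  · have key : (ζ : ℤ) * ((h:ℤ) * (((b2:ℤ) + 1) * ((b1:ℤ) + 1) - 2 * ((b1:ℤ) + 1) - ((b2:ℤ) + 1)) +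
        2 * (((b2:ℤ) + 1) * ((b1:ℤ) + 1))) = 0 := by
      zify at e1 e2 hu
      linear_combination -(2 * ((b1:ℤ) + 1)) * e2 - ((b2:ℤ) + 1) * e1 +
        (2 * ((b1:ℤ) + 1) * ((b2:ℤ) + 1)) * hu
    have key2 := (mul_eq_zero.mp key).resolve_left hζ'
    rcases dio12 hh0 (by zify at ha2; linarith) (by zify at ha1; linarith) key2 with h1 | ⟨h1, h2⟩
    · left; left; zify; linarith
    · right; constructor <;> [(zify; linarith); (zify; linarith)]
  · exfalso
    have key : (ζ : ℤ) * ((h:ℤ) * (((b1:ℤ) + 1) + ((b2:ℤ) + 1)) -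
        2 * (((b1:ℤ) + 1) * ((b2:ℤ) + 1))) = 0 := by
      zify at e1 e2 hu
      linear_combination ((b2:ℤ) + 1) * e1 + ((b1:ℤ) + 1) * e2 -
        (2 * ((b1:ℤ) + 1) * ((b2:ℤ) + 1)) * hu
    have key2 := (mul_eq_zero.mp key).resolve_left hζ'
    zify at ha1h ha2h
    nlinarith [Int.natCast_nonneg b1, Int.natCast_nonneg b2]

theorem three_class {ζ h a1 a2 a3 ε1 ε2 ε3 u1 u2 u3 : ℕ} (hζ : 0 < ζ)
    (ha1 : 2 ≤ a1) (ha1h : a1 < h) (hε1 : ε1 = 1 ∨ ε1 = 2)
    (e1 : u1 * (ε1 * a1) = ζ * h * (a1 - 1))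
    (ha2 : 2 ≤ a2) (hε2 : ε2 = 1 ∨ ε2 = 2)
    (e2 : u2 * (ε2 * a2) = ζ * h * (a2 - 1))
    (ha3 : 2 ≤ a3) (hε3 : ε3 = 1 ∨ ε3 = 2)
    (e3 : u3 * (ε3 * a3) = ζ * h * (a3 - 1))
    (hu : u1 + u2 + u3 + ζ = ζ * h) :
    (h = 2 * a1 ∨ h = 2 * a2 ∨ h = 2 * a3) ∨ (a1 ≤ 5 ∧ a2 ≤ 5 ∧ a3 ≤ 5) := by
  have hb1 := dio_bound hε1 ha1 e1
  have hb2 := dio_bound hε2 ha2 e2
  have hb3 := dio_bound hε3 ha3 e3
  rcases hε1 with rfl | rfl
  · exfalso
    have h1 := dio_bound_one ha1 e1
    omega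
  rcases hε2 with rfl | rfl
  · exfalso
    have h1 := dio_bound_one ha2 e2
    omega
  rcases hε3 with rfl | rfl
  · exfalso
    have h1 := dio_bound_one ha3 e3
    omega
  obtain ⟨b1, rfl⟩ : ∃ b, a1 = b + 1 := ⟨a1 - 1, by omega⟩
  obtain ⟨b2, rfl⟩ : ∃ b, a2 = b + 1 := ⟨a2 - 1, by omega⟩
  obtain ⟨b3, rfl⟩ : ∃ b, a3 = b + 1 := ⟨a3 - 1, by omega⟩
  rw [Nat.add_sub_cancel] at e1 e2 e3
  have hh0 : (0 : ℤ) < h := by zify at ha1h; linarith [Int.natCast_nonneg b1]
  have hζ' : (ζ : ℤ) ≠ 0 := by positivity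
  have key : (ζ : ℤ) * ((h:ℤ) * (((b2:ℤ) + 1) * ((b3:ℤ) + 1) + ((b1:ℤ) + 1) * ((b3:ℤ) + 1) +
      ((b1:ℤ) + 1) * ((b2:ℤ) + 1) - ((b1:ℤ) + 1) * ((b2:ℤ) + 1) * ((b3:ℤ) + 1)) -
      2 * (((b1:ℤ) + 1) * ((b2:ℤ) + 1) * ((b3:ℤ) + 1))) = 0 := by
    zify at e1 e2 e3 hu
    linear_combination (((b2:ℤ) + 1) * ((b3:ℤ) + 1)) * e1 + (((b1:ℤ) + 1) * ((b3:ℤ) + 1)) * e2 +
      (((b1:ℤ) + 1) * ((b2:ℤ) + 1)) * e3 -
      (2 * ((b1:ℤ) + 1) * ((b2:ℤ) + 1) * ((b3:ℤ) + 1)) * hu
  have key2 := (mul_eq_zero.mp key).resolve_left hζ'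
  have hA1 : (2:ℤ) ≤ (b1:ℤ) + 1 := by zify at ha1; linarith
  have hA2 : (2:ℤ) ≤ (b2:ℤ) + 1 := by zify at ha2; linarith
  have hA3 : (2:ℤ) ≤ (b3:ℤ) + 1 := by zify at ha3; linarith
  rcases dio3 hh0 hA1 hA2 hA3 (by linarith) with (h1 | h1 | h1) | ⟨h1, h2, h3⟩
  · left; left; zify; linarith
  · left; right; left; zify; linarith
  · left; right; right; zify; linarith
  · right; refine ⟨?_, ?_, ?_⟩ <;> (zify; linarith)

end Arith

section Main

variable [Fintype H]

open Classical in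
theorem card_filter_mem (K : Subgroup H) :
    (Finset.univ.filter (fun a => a ∈ K)).card = Nat.card K := by
  rw [Nat.card_eq_fintype_card, Fintype.card_subtype]

theorem zF_card : (zF H).card = Nat.card (Subgroup.center H) := by
  unfold zF
  convert card_filter_mem (Subgroup.center H)

theorem zF_card_pos : 0 < (zF H).card :=
  Finset.card_pos.mpr ⟨1, mem_zF.mpr (Subgroup.one_mem _)⟩

theorem zF_card_dvd : (zF H).card ∣ Fintype.card H := by
  classical
  have h1 : (zF H).card = Nat.card (Subgroup.center H) := zF_card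
  rw [h1, ← Nat.card_eq_fintype_card]
  exact Subgroup.card_subgroup_dvd_card _

/-- numeric data of a class -/
theorem class_data (hK : KleinHyp H) {h : ℕ} (hh : Fintype.card H = (zF H).card * h) (g : H)
    (hg : g ∉ Subgroup.center H) :
    ∃ a ε : ℕ, 2 ≤ a ∧ a < h ∧ (ε = 1 ∨ ε = 2) ∧ (cenF g).card = (zF H).card * a ∧
      (uF g).card * (ε * a) = (zF H).card * h * (a - 1) := by
  classical
  have hζ : 0 < (zF H).card := zF_card_pos
  have hdvd : (zF H).card ∣ (cenF g).card := by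
    have h1 : (zF H).card = Nat.card (Subgroup.center H) := zF_card
    have h2 : (cenF g).card = Nat.card (Subgroup.centralizer ({g} : Set H)) := by
      rw [← card_filter_mem]
      congr 1
      ext a
      simp [cenF, Subgroup.mem_centralizer_iff, eq_comm]
    rw [h1, h2]
    exact Subgroup.card_dvd_of_le (Subgroup.center_le_centralizer _)
  obtain ⟨a, ha⟩ := hdvd
  have hgc : g ∈ cenF g := mem_cenF.mpr rfl
  have hlt : (zF H).card < (cenF g).card := by
    apply Finset.card_lt_card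
    rw [Finset.ssubset_iff_of_subset (zF_subset_cenF g)]
    exact ⟨g, hgc, fun hz => hg (mem_zF.mp hz)⟩
  have ha2 : 2 ≤ a := by
    by_contra hlt2
    push Not at hlt2
    have : a ≤ 1 := by omega
    have : (zF H).card * a ≤ (zF H).card * 1 := Nat.mul_le_mul_left _ this
    omega
  have hah : a < h := by
    by_contra hge
    push Not at hge
    have h1 : Fintype.card H ≤ (cenF g).card := by
      rw [hh, ha]; exact Nat.mul_le_mul_left _ hge
    have h2 : cenF g = Finset.univ := Finset.eq_univ_of_card _ (le_antisymm (Finset.card_le_univ _) h1)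
    apply hg
    rw [Subgroup.mem_center_iff]
    intro b
    have : b ∈ cenF g := by rw [h2]; exact Finset.mem_univ b
    exact mem_cenF.mp this
  obtain ⟨b, rfl⟩ : ∃ b, a = b + 1 := ⟨a - 1, by omega⟩
  have hcc := class_card hK g hg
  have hsub : (cenF g).card - (zF H).card = (zF H).card * b := by
    rw [ha]; rw [Nat.mul_succ]; omega
  rw [hsub, hh] at hcc
  rcases card_nF hK g with hn | hn
  · refine ⟨b + 1, 1, ha2, hah, Or.inl rfl, ha, ?_⟩
    rw [hn, ha] at hcc
    rw [Nat.add_sub_cancel, one_mul]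
    apply Nat.eq_of_mul_eq_mul_left hζ
    calc (zF H).card * ((uF g).card * (b + 1)) = (uF g).card * ((zF H).card * (b + 1)) := by ring
      _ = (zF H).card * h * ((zF H).card * b) := hcc
      _ = (zF H).card * ((zF H).card * h * b) := by ring
  · refine ⟨b + 1, 2, ha2, hah, Or.inr rfl, ha, ?_⟩
    rw [hn, ha] at hcc
    rw [Nat.add_sub_cancel]
    apply Nat.eq_of_mul_eq_mul_left hζ
    calc (zF H).card * ((uF g).card * (2 * (b + 1)))
        = (uF g).card * (2 * ((zF H).card * (b + 1))) := by ring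
      _ = (zF H).card * h * ((zF H).card * b) := hcc
      _ = (zF H).card * ((zF H).card * h * b) := by ring

/-- **Klein-type classification**: a non-abelian finite group in which centralizers of
non-central elements are abelian and conjugates of `g` in the centralizer of `g` are `g` or
`g⁻¹` either has an abelian centralizer of index two, or all centralizers of non-central
elements have index `2, 3, 4, 5` over the centre. -/
theorem klein_main (hK : KleinHyp H) (hna : ∃ a b : H, a * b ≠ b * a) :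
    (∃ g : H, g ∉ Subgroup.center H ∧ 2 * (cenF g).card = Fintype.card H) ∨
    (∀ g : H, g ∉ Subgroup.center H →
      ∃ a : ℕ, 2 ≤ a ∧ a ≤ 5 ∧ (cenF g).card = (zF H).card * a) := by
  classical
  have hζ : 0 < (zF H).card := zF_card_pos
  obtain ⟨h, hh⟩ := zF_card_dvd (H := H)
  have hS : ∀ s : Finset H, (∀ u ∈ s, u ∉ Subgroup.center H) →
      s.card + (zF H).card ≤ (zF H).card * h := by
    intro s hs
    rw [← hh, ← Finset.card_univ, ← Finset.card_union_of_disjoint]
    · exact Finset.card_le_card (Finset.subset_univ _)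
    · rw [Finset.disjoint_left]
      intro u hu hz
      exact hs u hu (mem_zF.mp hz)
  have hS' : ∀ s : Finset H, (∀ u ∈ s, u ∉ Subgroup.center H) →
      (∀ u : H, u ∉ Subgroup.center H → u ∈ s) → s.card + (zF H).card = (zF H).card * h := by
    intro s hs hc
    rw [← hh, ← Finset.card_univ, ← Finset.card_union_of_disjoint]
    · congr 1
      ext u
      simp only [Finset.mem_union, Finset.mem_univ, iff_true]
      by_cases hu : u ∈ Subgroup.center H
      · right; exact mem_zF.mpr hu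
      · left; exact hc u hu
    · rw [Finset.disjoint_left]
      intro u hu hz
      exact hs u hu (mem_zF.mp hz)
  have hU : ∀ g : H, ∀ u ∈ uF g, u ∉ Subgroup.center H := fun g u hu => (mem_uF.mp hu).1
  obtain ⟨g1, hg1⟩ : ∃ g : H, g ∉ Subgroup.center H := by
    obtain ⟨a, b, hab⟩ := hna
    refine ⟨b, fun hb => hab ?_⟩
    exact (Subgroup.mem_center_iff.mp hb a)
  obtain ⟨a1, ε1, ha1, ha1h, hε1, hc1, he1⟩ := class_data hK hh g1 hg1
  by_cases c1 : ∀ u : H, u ∉ Subgroup.center H → u ∈ uF g1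
  · exfalso
    exact one_class hζ ha1 ha1h hε1 he1 (hS' (uF g1) (hU g1) c1)
  push Not at c1
  obtain ⟨g2, hg2, hg2'⟩ := c1
  obtain ⟨a2, ε2, ha2, ha2h, hε2, hc2, he2⟩ := class_data hK hh g2 hg2
  have d12 := uF_disjoint hK hg1 hg2 hg2'
  by_cases c2 : ∀ u : H, u ∉ Subgroup.center H → u ∈ uF g1 ∪ uF g2
  · have hcov := hS' (uF g1 ∪ uF g2) (by
      intro u hu
      rcases Finset.mem_union.mp hu with h1 | h1
      · exact hU g1 u h1
      · exact hU g2 u h1) c2
    rw [Finset.card_union_of_disjoint d12] at hcov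
    rcases two_class hζ ha1 ha1h hε1 he1 ha2 ha2h hε2 he2 hcov with (h1 | h1) | ⟨h1, h2⟩
    · left
      exact ⟨g1, hg1, by rw [hc1, hh, h1]; ring⟩
    · left
      exact ⟨g2, hg2, by rw [hc2, hh, h1]; ring⟩
    · right
      intro g hg
      rcases Finset.mem_union.mp (c2 g hg) with hm | hm
      · exact ⟨a1, ha1, h1, by rw [card_cenF_of_mem hK hg1 hm, hc1]⟩
      · exact ⟨a2, ha2, h2, by rw [card_cenF_of_mem hK hg2 hm, hc2]⟩
  push Not at c2
  obtain ⟨g3, hg3, hg3'⟩ := c2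
  rw [Finset.mem_union, not_or] at hg3'
  obtain ⟨a3, ε3, ha3, ha3h, hε3, hc3, he3⟩ := class_data hK hh g3 hg3
  have d13 := uF_disjoint hK hg1 hg3 hg3'.1
  have d23 := uF_disjoint hK hg2 hg3 hg3'.2
  have d123 : Disjoint (uF g1 ∪ uF g2) (uF g3) := Finset.disjoint_union_left.mpr ⟨d13, d23⟩
  by_cases c3 : ∀ u : H, u ∉ Subgroup.center H → u ∈ uF g1 ∪ uF g2 ∪ uF g3
  · have hcov := hS' (uF g1 ∪ uF g2 ∪ uF g3) (by
      intro u hu
      rcases Finset.mem_union.mp hu with h1 | h1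
      · rcases Finset.mem_union.mp h1 with h2 | h2
        · exact hU g1 u h2
        · exact hU g2 u h2
      · exact hU g3 u h1) c3
    rw [Finset.card_union_of_disjoint d123, Finset.card_union_of_disjoint d12] at hcov
    rcases three_class hζ ha1 ha1h hε1 he1 ha2 hε2 he2 ha3 hε3 he3 hcov with
      (h1 | h1 | h1) | ⟨h1, h2, h3⟩
    · left
      exact ⟨g1, hg1, by rw [hc1, hh, h1]; ring⟩
    · left
      exact ⟨g2, hg2, by rw [hc2, hh, h1]; ring⟩
    · left
      exact ⟨g3, hg3, by rw [hc3, hh, h1]; ring⟩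
    · right
      intro g hg
      rcases Finset.mem_union.mp (c3 g hg) with hm | hm
      · rcases Finset.mem_union.mp hm with hm | hm
        · exact ⟨a1, ha1, h1, by rw [card_cenF_of_mem hK hg1 hm, hc1]⟩
        · exact ⟨a2, ha2, h2, by rw [card_cenF_of_mem hK hg2 hm, hc2]⟩
      · exact ⟨a3, ha3, h3, by rw [card_cenF_of_mem hK hg3 hm, hc3]⟩
  push Not at c3
  obtain ⟨g4, hg4, hg4'⟩ := c3
  rw [Finset.mem_union, Finset.mem_union, not_or, not_or] at hg4'
  obtain ⟨a4, ε4, ha4, ha4h, hε4, hc4, he4⟩ := class_data hK hh g4 hg4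
  have d14 := uF_disjoint hK hg1 hg4 hg4'.1.1
  have d24 := uF_disjoint hK hg2 hg4 hg4'.1.2
  have d34 := uF_disjoint hK hg3 hg4 hg4'.2
  have d1234 : Disjoint (uF g1 ∪ uF g2 ∪ uF g3) (uF g4) :=
    Finset.disjoint_union_left.mpr ⟨Finset.disjoint_union_left.mpr ⟨d14, d24⟩, d34⟩
  exfalso
  have hle := hS (uF g1 ∪ uF g2 ∪ uF g3 ∪ uF g4) (by
    intro u hu
    rcases Finset.mem_union.mp hu with h1 | h1
    · rcases Finset.mem_union.mp h1 with h2 | h2
      · rcases Finset.mem_union.mp h2 with h3 | h3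
        · exact hU g1 u h3
        · exact hU g2 u h3
      · exact hU g3 u h2
    · exact hU g4 u h1)
  rw [Finset.card_union_of_disjoint d1234, Finset.card_union_of_disjoint d123,
    Finset.card_union_of_disjoint d12] at hle
  have b1 := dio_bound hε1 ha1 he1
  have b2 := dio_bound hε2 ha2 he2
  have b3 := dio_bound hε3 ha3 he3
  have b4 := dio_bound hε4 ha4 he4
  omega

end Main

end ZKlein

end Cfsg.Agent.Helper56
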