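import Mathlib

/-!
# Fixed-point-free ring representations of a group: basic identities

`Fpf ρ` for a monoid hom `ρ : G →* R` into a ring says that `ρ g - 1` is a unit for every
`g ≠ 1` (the abstract form of a fixed-point-free action on an abelian group).
-/

namespace Cfsg.Agent.Helper56

section ZRing

variable {G : Type*} [Group G] {R : Type*} [Ring R]

/-- fixed-point-free ring representation -/
def Fpf (ρ : G →* R) : Prop := ∀ g : G, g ≠ 1 → IsUnit (ρ g - 1)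

theorem rho_mul_inv (ρ : G →* R) (g : G) : ρ g * ρ g⁻¹ = 1 := by
  rw [← map_mul, mul_inv_cancel, map_one]

theorem rho_inv_mul (ρ : G →* R) (g : G) : ρ g⁻¹ * ρ g = 1 := by
  rw [← map_mul, inv_mul_cancel, map_one]

theorem isUnit_rho (ρ : G →* R) (g : G) : IsUnit (ρ g) :=
  ⟨⟨ρ g, ρ g⁻¹, rho_mul_inv ρ g, rho_inv_mul ρ g⟩, rfl⟩

variable {ρ : G →* R}

theorem Fpf.isUnit_sub (h : Fpf ρ) {a b : G} (hab : a ≠ b) : IsUnit (ρ a - ρ b) := by
  have h1 : b⁻¹ * a ≠ 1 := by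
    intro e
    apply hab
    have : a = b * (b⁻¹ * a) := by group
    rw [this, e, mul_one]
  have h2 : ρ a - ρ b = ρ b * (ρ (b⁻¹ * a) - 1) := by
    rw [mul_sub, mul_one, ← map_mul]
    congr 2
    group
  rw [h2]
  exact (isUnit_rho ρ b).mul (h _ h1)

theorem Fpf.injective [Nontrivial R] (h : Fpf ρ) : Function.Injective ρ := by
  intro a b hab
  by_contra hne
  have h1 := h.isUnit_sub hne
  rw [hab, sub_self] at h1
  exact not_isUnit_zero h1

theorem Fpf.eq_of_sub_mul_eq_zero (h : Fpf ρ) {a b : G} {r : R} (hr : r ≠ 0)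
    (e : (ρ a - ρ b) * r = 0) : a = b := by
  by_contra hne
  exact hr ((h.isUnit_sub hne).mul_right_eq_zero.mp e)

theorem Fpf.eq_of_mul_sub_eq_zero (h : Fpf ρ) {a b : G} {r : R} (hr : r ≠ 0)
    (e : r * (ρ a - ρ b) = 0) : a = b := by
  by_contra hne
  exact hr ((h.isUnit_sub hne).mul_left_eq_zero.mp e)

/-- an involution acts as `-1` -/
theorem Fpf.rho_invol (h : Fpf ρ) {z : G} (hz : z ≠ 1) (hz2 : z * z = 1) : ρ z = -1 := by
  have h1 : (ρ z - 1) * (ρ z + 1) = 0 := by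
    have h2 : ρ z * ρ z = 1 := by rw [← map_mul, hz2, map_one]
    calc (ρ z - 1) * (ρ z + 1) = ρ z * ρ z - 1 := by noncomm_ring
      _ = 0 := by rw [h2, sub_self]
  have h3 := (h z hz).mul_right_eq_zero.mp h1
  exact eq_neg_of_add_eq_zero_left h3

theorem Fpf.sq_eq_one [Nontrivial R] (h : Fpf ρ) {z g : G} (hz : z ≠ 1) (hz2 : z * z = 1)
    (hg : g * g = 1) : g = 1 ∨ g = z := by
  by_cases hg1 : g = 1
  · left; exact hg1
  · right
    apply h.injective
    rw [h.rho_invol hg1 hg, h.rho_invol hz hz2]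

theorem Fpf.invol_comm [Nontrivial R] (h : Fpf ρ) {z : G} (hz : z ≠ 1) (hz2 : z * z = 1)
    (g : G) : g * z = z * g := by
  have h1 : (g * z * g⁻¹) * (g * z * g⁻¹) = 1 := by
    calc (g * z * g⁻¹) * (g * z * g⁻¹) = g * (z * z) * g⁻¹ := by group
      _ = 1 := by rw [hz2]; group
  rcases h.sq_eq_one hz hz2 h1 with h2 | h2
  · exfalso
    apply hz
    calc z = g⁻¹ * (g * z * g⁻¹) * g := by group
      _ = 1 := by rw [h2]; group
  · calc g * z = (g * z * g⁻¹) * g := by group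
      _ = z * g := by rw [h2]

theorem Fpf.isUnit_two (h : Fpf ρ) {z : G} (hz : z ≠ 1) (hz2 : z * z = 1) : IsUnit (2 : R) := by
  have h1 := h z hz
  rw [h.rho_invol hz hz2] at h1
  have h2 : (-1 : R) - 1 = -2 := by norm_num
  rw [h2] at h1
  have h3 := h1.neg
  rwa [neg_neg] at h3

/-- an element of order three satisfies `x² + x + 1 = 0` -/
theorem Fpf.rho_order3 (h : Fpf ρ) {x : G} (hx : x ≠ 1) (hx3 : x ^ 3 = 1) :
    ρ x * ρ x + ρ x + 1 = 0 := by
  have h1 : (ρ x - 1) * (ρ x * ρ x + ρ x + 1) = 0 := by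
    have h2 : ρ x * ρ x * ρ x = 1 := by
      rw [← map_mul, ← map_mul, ← map_one ρ]
      congr 1
      rw [← hx3, pow_succ, pow_two]
    calc (ρ x - 1) * (ρ x * ρ x + ρ x + 1) = ρ x * ρ x * ρ x - 1 := by noncomm_ring
      _ = 0 := by rw [h2, sub_self]
  exact (h x hx).mul_right_eq_zero.mp h1

theorem Fpf.rho_inv_order3 (h : Fpf ρ) {x : G} (hx : x ≠ 1) (hx3 : x ^ 3 = 1) :
    ρ x⁻¹ = -1 - ρ x := by
  have h1 := h.rho_order3 hx hx3
  have h2 : ρ x⁻¹ * (ρ x * ρ x + ρ x + 1) = 0 := by rw [h1, mul_zero]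
  have h3 : ρ x⁻¹ * (ρ x * ρ x + ρ x + 1) = ρ x + 1 + ρ x⁻¹ := by
    rw [mul_add, mul_add, ← mul_assoc, rho_inv_mul, one_mul, mul_one]
  rw [h3] at h2
  rw [eq_sub_iff_add_eq]
  linear_combination (norm := abel) h2

theorem Fpf.isUnit_three (h : Fpf ρ) {x : G} (hx : x ≠ 1) (hx3 : x ^ 3 = 1) :
    IsUnit (3 : R) := by
  have h1 := h.rho_order3 hx hx3
  have h2 : (ρ x - 1) * (ρ x - 1) = -(3 * ρ x) := by
    calc (ρ x - 1) * (ρ x - 1) = (ρ x * ρ x + ρ x + 1) - 3 * ρ x := by noncomm_ring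
      _ = -(3 * ρ x) := by rw [h1, zero_sub]
  have h3 : IsUnit (3 * ρ x) := by
    have := ((h x hx).mul (h x hx))
    rw [h2] at this
    have h4 := this.neg
    rwa [neg_neg] at h4
  have h5 : (3 : R) = 3 * ρ x * ρ x⁻¹ := by
    rw [mul_assoc, rho_mul_inv, mul_one]
  rw [h5]
  exact h3.mul (isUnit_rho ρ _)

/-- an element of order four squares to `-1` -/
theorem Fpf.rho_order4 (h : Fpf ρ) {t : G} (ht2 : t * t ≠ 1) (ht4 : (t * t) * (t * t) = 1) :
    ρ t * ρ t = -1 := by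
  rw [← map_mul]
  exact h.rho_invol ht2 ht4

/-- trace `2` forces the identity -/
theorem Fpf.eq_one_of_tr [Nontrivial R] (h : Fpf ρ) {g : G} (hg : ρ g + ρ g⁻¹ = 2) : g = 1 := by
  by_contra hne
  have h1 : (ρ g - 1) * (ρ g - 1) = 0 := by
    have h2 : ρ g⁻¹ = 2 - ρ g := by rw [← hg]; abel
    have h3 := rho_mul_inv ρ g
    rw [h2] at h3
    calc (ρ g - 1) * (ρ g - 1) = -(ρ g * (2 - ρ g)) + 1 := by noncomm_ring
      _ = 0 := by rw [h3]; norm_num
  have h4 := (h g hne).mul_right_eq_zero.mp h1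
  exact not_isUnit_zero (h4 ▸ h g hne)

/-- trace `-2` forces the involution -/
theorem Fpf.rho_eq_neg_one_of_tr [Nontrivial R] (h : Fpf ρ) {z g : G} (hz : z ≠ 1) (hz2 : z * z = 1)
    (hg : ρ g + ρ g⁻¹ = -2) : g = z := by
  by_contra hne
  have h0 := h.isUnit_sub hne
  rw [h.rho_invol hz hz2, sub_neg_eq_add] at h0
  have h1 : (ρ g + 1) * (ρ g + 1) = 0 := by
    have h2 : ρ g⁻¹ = -2 - ρ g := by rw [← hg]; abel
    have h3 := rho_mul_inv ρ g
    rw [h2] at h3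
    calc (ρ g + 1) * (ρ g + 1) = -(ρ g * (-2 - ρ g)) + 1 := by noncomm_ring
      _ = 0 := by rw [h3]; norm_num
  have h4 := h0.mul_right_eq_zero.mp h1
  exact not_isUnit_zero (h4 ▸ h0)

/-- geometric sums of non-identity elements vanish -/
theorem Fpf.geom_sum_eq_zero (h : Fpf ρ) {a : G} {n : ℕ} (ha : a ≠ 1) (han : a ^ n = 1) :
    ∑ i ∈ Finset.range n, ρ a ^ i = 0 := by
  have h1 := mul_geom_sum (ρ a) n
  rw [← map_pow, han, map_one, sub_self] at h1
  exact (h a ha).mul_right_eq_zero.mp h1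

end ZRing

end Cfsg.Agent.Helper56
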