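import Mathlib
import Cfsg.Agent.Helper56.ZRing
import Cfsg.Agent.Helper56.ZKlein

/-!
# Quadratic groups (all traces central) satisfy the hypotheses of the Klein-type counting
-/

namespace Cfsg.Agent.Helper56

section ZQuad

variable {G : Type*} [Group G] {R : Type*} [Ring R] {ρ : G →* R}

theorem Fpf.mem_center_of_sq [Nontrivial R] (h : Fpf ρ) {g : G} (hg : g * g = 1) :
    g ∈ Subgroup.center G := by
  by_cases hg1 : g = 1
  · rw [hg1]; exact Subgroup.one_mem _
  · rw [Subgroup.mem_center_iff]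
    intro k
    exact h.invol_comm hg1 hg k

theorem Fpf.isUnit_sub_inv (h : Fpf ρ) {g : G} (hg : g * g ≠ 1) : IsUnit (ρ g - ρ g⁻¹) := by
  apply h.isUnit_sub
  intro e
  apply hg
  calc g * g = g * g⁻¹ := by rw [← e]
    _ = 1 := mul_inv_cancel g

/-- quadratic representation: all traces commute with the image -/
def Quad (ρ : G →* R) : Prop := ∀ a k : G, Commute (ρ a + ρ a⁻¹) (ρ k)

/-- in a quadratic fixed-point-free group the centralizer of an element which is not an involution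
is abelian -/
theorem Fpf.comm_of_quad [Nontrivial R] (h : Fpf ρ) (h2 : IsUnit (2 : R)) (hq : Quad ρ)
    {g : G} (hgg : g * g ≠ 1) {a b : G} (hag : a * g = g * a) (hbg : b * g = g * b) :
    a * b = b * a := by
  have h4 : IsUnit (4 : R) := by
    have : (4 : R) = 2 * 2 := by norm_num
    rw [this]; exact h2.mul h2
  have hu := h.isUnit_sub_inv hgg
  -- `u * (ρ c - ρ c⁻¹)` is central for `c` commuting with `g`
  have key : ∀ c : G, c * g = g * c → ∀ k : G,
      Commute ((ρ g - ρ g⁻¹) * (ρ c - ρ c⁻¹)) (ρ k) := by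
    intro c hc k
    have e1 : (ρ g - ρ g⁻¹) * (ρ c - ρ c⁻¹) =
        2 * (ρ (g * c) + ρ (g * c)⁻¹) - (ρ g + ρ g⁻¹) * (ρ c + ρ c⁻¹) := by
      have e2 : ρ (g * c)⁻¹ = ρ g⁻¹ * ρ c⁻¹ := by
        rw [← map_mul]; congr 1
        rw [mul_inv_rev]
        have : c⁻¹ * g⁻¹ = (g * c)⁻¹ := by group
        rw [this, ← hc]; group
      rw [e2, map_mul]
      noncomm_ring
    rw [e1]
    exact (((Commute.ofNat_left 2 _).mul_left (hq (g * c) k))).sub_left
      ((hq g k).mul_left (hq c k))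
  -- commutation consequences
  have comm_diff : ∀ (x : R), (∀ k : G, Commute x (ρ k)) → ∀ c : G, Commute x (ρ c - ρ c⁻¹) :=
    fun x hx c => (hx c).sub_right (hx c⁻¹)
  set u := ρ g - ρ g⁻¹ with hu_def
  set A := ρ a - ρ a⁻¹ with hA_def
  set B := ρ b - ρ b⁻¹ with hB_def
  have hcA := key a hag
  have hcB := key b hbg
  have h1 : Commute (u * A) u := comm_diff _ hcA g
  have h2' : Commute (u * A) B := comm_diff _ hcA b
  have h3 : Commute (u * B) u := comm_diff _ hcB g
  have hAu : A * u = u * A := by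
    have : u * (A * u) = u * (u * A) := by
      rw [← mul_assoc, h1.eq]
    exact hu.mul_left_cancel this
  have hBu : B * u = u * B := by
    have : u * (B * u) = u * (u * B) := by
      rw [← mul_assoc, h3.eq]
    exact hu.mul_left_cancel this
  have hAB : A * B = B * A := by
    have e1 : u * (u * (A * B)) = u * (u * (B * A)) := by
      calc u * (u * (A * B)) = u * ((u * A) * B) := by rw [mul_assoc]
        _ = u * (B * (u * A)) := by rw [h2'.eq]
        _ = (u * B) * (u * A) := by rw [mul_assoc]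
        _ = u * (B * u) * A := by noncomm_ring
        _ = u * (u * B) * A := by rw [hBu]
        _ = u * (u * (B * A)) := by noncomm_ring
    exact hu.mul_left_cancel (hu.mul_left_cancel e1)
  -- from `A B = B A` to `ρ a ρ b = ρ b ρ a`
  have ta : ∀ k : G, Commute (ρ a + ρ a⁻¹) (ρ k) := hq a
  have tb : ∀ k : G, Commute (ρ b + ρ b⁻¹) (ρ k) := hq b
  have eA : A = 2 * ρ a - (ρ a + ρ a⁻¹) := by rw [hA_def]; noncomm_ring
  have eB : B = 2 * ρ b - (ρ b + ρ b⁻¹) := by rw [hB_def]; noncomm_ring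
  have e4 : 4 * (ρ a * ρ b - ρ b * ρ a) = 0 := by
    have e5 : A * B - B * A = 4 * (ρ a * ρ b - ρ b * ρ a) := by
      rw [eA, eB]
      have c1 := (tb a).eq
      have c2 := (ta b).eq
      have c3 : (ρ a + ρ a⁻¹) * (ρ b + ρ b⁻¹) = (ρ b + ρ b⁻¹) * (ρ a + ρ a⁻¹) :=
        ((ta b).add_right (ta b⁻¹)).eq
      generalize ρ a + ρ a⁻¹ = s at c1 c2 c3
      generalize ρ b + ρ b⁻¹ = t at c1 c2 c3
      linear_combination (norm := noncomm_ring) (2 : R) * c1 - (2 : R) * c2 + c3
    rw [← e5, hAB, sub_self]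
  have e6 := h4.mul_right_eq_zero.mp e4
  apply h.injective
  rw [map_mul, map_mul]
  exact sub_eq_zero.mp e6

/-- a fixed-point-free quadratic group satisfies the Klein hypotheses -/
theorem Fpf.kleinHyp [Nontrivial R] (h : Fpf ρ) (h2 : IsUnit (2 : R))
    (hq : Quad ρ) : KleinHyp G := by
  constructor
  · intro g hg a b hag hbg
    have hgg : g * g ≠ 1 := fun e => hg (h.mem_center_of_sq e)
    exact h.comm_of_quad h2 hq hgg hag hbg
  · intro g n hc
    by_cases hne : n * g * n⁻¹ = g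
    · left; exact hne
    · right
      have hu := h.isUnit_sub hne
      have etr : ρ (n * g * n⁻¹) + ρ (n * g * n⁻¹)⁻¹ = ρ g + ρ g⁻¹ := by
        have e1 : (n * g * n⁻¹)⁻¹ = n * g⁻¹ * n⁻¹ := by group
        rw [e1, map_mul, map_mul, map_mul, map_mul, ← add_mul, ← mul_add, (hq g n).symm.eq, mul_assoc,
          rho_mul_inv, mul_one]
      have e2 : (ρ (n * g * n⁻¹) - ρ g) * (ρ (n * g * n⁻¹) - ρ g⁻¹) = 0 := by
        have c1 : ρ (n * g * n⁻¹) * ρ g = ρ g * ρ (n * g * n⁻¹) := by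
          rw [← map_mul, ← map_mul, hc]
        have c2 : ρ (n * g * n⁻¹) * ρ (n * g * n⁻¹)⁻¹ = 1 := rho_mul_inv ρ _
        have c3 : ρ (n * g * n⁻¹)⁻¹ = ρ g + ρ g⁻¹ - ρ (n * g * n⁻¹) := by
          rw [← etr]; abel
        rw [c3] at c2
        have c4 := rho_mul_inv ρ g
        generalize ρ (n * g * n⁻¹) = y at c1 c2 ⊢
        linear_combination (norm := noncomm_ring) (-1 : R) * c2 + c1 + c4
      have e3 := hu.mul_right_eq_zero.mp e2
      apply h.injective
      exact sub_eq_zero.mp e3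

/-- in a nonabelian quadratic fixed-point-free group central elements square to one -/
theorem Fpf.center_sq [Nontrivial R] (h : Fpf ρ) (h2 : IsUnit (2 : R)) (hq : Quad ρ)
    (hna : ∃ a b : G, a * b ≠ b * a) {g : G} (hg : g ∈ Subgroup.center G) : g * g = 1 := by
  by_contra hgg
  obtain ⟨a, b, hab⟩ := hna
  rw [Subgroup.mem_center_iff] at hg
  exact hab (h.comm_of_quad h2 hq hgg (hg a) (hg b))

theorem cenF_card {H : Type*} [Group H] [Fintype H] (g : H) :
    (cenF g).card = Nat.card (Subgroup.centralizer ({g} : Set H)) := by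
  classical
  rw [← card_filter_mem]
  congr 1
  ext a
  simp [cenF, Subgroup.mem_centralizer_iff, eq_comm]

/-- orders of elements in a nonabelian quadratic fixed-point-free group without an abelian
subgroup of index two -/
theorem Fpf.quad_orders [Nontrivial R] [Finite G] (h : Fpf ρ) (h2 : IsUnit (2 : R)) (hq : Quad ρ)
    (hna : ∃ a b : G, a * b ≠ b * a) :
    (∃ A : Subgroup G, A.index = 2 ∧ ∀ a ∈ A, ∀ b ∈ A, a * b = b * a) ∨
    ∀ g : G, ∃ a : ℕ, 1 ≤ a ∧ a ≤ 5 ∧ g ^ a * g ^ a = 1 := by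
  classical
  have : Fintype G := Fintype.ofFinite G
  have hK := h.kleinHyp h2 hq
  rcases klein_main hK hna with ⟨g, hg, hcard⟩ | hall
  · left
    refine ⟨Subgroup.centralizer {g}, ?_, ?_⟩
    · have h1 := cenF_card g
      have h3 := (Subgroup.centralizer ({g} : Set G)).card_mul_index
      rw [← h1, Nat.card_eq_fintype_card, ← hcard] at h3
      have hpos : 0 < (cenF g).card := Finset.card_pos.mpr ⟨g, mem_cenF.mpr rfl⟩
      rw [mul_comm] at h3
      exact Nat.eq_of_mul_eq_mul_right hpos h3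
    · intro a ha b hb
      rw [Subgroup.mem_centralizer_iff] at ha hb
      exact hK.ca g hg a b (ha g rfl).symm (hb g rfl).symm
  · right
    intro g
    by_cases hgc : g ∈ Subgroup.center G
    · exact ⟨1, le_refl _, by norm_num, by simpa using h.center_sq h2 hq hna hgc⟩
    · obtain ⟨a, ha2, ha5, hca⟩ := hall g hgc
      refine ⟨a, by omega, ha5, ?_⟩
      have hmem : g ^ a ∈ Subgroup.center G := by
        set C := Subgroup.centralizer ({g} : Set G) with hC
        have hgC : g ∈ C := by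
          rw [hC, Subgroup.mem_centralizer_iff]
          intro k hk
          rw [Set.mem_singleton_iff] at hk
          rw [hk]
        have hle : Subgroup.center G ≤ C := Subgroup.center_le_centralizer _
        have hidx : ((Subgroup.center G).subgroupOf C).index = a := by
          have e1 := ((Subgroup.center G).subgroupOf C).card_mul_index
          rw [Nat.card_congr (Subgroup.subgroupOfEquivOfLe hle).toEquiv, ← zF_card, ← cenF_card,
            hca] at e1
          exact Nat.eq_of_mul_eq_mul_left zF_card_pos e1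
        have e2 := Subgroup.pow_index_mem ((Subgroup.center G).subgroupOf C) ⟨g, hgC⟩
        rw [hidx, Subgroup.mem_subgroupOf] at e2
        exact e2
      exact h.center_sq h2 hq hna hmem

/-- the possible traces of an element `g` with `g ^ (2 * a) = 1`, `a ≤ 5` -/
theorem Fpf.trace_type [Nontrivial R] (h : Fpf ρ) {g : G} {a : ℕ} (ha1 : 1 ≤ a) (ha5 : a ≤ 5)
    (hg : g ^ a * g ^ a = 1) :
    ρ g + ρ g⁻¹ = 2 ∨ ρ g + ρ g⁻¹ = -2 ∨ ρ g + ρ g⁻¹ = 0 ∨ ρ g + ρ g⁻¹ = -1 ∨ ρ g + ρ g⁻¹ = 1 ∨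
      (ρ g + ρ g⁻¹) * (ρ g + ρ g⁻¹) = 2 ∨
      (ρ g + ρ g⁻¹) * (ρ g + ρ g⁻¹) + (ρ g + ρ g⁻¹) - 1 = 0 ∨
      (ρ g + ρ g⁻¹) * (ρ g + ρ g⁻¹) - (ρ g + ρ g⁻¹) - 1 = 0 := by
  have huv := rho_mul_inv ρ g
  have hvu := rho_inv_mul ρ g
  -- the case `g * g = 1`
  have T1 : g * g = 1 → ρ g + ρ g⁻¹ = 2 ∨ ρ g + ρ g⁻¹ = -2 := by
    intro e
    have e' : g⁻¹ = g := inv_eq_of_mul_eq_one_left e
    by_cases hg1 : g = 1
    · left; rw [hg1]; simp; norm_num
    · right; rw [e', h.rho_invol hg1 e]; norm_num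
  -- the case `(g * g) * (g * g) = 1`
  have T2 : (g * g) * (g * g) = 1 → ρ g + ρ g⁻¹ = 2 ∨ ρ g + ρ g⁻¹ = -2 ∨ ρ g + ρ g⁻¹ = 0 := by
    intro e
    by_cases e1 : g * g = 1
    · rcases T1 e1 with t | t
      · exact Or.inl t
      · exact Or.inr (Or.inl t)
    · right; right
      have e2 := h.rho_invol e1 e
      rw [map_mul] at e2
      have e3 : ρ g⁻¹ = -ρ g := by
        calc ρ g⁻¹ = -(ρ g * ρ g) * ρ g⁻¹ := by rw [e2]; simp
          _ = -ρ g * (ρ g * ρ g⁻¹) := by noncomm_ring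
          _ = -ρ g := by rw [huv, mul_one]
      rw [e3, add_neg_cancel]
  have hsq : (ρ g + ρ g⁻¹) * (ρ g + ρ g⁻¹) = ρ g * ρ g + 2 + ρ g⁻¹ * ρ g⁻¹ := by
    calc (ρ g + ρ g⁻¹) * (ρ g + ρ g⁻¹)
        = ρ g * ρ g + ρ g * ρ g⁻¹ + ρ g⁻¹ * ρ g + ρ g⁻¹ * ρ g⁻¹ := by noncomm_ring
      _ = ρ g * ρ g + 2 + ρ g⁻¹ * ρ g⁻¹ := by
        rw [huv, hvu, add_assoc (ρ g * ρ g) 1 1, one_add_one_eq_two]
  have p3 : ∀ k : G, k ^ 3 = k * k * k := fun k => by rw [pow_succ, pow_two]
  have p5 : ∀ k : G, k ^ 5 = k * k * k * k * k := fun k => by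
    rw [pow_succ, pow_succ, pow_succ, pow_two]
  interval_cases a
  · -- a = 1
    rw [pow_one] at hg
    rcases T1 hg with t | t
    · exact Or.inl t
    · exact Or.inr (Or.inl t)
  · -- a = 2
    rw [pow_two] at hg
    rcases T2 hg with t | t | t
    · exact Or.inl t
    · exact Or.inr (Or.inl t)
    · exact Or.inr (Or.inr (Or.inl t))
  · -- a = 3
    rw [p3] at hg
    by_cases hw : g * g * g = 1
    · by_cases hg1 : g = 1
      · left; rw [hg1]; simp; norm_num
      · right; right; right; left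
        rw [h.rho_inv_order3 hg1 (by rw [p3]; exact hw)]; abel
    · have hρw := h.rho_invol hw hg
      have h3 : (g * g * g * g) ^ 3 = 1 := by
        have : (g * g * g * g) ^ 3 = (g * g * g * (g * g * g)) * (g * g * g * (g * g * g)) := by
          rw [p3]; group
        rw [this, hg, mul_one]
      by_cases hg1 : g * g * g * g = 1
      · have e1 : g * g = 1 := by
          have : g * g * (g * g * g * (g * g * g)) = (g * g * g * g) * (g * g * g * g) := by
            group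
          rw [hg1, hg] at this
          simpa using this
        rcases T1 e1 with t | t
        · exact Or.inl t
        · exact Or.inr (Or.inl t)
      · right; right; right; right; left
        have e1 := h.rho_inv_order3 hg1 h3
        have e2 : (g * g * g * g)⁻¹ = g * g * g * g⁻¹ := by
          have : (g * g * g * g)⁻¹ = (g * g * g * g⁻¹) * (g * g * g * (g * g * g))⁻¹ := by group
          rw [this, hg]; simp
        rw [e2, map_mul ρ (g * g * g) g⁻¹, map_mul ρ (g * g * g) g, hρw] at e1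
        linear_combination (norm := noncomm_ring) (-1 : R) * e1
  · -- a = 4
    have p4 : g ^ 4 = g * g * (g * g) := by rw [pow_succ, pow_succ, pow_two]; group
    rw [p4] at hg
    by_cases hw : g * g * (g * g) = 1
    · rcases T2 hw with t | t | t
      · exact Or.inl t
      · exact Or.inr (Or.inl t)
      · exact Or.inr (Or.inr (Or.inl t))
    · have hρw := h.rho_invol hw hg
      right; right; right; right; right; left
      have e1 : ρ g * ρ g * (ρ g * ρ g) = -1 := by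
        rw [← hρw, map_mul, map_mul]
      have e2 : ρ g⁻¹ * ρ g⁻¹ = -(ρ g * ρ g) := by
        calc ρ g⁻¹ * ρ g⁻¹ = -(ρ g * ρ g * (ρ g * ρ g)) * (ρ g⁻¹ * ρ g⁻¹) := by rw [e1]; simp
          _ = -(ρ g * ρ g * (ρ g * (ρ g * ρ g⁻¹) * ρ g⁻¹)) := by noncomm_ring
          _ = -(ρ g * ρ g) := by rw [huv, mul_one, huv, mul_one]
      rw [hsq, e2]; abel
  · -- a = 5
    rw [p5] at hg
    have hgeo : ∀ k : G, k ≠ 1 → k ^ 5 = 1 →
        1 + ρ k + ρ k * ρ k + ρ k * ρ k * ρ k + ρ k * ρ k * ρ k * ρ k = 0 := by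
      intro k hk hk5
      have := h.geom_sum_eq_zero hk hk5
      simp only [Finset.sum_range_succ, Finset.sum_range_zero, pow_succ, pow_zero] at this
      rw [← this]; noncomm_ring
    have hvv : ρ g⁻¹ * ρ g⁻¹ * (ρ g * ρ g) = 1 := by
      calc ρ g⁻¹ * ρ g⁻¹ * (ρ g * ρ g) = ρ g⁻¹ * (ρ g⁻¹ * ρ g) * ρ g := by noncomm_ring
        _ = 1 := by rw [hvu, mul_one, hvu]
    by_cases hw : g * g * g * g * g = 1
    · by_cases hg1 : g = 1
      · left; rw [hg1]; simp; norm_num
      · right; right; right; right; right; right; left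
        have e1 := hgeo g hg1 (by rw [p5]; exact hw)
        have e2 : ρ g⁻¹ * ρ g⁻¹ * (1 + ρ g + ρ g * ρ g + ρ g * ρ g * ρ g + ρ g * ρ g * ρ g * ρ g) =
            ρ g⁻¹ * ρ g⁻¹ + ρ g⁻¹ + 1 + ρ g + ρ g * ρ g := by
          calc ρ g⁻¹ * ρ g⁻¹ * (1 + ρ g + ρ g * ρ g + ρ g * ρ g * ρ g + ρ g * ρ g * ρ g * ρ g)
              = ρ g⁻¹ * ρ g⁻¹ + ρ g⁻¹ * (ρ g⁻¹ * ρ g) + ρ g⁻¹ * ρ g⁻¹ * (ρ g * ρ g)
                + ρ g⁻¹ * ρ g⁻¹ * (ρ g * ρ g) * ρ g + ρ g⁻¹ * ρ g⁻¹ * (ρ g * ρ g) * (ρ g * ρ g) := by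
                noncomm_ring
            _ = ρ g⁻¹ * ρ g⁻¹ + ρ g⁻¹ + 1 + ρ g + ρ g * ρ g := by
                rw [hvv, hvu]; noncomm_ring
        rw [e1, mul_zero] at e2
        have e3 : ρ g * ρ g + 2 + ρ g⁻¹ * ρ g⁻¹ + (ρ g + ρ g⁻¹) - 1 =
            ρ g⁻¹ * ρ g⁻¹ + ρ g⁻¹ + 1 + ρ g + ρ g * ρ g := by
          rw [← one_add_one_eq_two]; abel
        rw [hsq, e3, ← e2]
    · have hρw := h.rho_invol hw hg
      have h5 : (g * g * g * g * g * g) ^ 5 = 1 := by
        have : (g * g * g * g * g * g) ^ 5 = (g * g * g * g * g * (g * g * g * g * g)) *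
            (g * g * g * g * g * (g * g * g * g * g)) * (g * g * g * g * g * (g * g * g * g * g)) := by
          rw [p5]; group
        rw [this, hg]; simp
      by_cases hg1 : g * g * g * g * g * g = 1
      · have e1 : g * g = 1 := by
          have : g * g * (g * g * g * g * g * (g * g * g * g * g)) =
              (g * g * g * g * g * g) * (g * g * g * g * g * g) := by group
          rw [hg1, hg] at this
          simpa using this
        rcases T1 e1 with t | t
        · exact Or.inl t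
        · exact Or.inr (Or.inl t)
      · right; right; right; right; right; right; right
        have e1 := hgeo _ hg1 h5
        rw [map_mul ρ (g * g * g * g * g) g, hρw] at e1
        have e1' : 1 - ρ g + ρ g * ρ g - ρ g * ρ g * ρ g + ρ g * ρ g * ρ g * ρ g = 0 := by
          rw [← e1]; noncomm_ring
        have e2 : ρ g⁻¹ * ρ g⁻¹ * (1 - ρ g + ρ g * ρ g - ρ g * ρ g * ρ g + ρ g * ρ g * ρ g * ρ g) =
            ρ g⁻¹ * ρ g⁻¹ - ρ g⁻¹ + 1 - ρ g + ρ g * ρ g := by
          calc ρ g⁻¹ * ρ g⁻¹ * (1 - ρ g + ρ g * ρ g - ρ g * ρ g * ρ g + ρ g * ρ g * ρ g * ρ g)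
              = ρ g⁻¹ * ρ g⁻¹ - ρ g⁻¹ * (ρ g⁻¹ * ρ g) + ρ g⁻¹ * ρ g⁻¹ * (ρ g * ρ g)
                - ρ g⁻¹ * ρ g⁻¹ * (ρ g * ρ g) * ρ g + ρ g⁻¹ * ρ g⁻¹ * (ρ g * ρ g) * (ρ g * ρ g) := by
                noncomm_ring
            _ = ρ g⁻¹ * ρ g⁻¹ - ρ g⁻¹ + 1 - ρ g + ρ g * ρ g := by
                rw [hvv, hvu]; noncomm_ring
        rw [e1', mul_zero] at e2
        have e3 : ρ g * ρ g + 2 + ρ g⁻¹ * ρ g⁻¹ - (ρ g + ρ g⁻¹) - 1 =
            ρ g⁻¹ * ρ g⁻¹ - ρ g⁻¹ + 1 - ρ g + ρ g * ρ g := by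
          rw [← one_add_one_eq_two]; abel
        rw [hsq, e3, ← e2]

end ZQuad

end Cfsg.Agent.Helper56
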