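import Mathlib
import Cfsg.Agent.Helper56.ZRing
import Cfsg.Agent.Helper29.UniqueOrderP

/-!
# Fixed-point-free ring representations: Sylow structure
-/

namespace Cfsg.Agent.Helper56

section ZSylow

variable {G : Type*} [Group G] {R : Type*} [Ring R] {ρ : G →* R}

theorem Fpf.comp (h : Fpf ρ) {H : Type*} [Group H] (f : H →* G) (hf : Function.Injective f) :
    Fpf (ρ.comp f) := by
  intro g hg
  have h1 : f g ≠ 1 := by
    intro e
    exact hg (hf (e.trans (map_one f).symm))
  exact h (f g) h1

theorem Fpf.subgroup (h : Fpf ρ) (H : Subgroup G) : Fpf (ρ.comp H.subtype) :=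
  h.comp H.subtype H.subtype_injective

/-- if two commuting elements of prime order `p` generate a non-cyclic group then `p = 0`
in `R` -/
theorem Fpf.prime_cast_eq_zero (h : Fpf ρ) {p : ℕ} (hp : p.Prime) {a b : G} (hab : a * b = b * a)
    (ha : a ^ p = 1) (hb : b ^ p = 1) (ha1 : a ≠ 1) (hb' : b ∉ Subgroup.zpowers a) :
    (p : R) = 0 := by
  have : Fact p.Prime := ⟨hp⟩
  have hcomm : ∀ i : ℕ, Commute (a ^ i) b := fun i => (Commute.pow_left hab i)
  have hne : ∀ i : ℕ, a ^ i * b ≠ 1 := by
    intro i e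
    apply hb'
    have hb2 : b = (a ^ i)⁻¹ := by
      rw [eq_inv_iff_mul_eq_one, ← (hcomm i).eq]
      exact e
    rw [hb2]
    exact Subgroup.inv_mem _ (Subgroup.pow_mem _ (Subgroup.mem_zpowers a) i)
  have hpow : ∀ i : ℕ, (a ^ i * b) ^ p = 1 := by
    intro i
    rw [(hcomm i).mul_pow, ← pow_mul, mul_comm, pow_mul, ha, one_pow, hb, mul_one]
  have key : ∀ i : ℕ, ∑ j ∈ Finset.range p, ρ (a ^ i * b) ^ j = 0 :=
    fun i => h.geom_sum_eq_zero (hne i) (hpow i)
  have e1 : ∑ i ∈ Finset.range p, ∑ j ∈ Finset.range p, ρ (a ^ i * b) ^ j = 0 :=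
    Finset.sum_eq_zero (fun i _ => key i)
  rw [Finset.sum_comm] at e1
  have e2 : ∀ j : ℕ, ∑ i ∈ Finset.range p, ρ (a ^ i * b) ^ j
      = (∑ i ∈ Finset.range p, ρ (a ^ j) ^ i) * ρ b ^ j := by
    intro j
    rw [Finset.sum_mul]
    apply Finset.sum_congr rfl
    intro i _
    rw [← map_pow, ← map_pow, ← map_pow, ← map_mul]
    congr 1
    rw [(hcomm i).mul_pow, ← pow_mul, ← pow_mul, mul_comm i j]
  have e3 : ∑ j ∈ Finset.range p, (∑ i ∈ Finset.range p, ρ (a ^ j) ^ i) * ρ b ^ j = 0 := by
    rw [← e1]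
    exact Finset.sum_congr rfl (fun j _ => (e2 j).symm)
  have hord : orderOf a = p := orderOf_eq_prime ha ha1
  rw [Finset.sum_eq_single 0] at e3
  · simpa using e3
  · intro j hj hj0
    have haj : a ^ j ≠ 1 := by
      intro e
      have hd := orderOf_dvd_of_pow_eq_one e
      rw [hord] at hd
      have := Nat.le_of_dvd (Nat.pos_of_ne_zero hj0) hd
      exact absurd (Finset.mem_range.mp hj) (by omega)
    have hajp : (a ^ j) ^ p = 1 := by rw [← pow_mul, mul_comm, pow_mul, ha, one_pow]
    rw [h.geom_sum_eq_zero haj hajp, zero_mul]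
  · intro h0
    exact absurd (Finset.mem_range.mpr hp.pos) h0

/-- two commuting elements of prime order generate a cyclic group -/
theorem Fpf.mem_zpowers_of_commute [Nontrivial R] (h : Fpf ρ) {p : ℕ} (hp : p.Prime) {a b : G}
    (hab : a * b = b * a) (ha : a ^ p = 1) (hb : b ^ p = 1) (ha1 : a ≠ 1) :
    b ∈ Subgroup.zpowers a := by
  by_contra hb'
  have hp0 := h.prime_cast_eq_zero hp hab ha hb ha1 hb'
  have : Fact p.Prime := ⟨hp⟩
  have : CharP R p := (CharP.charP_iff_prime_eq_zero hp).mpr hp0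
  have h1 : (ρ a - 1) ^ p = 0 := by
    rw [sub_pow_char_of_commute p (Commute.one_right _), one_pow, ← map_pow, ha, map_one, sub_self]
  have h2 := (h a ha1).pow p
  rw [h1] at h2
  exact not_isUnit_zero h2

/-- in a `p`-group with a fixed-point-free representation there is only one subgroup of
order `p` -/
theorem Fpf.unique_order_p [Nontrivial R] [Finite G] (h : Fpf ρ) {p : ℕ} [hp : Fact p.Prime]
    (hG : IsPGroup p G) :
    ∀ H K : Subgroup G, Nat.card H = p → Nat.card K = p → H = K := by
  intro H K hH hK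
  have hnt : Nontrivial G := by
    by_contra hnt
    rw [not_nontrivial_iff_subsingleton] at hnt
    have h1 : Nat.card H = 1 := Nat.card_eq_one_iff_unique.mpr ⟨inferInstance, ⟨1⟩⟩
    rw [hH] at h1
    exact hp.out.one_lt.ne' h1
  have hcn : Nontrivial (Subgroup.center G) := hG.center_nontrivial
  have hcp : IsPGroup p (Subgroup.center G) := hG.to_subgroup _
  have hdvd : p ∣ Nat.card (Subgroup.center G) := by
    rcases hcp.card_eq_or_dvd with h1 | h1
    · exact absurd h1 (Finite.one_lt_card).ne'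
    · exact h1
  obtain ⟨c, hc⟩ := exists_prime_orderOf_dvd_card' p hdvd
  have hc1 : (c : G) ≠ 1 := by
    intro e
    have : orderOf (c : G) = p := by rw [Subgroup.orderOf_coe]; exact hc
    rw [e, orderOf_one] at this
    exact hp.out.one_lt.ne this
  have hcp' : (c : G) ^ p = 1 := by
    have : orderOf (c : G) = p := by rw [Subgroup.orderOf_coe]; exact hc
    rw [← this]; exact pow_orderOf_eq_one _
  have key : ∀ L : Subgroup G, Nat.card L = p → L = Subgroup.zpowers (c : G) := by
    intro L hL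
    have hle : L ≤ Subgroup.zpowers (c : G) := by
      intro a haL
      have hap : a ^ p = 1 := by
        have h1 := Subgroup.orderOf_dvd_natCard L haL
        rw [hL] at h1
        exact orderOf_dvd_iff_pow_eq_one.mp h1
      have hcomm : (c : G) * a = a * (c : G) := (Subgroup.mem_center_iff.mp c.2 a).symm
      exact h.mem_zpowers_of_commute hp.out hcomm hcp' hap hc1
    apply Subgroup.eq_of_le_of_card_ge hle
    rw [Nat.card_zpowers, Subgroup.orderOf_coe, hc, hL]
  rw [key H hH, key K hK]

/-- odd `p`-groups with a fixed-point-free representation are cyclic -/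
theorem Fpf.isCyclic_of_odd [Nontrivial R] [Finite G] (h : Fpf ρ) {p : ℕ} [Fact p.Prime]
    (hp2 : p ≠ 2) (hG : IsPGroup p G) : IsCyclic G := by
  obtain ⟨n, hn⟩ := IsPGroup.iff_card.mp hG
  exact Cfsg.Agent.Helper29.isCyclic_of_unique_subgroup_odd hp2 n hn (h.unique_order_p hG)

/-- a finite group with a fixed-point-free representation and cyclic Sylow `2`-subgroups is a
`Z`-group -/
theorem Fpf.isZGroup [Nontrivial R] [Finite G] (h : Fpf ρ) (h2 : ∀ P : Sylow 2 G, IsCyclic P) :
    IsZGroup G := by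
  rw [isZGroup_iff]
  intro p hp P
  by_cases hp2 : p = 2
  · subst hp2; exact h2 P
  · have : Fact p.Prime := ⟨hp⟩
    exact (h.subgroup (P : Subgroup G)).isCyclic_of_odd hp2 P.isPGroup'

end ZSylow

end Cfsg.Agent.Helper56
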