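import Mathlib
import Cfsg.Agent.Helper56.ZRing
import Cfsg.Agent.Helper56.ZAlg
import Cfsg.Agent.Helper56.ZQuad
import Cfsg.Agent.Helper56.ZSylow

/-!
# The group generated by two elements of order three is quadratic
-/

namespace Cfsg.Agent.Helper56

section ZPair

theorem aeval_comm_of_comm {R : Type*} [Ring R] {s X : R} (h : s * X = X * s) (p : Polynomial ℤ) :
    Polynomial.aeval s p * X = X * Polynomial.aeval s p := by
  have h1 : Polynomial.aeval s p ∈ Algebra.adjoin ℤ {s} := Polynomial.aeval_mem_adjoin_singleton ℤ s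
  have h2 : Algebra.adjoin ℤ {s} ≤ Subalgebra.centralizer ℤ {X} := by
    apply Algebra.adjoin_le
    intro a ha
    rw [Set.mem_singleton_iff] at ha
    subst ha
    rw [SetLike.mem_coe, Subalgebra.mem_centralizer_iff]
    intro g hg
    rw [Set.mem_singleton_iff] at hg
    subst hg
    exact h.symm
  have h3 := h2 h1
  rw [Subalgebra.mem_centralizer_iff] at h3
  exact (h3 X rfl).symm

variable {G : Type*} [Group G] {R : Type*} [Ring R] {ρ : G →* R}

/-- the trace of `x * y` in terms of `ρ x`, `ρ y` for elements of order three -/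
theorem Fpf.trace_mul_order3 (h : Fpf ρ) {x y : G} (hx : x ≠ 1) (hx3 : x ^ 3 = 1) (hy : y ≠ 1)
    (hy3 : y ^ 3 = 1) :
    ρ (x * y) + ρ (x * y)⁻¹ = ρ x * ρ y + ρ y * ρ x + ρ x + ρ y + 1 := by
  rw [mul_inv_rev, map_mul, map_mul, h.rho_inv_order3 hx hx3, h.rho_inv_order3 hy hy3]
  noncomm_ring

theorem Fpf.sq_order3 (h : Fpf ρ) {x : G} (hx : x ≠ 1) (hx3 : x ^ 3 = 1) :
    ρ x * ρ x = -1 - ρ x := by
  have := h.rho_order3 hx hx3
  linear_combination (norm := abel) this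

/-- the trace of `x * y` commutes with `ρ x` -/
theorem Fpf.trace_mul_comm_left (h : Fpf ρ) {x y : G} (hx : x ≠ 1) (hx3 : x ^ 3 = 1) (hy : y ≠ 1)
    (hy3 : y ^ 3 = 1) :
    (ρ (x * y) + ρ (x * y)⁻¹) * ρ x = ρ x * (ρ (x * y) + ρ (x * y)⁻¹) := by
  rw [h.trace_mul_order3 hx hx3 hy hy3]
  have e := h.sq_order3 hx hx3
  have e1 : ρ x * ρ x * ρ y = (-1 - ρ x) * ρ y := by rw [e]
  have e2 : ρ y * ρ x * ρ x = ρ y * (-1 - ρ x) := by rw [mul_assoc, e]
  linear_combination (norm := noncomm_ring) e2 - e1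

theorem Fpf.trace_mul_comm_right (h : Fpf ρ) {x y : G} (hx : x ≠ 1) (hx3 : x ^ 3 = 1) (hy : y ≠ 1)
    (hy3 : y ^ 3 = 1) :
    (ρ (x * y) + ρ (x * y)⁻¹) * ρ y = ρ y * (ρ (x * y) + ρ (x * y)⁻¹) := by
  rw [h.trace_mul_order3 hx hx3 hy hy3]
  have e := h.sq_order3 hy hy3
  have e1 : ρ x * ρ y * ρ y = ρ x * (-1 - ρ y) := by rw [mul_assoc, e]
  have e2 : ρ y * ρ y * ρ x = (-1 - ρ y) * ρ x := by rw [e]
  linear_combination (norm := noncomm_ring) e1 - e2

/-- coordinates of the elements of `⟨x, y⟩` in the algebra spanned by `1, X, Y, XY` -/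
theorem Fpf.exists_coord (h : Fpf ρ) {x y : G} (hx : x ≠ 1) (hx3 : x ^ 3 = 1) (hy : y ≠ 1)
    (hy3 : y ^ 3 = 1) (g : G) (hg : g ∈ Subgroup.closure ({x, y} : Set G)) :
    ∃ p0 p1 p2 p3 : Polynomial ℤ,
      ρ g = xl ((Polynomial.aeval (ρ (x * y) + ρ (x * y)⁻¹) : Polynomial ℤ →ₐ[ℤ] R) : Polynomial ℤ →+* R)
        (ρ x) (ρ y) p0 p1 p2 p3 ∧
      ρ g⁻¹ = xl ((Polynomial.aeval (ρ (x * y) + ρ (x * y)⁻¹) : Polynomial ℤ →ₐ[ℤ] R) : Polynomial ℤ →+* R)
        (ρ x) (ρ y) (p0 - p1 - p2 + Polynomial.X * p3) (-p1) (-p2) (-p3) := by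
  set s := ρ (x * y) + ρ (x * y)⁻¹ with hs
  set φ : Polynomial ℤ →+* R := ((Polynomial.aeval s : Polynomial ℤ →ₐ[ℤ] R) : Polynomial ℤ →+* R)
    with hφ
  have hXX := h.sq_order3 hx hx3
  have hYY := h.sq_order3 hy hy3
  have hφX : φ Polynomial.X = s := by
    rw [hφ]; simp
  have hYX : ρ y * ρ x = φ Polynomial.X - 1 - ρ x - ρ y - ρ x * ρ y := by
    rw [hφX, hs, h.trace_mul_order3 hx hx3 hy hy3]; abel
  have hcX : ∀ c, φ c * ρ x = ρ x * φ c := fun c =>
    aeval_comm_of_comm (h.trace_mul_comm_left hx hx3 hy hy3) c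
  have hcY : ∀ c, φ c * ρ y = ρ y * φ c := fun c =>
    aeval_comm_of_comm (h.trace_mul_comm_right hx hx3 hy hy3) c
  have hmul := @xl_mul R _ (Polynomial ℤ) _ φ (ρ x) (ρ y) Polynomial.X hXX hYY hYX hcX hcY
  induction hg using Subgroup.closure_induction with
  | mem g hg =>
    rcases hg with rfl | hg
    · refine ⟨0, 1, 0, 0, ?_, ?_⟩
      · simp [xl]
      · rw [h.rho_inv_order3 hx hx3]; simp [xl]; abel
    · rw [Set.mem_singleton_iff] at hg
      subst hg
      refine ⟨0, 0, 1, 0, ?_, ?_⟩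
      · simp [xl]
      · rw [h.rho_inv_order3 hy hy3]; simp [xl]; abel
  | one =>
    refine ⟨1, 0, 0, 0, ?_, ?_⟩
    · simp [xl]
    · simp [xl]
  | mul a b _ _ iha ihb =>
    obtain ⟨p0, p1, p2, p3, ea, ea'⟩ := iha
    obtain ⟨q0, q1, q2, q3, eb, eb'⟩ := ihb
    have e1 := hmul p0 p1 p2 p3 q0 q1 q2 q3
    rw [← ea, ← eb, ← map_mul] at e1
    refine ⟨_, _, _, _, e1, ?_⟩
    rw [mul_inv_rev, map_mul, ea', eb', hmul]
    congr 1 <;> ring
  | inv a _ iha =>
    obtain ⟨p0, p1, p2, p3, ea, ea'⟩ := iha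
    refine ⟨_, _, _, _, ea', ?_⟩
    rw [inv_inv, ea]
    congr 1 <;> ring

/-- traces of elements of `⟨x, y⟩` commute with the image of `⟨x, y⟩` -/
theorem Fpf.trace_comm_closure (h : Fpf ρ) {x y : G} (hx : x ≠ 1) (hx3 : x ^ 3 = 1) (hy : y ≠ 1)
    (hy3 : y ^ 3 = 1) {g k : G} (hg : g ∈ Subgroup.closure ({x, y} : Set G))
    (hk : k ∈ Subgroup.closure ({x, y} : Set G)) : Commute (ρ g + ρ g⁻¹) (ρ k) := by
  obtain ⟨p0, p1, p2, p3, eg, eg'⟩ := h.exists_coord hx hx3 hy hy3 g hg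
  obtain ⟨q0, q1, q2, q3, ek, -⟩ := h.exists_coord hx hx3 hy hy3 k hk
  set s := ρ (x * y) + ρ (x * y)⁻¹ with hs
  set φ : Polynomial ℤ →+* R := ((Polynomial.aeval s : Polynomial ℤ →ₐ[ℤ] R) : Polynomial ℤ →+* R)
    with hφ
  have hcX : ∀ c, φ c * ρ x = ρ x * φ c := fun c =>
    aeval_comm_of_comm (h.trace_mul_comm_left hx hx3 hy hy3) c
  have hcY : ∀ c, φ c * ρ y = ρ y * φ c := fun c =>
    aeval_comm_of_comm (h.trace_mul_comm_right hx hx3 hy hy3) c
  have e1 : ρ g + ρ g⁻¹ = φ (p0 + (p0 - p1 - p2 + Polynomial.X * p3)) := by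
    rw [eg, eg']
    simp only [xl, map_add, map_sub, map_neg, map_mul]
    noncomm_ring
  rw [e1, ek]
  have hcc : ∀ c d : Polynomial ℤ, Commute (φ c) (φ d) := fun c d => (Commute.all c d).map φ
  have hX : ∀ c, Commute (φ c) (ρ x) := fun c => hcX c
  have hY : ∀ c, Commute (φ c) (ρ y) := fun c => hcY c
  unfold xl
  exact (((hcc _ _).add_right ((hcc _ _).mul_right (hX _))).add_right
    ((hcc _ _).mul_right (hY _))).add_right ((hcc _ _).mul_right ((hX _).mul_right (hY _)))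

/-- the group generated by two elements of order three is quadratic -/
theorem Fpf.quad_closure (h : Fpf ρ) {x y : G} (hx : x ≠ 1) (hx3 : x ^ 3 = 1) (hy : y ≠ 1)
    (hy3 : y ^ 3 = 1) :
    Quad (ρ.comp (Subgroup.closure ({x, y} : Set G)).subtype) := by
  intro a k
  exact h.trace_comm_closure hx hx3 hy hy3 a.2 k.2

/-- coordinate data for the algebra generated by `ρ x`, `ρ y` -/
structure XYData {C : Type*} [CommRing C] (φ : C →+* R) (S : C) (ρ : G →* R) (x y : G) : Prop where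
  hXX : ρ x * ρ x = -1 - ρ x
  hYY : ρ y * ρ y = -1 - ρ y
  hYX : ρ y * ρ x = φ S - 1 - ρ x - ρ y - ρ x * ρ y
  hcX : ∀ c, φ c * ρ x = ρ x * φ c
  hcY : ∀ c, φ c * ρ y = ρ y * φ c

/-- coordinates of a group element and of its inverse -/
def XC {C : Type*} [CommRing C] (φ : C →+* R) (S : C) (ρ : G →* R) (x y : G) (g : G)
    (p : C × C × C × C) : Prop :=
  ρ g = xl4 φ (ρ x) (ρ y) p ∧ ρ g⁻¹ = xl4 φ (ρ x) (ρ y) (xyConj S p)

section XYD

variable {C : Type*} [CommRing C] {φ : C →+* R} {S : C} {x y : G}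

theorem XYData.one (_D : XYData φ S ρ x y) : XC φ S ρ x y 1 (1, 0, 0, 0) := by
  constructor
  · simp [xl4, xl]
  · simp [xl4, xl, xyConj]

theorem rho_inv_of_sq (ρ : G →* R) {x : G} (hXX : ρ x * ρ x = -1 - ρ x) : ρ x⁻¹ = -1 - ρ x := by
  have e1 : ρ x * (-1 - ρ x) = 1 := by
    calc ρ x * (-1 - ρ x) = -ρ x - ρ x * ρ x := by noncomm_ring
      _ = 1 := by rw [hXX]; abel
  calc ρ x⁻¹ = ρ x⁻¹ * (ρ x * (-1 - ρ x)) := by rw [e1, mul_one]
    _ = (ρ x⁻¹ * ρ x) * (-1 - ρ x) := by rw [mul_assoc]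
    _ = -1 - ρ x := by rw [rho_inv_mul, one_mul]

theorem XYData.cx (D : XYData φ S ρ x y) : XC φ S ρ x y x (0, 1, 0, 0) := by
  constructor
  · simp [xl4, xl]
  · rw [rho_inv_of_sq ρ D.hXX]; simp [xl4, xl, xyConj]; abel

theorem XYData.cy (D : XYData φ S ρ x y) : XC φ S ρ x y y (0, 0, 1, 0) := by
  constructor
  · simp [xl4, xl]
  · rw [rho_inv_of_sq ρ D.hYY]; simp [xl4, xl, xyConj]; abel

theorem XYData.mul (D : XYData φ S ρ x y) {g g' : G} {p q : C × C × C × C}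
    (hg : XC φ S ρ x y g p) (hg' : XC φ S ρ x y g' q) : XC φ S ρ x y (g * g') (xyMul S p q) := by
  constructor
  · rw [map_mul, hg.1, hg'.1, xl4_mul D.hXX D.hYY D.hYX D.hcX D.hcY]
  · rw [mul_inv_rev, map_mul, hg.2, hg'.2, xl4_mul D.hXX D.hYY D.hYX D.hcX D.hcY, xyConj_mul]

theorem XYData.inv (_D : XYData φ S ρ x y) {g : G} {p : C × C × C × C}
    (hg : XC φ S ρ x y g p) : XC φ S ρ x y g⁻¹ (xyConj S p) := by
  constructor
  · exact hg.2
  · rw [inv_inv, xyConj_conj]; exact hg.1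

theorem XYData.trace (_D : XYData φ S ρ x y) {g : G} {p : C × C × C × C}
    (hg : XC φ S ρ x y g p) : ρ g + ρ g⁻¹ = φ (xyTr S p) := by
  rw [hg.1, hg.2, xl4_add_conj]

theorem XYData.eq_of (_D : XYData φ S ρ x y) {g g' : G} {p q : C × C × C × C}
    (hg : XC φ S ρ x y g p) (hg' : XC φ S ρ x y g' q) (hpq : p = q) : ρ g = ρ g' := by
  rw [hg.1, hg'.1, hpq]

end XYD

/-- polynomial coordinate data for two elements of order three -/
theorem Fpf.xyData_poly (h : Fpf ρ) {x y : G} (hx : x ≠ 1) (hx3 : x ^ 3 = 1) (hy : y ≠ 1)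
    (hy3 : y ^ 3 = 1) :
    XYData ((Polynomial.aeval (ρ (x * y) + ρ (x * y)⁻¹) : Polynomial ℤ →ₐ[ℤ] R) :
      Polynomial ℤ →+* R) Polynomial.X ρ x y := by
  refine ⟨h.sq_order3 hx hx3, h.sq_order3 hy hy3, ?_, ?_, ?_⟩
  · have : ((Polynomial.aeval (ρ (x * y) + ρ (x * y)⁻¹) : Polynomial ℤ →ₐ[ℤ] R) :
        Polynomial ℤ →+* R) Polynomial.X = ρ (x * y) + ρ (x * y)⁻¹ := by simp
    rw [this, h.trace_mul_order3 hx hx3 hy hy3]; abel
  · exact fun c => aeval_comm_of_comm (h.trace_mul_comm_left hx hx3 hy hy3) c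
  · exact fun c => aeval_comm_of_comm (h.trace_mul_comm_right hx hx3 hy hy3) c

/-- the trace of `x * y⁻¹` -/
theorem Fpf.trace_mul_inv_order3 (h : Fpf ρ) {x y : G} (hx : x ≠ 1) (hx3 : x ^ 3 = 1)
    (hy : y ≠ 1) (hy3 : y ^ 3 = 1) :
    ρ (x * y⁻¹) + ρ (x * y⁻¹)⁻¹ = 1 - (ρ (x * y) + ρ (x * y)⁻¹) := by
  rw [h.trace_mul_order3 hx hx3 hy hy3, mul_inv_rev, inv_inv, map_mul, map_mul,
    h.rho_inv_order3 hx hx3, h.rho_inv_order3 hy hy3]
  noncomm_ring

/-- the trace of the commutator -/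
theorem Fpf.trace_commutator_order3 (h : Fpf ρ) {x y : G} (hx : x ≠ 1) (hx3 : x ^ 3 = 1)
    (hy : y ≠ 1) (hy3 : y ^ 3 = 1) :
    ρ (x * y * x⁻¹ * y⁻¹) + ρ (x * y * x⁻¹ * y⁻¹)⁻¹ =
      (ρ (x * y) + ρ (x * y)⁻¹) * (ρ (x * y) + ρ (x * y)⁻¹) - (ρ (x * y) + ρ (x * y)⁻¹) := by
  have D := h.xyData_poly hx hx3 hy hy3
  have hc := D.mul (D.mul (D.mul D.cx D.cy) (D.inv D.cx)) (D.inv D.cy)
  rw [D.trace hc]
  have e : xyTr (Polynomial.X : Polynomial ℤ)
      (xyMul Polynomial.X (xyMul Polynomial.X (xyMul Polynomial.X (0, 1, 0, 0) (0, 0, 1, 0))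
        (xyConj Polynomial.X (0, 1, 0, 0))) (xyConj Polynomial.X (0, 0, 1, 0))) =
      Polynomial.X * Polynomial.X - Polynomial.X := by
    simp only [xyTr, xyMul, xyConj]
    ring
  rw [e]
  simp

theorem pow3_mul_invol {a z : G} (ha : a ^ 3 = 1) (hz2 : z * z = 1) (hc : a * z = z * a) :
    (a * z) ^ 3 = z := by
  have hcm : Commute a z := hc
  rw [hcm.mul_pow, ha, one_mul, pow_succ, pow_two, hz2, one_mul]

/-- **Pair classification**: two elements of order three commute, or the trace of their product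
is `0`, `1` or a root of `t² - t - 1`. -/
theorem Fpf.pairType [Nontrivial R] [Finite G] (h : Fpf ρ) {z : G} (hz : z ≠ 1) (hz2 : z * z = 1)
    {x y : G} (hx : x ≠ 1) (hx3 : x ^ 3 = 1) (hy : y ≠ 1) (hy3 : y ^ 3 = 1) :
    y = x⁻¹ ∨ y = x ∨ ρ (x * y) + ρ (x * y)⁻¹ = 0 ∨ ρ (x * y) + ρ (x * y)⁻¹ = 1 ∨
      (ρ (x * y) + ρ (x * y)⁻¹) * (ρ (x * y) + ρ (x * y)⁻¹) - (ρ (x * y) + ρ (x * y)⁻¹) - 1 = 0 := by
  have h2 := h.isUnit_two hz hz2
  have h3 := h.isUnit_three hx hx3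
  have hzc := h.invol_comm hz hz2
  by_cases hc : x * y = y * x
  · -- commuting
    have hmem := h.mem_zpowers_of_commute Nat.prime_three hc hx3 hy3 hx
    obtain ⟨k, rfl⟩ := Subgroup.mem_zpowers_iff.mp hmem
    have ho : orderOf x = 3 := orderOf_eq_prime hx3 hx
    have e := zpow_mod_orderOf x k
    rw [ho] at e
    have hk0 : 0 ≤ k % 3 := Int.emod_nonneg k (by norm_num)
    have hk3 : k % 3 < 3 := Int.emod_lt_of_pos k (by norm_num)
    obtain ⟨n, hn⟩ := Int.eq_ofNat_of_zero_le hk0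
    have hn' : k % ((3 : ℕ) : ℤ) = (n : ℤ) := by exact_mod_cast hn
    rw [hn'] at e
    have hn3 : n < 3 := by omega
    rw [zpow_natCast] at e
    interval_cases n
    · exfalso; apply hy; rw [← e]; simp
    · right; left; rw [← e]; simp
    · left; rw [← e]
      apply eq_inv_of_mul_eq_one_left
      rw [← pow_succ]; exact hx3
  · -- non-commuting
    set H := Subgroup.closure ({x, y} : Set G) with hH
    have hxH : x ∈ H := Subgroup.subset_closure (by simp)
    have hyH : y ∈ H := Subgroup.subset_closure (by simp)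
    have hF := h.subgroup H
    have hq := h.quad_closure hx hx3 hy hy3
    have hna : ∃ a b : H, a * b ≠ b * a :=
      ⟨⟨x, hxH⟩, ⟨y, hyH⟩, fun e => hc (congrArg Subtype.val e)⟩
    have hord : ∀ g : H, ∃ a : ℕ, 1 ≤ a ∧ a ≤ 5 ∧ g ^ a * g ^ a = 1 := by
      rcases hF.quad_orders h2 hq hna with ⟨A, hA2, hAc⟩ | hall
      · exfalso
        have hsq : ∀ g : H, g ^ 3 = 1 → g ∈ A := by
          intro g hg3
          have h1 : (g ^ 2) ^ 2 ∈ A := Subgroup.sq_mem_of_index_two hA2 (g ^ 2)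
          have h2 : (g ^ 2) ^ 2 = g := by
            rw [← pow_mul]
            calc g ^ 4 = g ^ 3 * g := pow_succ g 3
              _ = g := by rw [hg3, one_mul]
          rwa [h2] at h1
        have hxA := hsq ⟨x, hxH⟩ (Subtype.ext (by simpa using hx3))
        have hyA := hsq ⟨y, hyH⟩ (Subtype.ext (by simpa using hy3))
        apply hc
        exact congrArg Subtype.val (hAc _ hxA _ hyA)
      · exact hall
    have tt : ∀ g : G, g ∈ H →
        (ρ g + ρ g⁻¹ = 2 ∨ ρ g + ρ g⁻¹ = -2 ∨ ρ g + ρ g⁻¹ = 0 ∨ ρ g + ρ g⁻¹ = -1 ∨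
          ρ g + ρ g⁻¹ = 1 ∨ (ρ g + ρ g⁻¹) * (ρ g + ρ g⁻¹) = 2 ∨
          (ρ g + ρ g⁻¹) * (ρ g + ρ g⁻¹) + (ρ g + ρ g⁻¹) - 1 = 0 ∨
          (ρ g + ρ g⁻¹) * (ρ g + ρ g⁻¹) - (ρ g + ρ g⁻¹) - 1 = 0) := by
      intro g hg
      obtain ⟨a, ha1, ha5, hga⟩ := hord ⟨g, hg⟩
      exact hF.trace_type ha1 ha5 hga
    have t1 := tt (x * y) (H.mul_mem hxH hyH)
    have t2 := tt (x * y⁻¹) (H.mul_mem hxH (H.inv_mem hyH))
    have hti := h.trace_mul_inv_order3 hx hx3 hy hy3
    rw [hti] at t2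
    have tc := h.trace_commutator_order3 hx hx3 hy hy3
    set s := ρ (x * y) + ρ (x * y)⁻¹ with hs
    have hy3' : y⁻¹ ^ 3 = 1 := by rw [inv_pow, hy3, inv_one]
    have A2 : s = 2 → y = x⁻¹ := by
      intro e
      have := h.eq_one_of_tr e
      exact eq_inv_of_mul_eq_one_right this
    have Am2 : s = -2 → False := by
      intro e
      have e1 := h.rho_eq_neg_one_of_tr hz hz2 e
      have e2 : y = x⁻¹ * z := by rw [← e1]; group
      have hx3' : x⁻¹ ^ 3 = 1 := by rw [inv_pow, hx3, inv_one]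
      have e3 := pow3_mul_invol hx3' hz2 (hzc x⁻¹)
      rw [← e2, hy3] at e3
      exact hz e3.symm
    have B2 : 1 - s = 2 → y = x := by
      intro e
      have := h.eq_one_of_tr (hti.trans e)
      have e1 : x = y := by
        calc x = x * y⁻¹ * y := by group
          _ = y := by rw [this, one_mul]
      exact e1.symm
    have Bm2 : 1 - s = -2 → False := by
      intro e
      have e1 := h.rho_eq_neg_one_of_tr hz hz2 (hti.trans e)
      have e2 : y⁻¹ = x⁻¹ * z := by rw [← e1]; group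
      have hx3' : x⁻¹ ^ 3 = 1 := by rw [inv_pow, hx3, inv_one]
      have e3 := pow3_mul_invol hx3' hz2 (hzc x⁻¹)
      rw [← e2, hy3'] at e3
      exact hz e3.symm
    have common : (1 - s = 2 ∨ 1 - s = -2 ∨ 1 - s = 0 ∨ 1 - s = -1 ∨ 1 - s = 1) →
        (y = x⁻¹ ∨ y = x ∨ s = 0 ∨ s = 1 ∨ s * s - s - 1 = 0) := by
      rintro (t | t | t | t | t)
      · exact Or.inr (Or.inl (B2 t))
      · exact (Bm2 t).elim
      · exact Or.inr (Or.inr (Or.inr (Or.inl (sub_eq_zero.mp t).symm)))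
      · exact Or.inl (A2 (by linear_combination (norm := (noncomm_ring <;> norm_num)) (-1 : R) * t))
      · exact Or.inr (Or.inr (Or.inl (by linear_combination (norm := (noncomm_ring <;> norm_num)) (-1 : R) * t)))
    rcases t1 with t | t | t | t | t | t | t | t
    · exact Or.inl (A2 t)
    · exact (Am2 t).elim
    · exact Or.inr (Or.inr (Or.inl t))
    · exact Or.inr (Or.inl (B2 (by rw [t]; norm_num)))
    · exact Or.inr (Or.inr (Or.inr (Or.inl t)))
    · -- s * s = 2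
      rcases t2 with t' | t' | t' | t' | t' | t' | t' | t'
      · exact common (Or.inl t')
      · exact common (Or.inr (Or.inl t'))
      · exact common (Or.inr (Or.inr (Or.inl t')))
      · exact common (Or.inr (Or.inr (Or.inr (Or.inl t'))))
      · exact common (Or.inr (Or.inr (Or.inr (Or.inr t'))))
      · exfalso
        have e1 : 2 * s = 1 := by linear_combination (norm := (noncomm_ring <;> norm_num)) t - t'
        have e7 : (7 : R) = 0 := by
          linear_combination (norm := (noncomm_ring <;> norm_num)) (-4 : R) * t + (2 * s + 1) * e1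
        have e2 : 2 * (s * s - s + 2) = 0 := by
          linear_combination (norm := (noncomm_ring <;> norm_num)) (2 : R) * t - e1 + e7
        have e3 : s * s - s = -2 := eq_neg_of_add_eq_zero_left (h2.mul_right_eq_zero.mp e2)
        rw [← tc] at e3
        have e4 := h.rho_eq_neg_one_of_tr hz hz2 e3
        have e5 : x * y * x⁻¹ = y * z := by
          calc x * y * x⁻¹ = (x * y * x⁻¹ * y⁻¹) * y := by group
            _ = y * z := by rw [e4, hzc]
        have e6 : (x * y * x⁻¹) ^ 3 = 1 := by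
          rw [conj_pow, hy3]; group
        rw [e5, pow3_mul_invol hy3 hz2 (hzc y)] at e6
        exact hz e6
      · have e1 : 3 * (1 - s) = 0 := by linear_combination (norm := (noncomm_ring <;> norm_num)) t' - t
        have e2 := h3.mul_right_eq_zero.mp e1
        exact Or.inr (Or.inr (Or.inr (Or.inl (sub_eq_zero.mp e2).symm)))
      · have e1 : 1 - s = 0 := by linear_combination (norm := (noncomm_ring <;> norm_num)) t' - t
        exact Or.inr (Or.inr (Or.inr (Or.inl (sub_eq_zero.mp e1).symm)))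
    · -- s * s + s - 1 = 0
      rcases t2 with t' | t' | t' | t' | t' | t' | t' | t'
      · exact common (Or.inl t')
      · exact common (Or.inr (Or.inl t'))
      · exact common (Or.inr (Or.inr (Or.inl t')))
      · exact common (Or.inr (Or.inr (Or.inr (Or.inl t'))))
      · exact common (Or.inr (Or.inr (Or.inr (Or.inr t'))))
      · have e1 : 3 * s = 0 := by linear_combination (norm := (noncomm_ring <;> norm_num)) t - t'
        exact Or.inr (Or.inr (Or.inl (h3.mul_right_eq_zero.mp e1)))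
      · exfalso
        have e1 : 2 * (1 - 2 * s) = 0 := by linear_combination (norm := (noncomm_ring <;> norm_num)) t' - t
        have e1' := h2.mul_right_eq_zero.mp e1
        have e2 : (1 : R) = 0 := by
          linear_combination (norm := (noncomm_ring <;> norm_num)) (-4 : R) * t - (2 * s + 3) * e1'
        exact one_ne_zero e2
      · have e1 : 2 * s = 0 := by linear_combination (norm := (noncomm_ring <;> norm_num)) t - t'
        exact Or.inr (Or.inr (Or.inl (h2.mul_right_eq_zero.mp e1)))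
    · exact Or.inr (Or.inr (Or.inr (Or.inr t)))

end ZPair

end Cfsg.Agent.Helper56
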