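import Mathlib
import Cfsg.Agent.Helper56.ZPair

/-!
# Zero pairs and quaternion frames
-/

namespace Cfsg.Agent.Helper56

section ZFrame

variable {G : Type*} [Group G] {R : Type*} [Ring R] {ρ : G →* R}

/-- a zero pair: two elements of order three whose product has trace zero -/
structure ZP (ρ : G →* R) (x y : G) : Prop where
  hx : x ≠ 1
  hx3 : x ^ 3 = 1
  hy : y ≠ 1
  hy3 : y ^ 3 = 1
  htr : ρ (x * y) + ρ (x * y)⁻¹ = 0

/-- ring-level quaternion frame -/
structure QF (X I J : R) : Prop where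
  hI : I * I = -1
  hJ : J * J = -1
  hJI : J * I = -(I * J)
  hX : 2 * X = -1 - I - J - I * J
  hXI : X * I = J * X
  hXJ : X * J = I * J * X
  hXK : X * (I * J) = I * X

theorem ZP.data {x y : G} (P : ZP ρ x y) (h : Fpf ρ) :
    XYData (Int.castRingHom R) (0 : ℤ) ρ x y := by
  refine ⟨h.sq_order3 P.hx P.hx3, h.sq_order3 P.hy P.hy3, ?_, fun c => Int.cast_comm c _,
    fun c => Int.cast_comm c _⟩
  have := h.trace_mul_order3 P.hx P.hx3 P.hy P.hy3
  rw [P.htr] at this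
  simp only [map_zero]
  linear_combination (norm := abel) (-1 : ℤ) • this

theorem ZP.qf {x y : G} (P : ZP ρ x y) (h : Fpf ρ) :
    QF (ρ x) (ρ (x * y)) (ρ (x * (x * y) * x⁻¹)) := by
  have D := P.data h
  have cI := D.mul D.cx D.cy
  have cJ := D.mul (D.mul D.cx cI) (D.inv D.cx)
  have hm := @xl4_mul R _ ℤ _ (Int.castRingHom R) (ρ x) (ρ y) 0 D.hXX D.hYY D.hYX D.hcX D.hcY
  have h1 := xl4_one (Int.castRingHom R) (ρ x) (ρ y)
  refine ⟨?_, ?_, ?_, ?_, ?_, ?_, ?_⟩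
  · rw [cI.1, hm, h1, xl4_neg]; exact congrArg _ (by decide)
  · rw [cJ.1, hm, h1, xl4_neg]; exact congrArg _ (by decide)
  · rw [cI.1, cJ.1, hm, hm, xl4_neg]; exact congrArg _ (by decide)
  · rw [two_mul, D.cx.1, cI.1, cJ.1, hm, h1, xl4_neg, xl4_add, xl4_sub, xl4_sub, xl4_sub]
    exact congrArg _ (by decide)
  · rw [D.cx.1, cI.1, cJ.1, hm, hm]; exact congrArg _ (by decide)
  · rw [D.cx.1, cI.1, cJ.1, hm, hm, hm]; exact congrArg _ (by decide)
  · rw [D.cx.1, cI.1, cJ.1, hm, hm, hm]; exact congrArg _ (by decide)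

end ZFrame

end Cfsg.Agent.Helper56
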