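import Mathlib
import Cfsg.Agent.Helper56.ZAlg

/-!
# Quaternion coordinates over the centralizer of a quaternion frame
-/

namespace Cfsg.Agent.Helper56

section ZQuat

variable {R : Type*} [Ring R] {I J : R}

/-- four times the projection onto the centralizer of `I`, `J` -/
def pi4 (I J r : R) : R := r - I * r * I - J * r * J - I * J * r * (I * J)

theorem pi4_comm_I (hI : I * I = -1) (hJ : J * J = -1) (hJI : J * I = -(I * J)) (r : R) :
    pi4 I J r * I = I * pi4 I J r := by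
  have hI' : ∀ w : R, I * (I * w) = -w := fun w => by rw [← mul_assoc, hI]; simp
  have hJ' : ∀ w : R, J * (J * w) = -w := fun w => by rw [← mul_assoc, hJ]; simp
  have hJI' : ∀ w : R, J * (I * w) = -(I * (J * w)) := fun w => by
    rw [← mul_assoc, hJI]; simp [mul_assoc]
  simp only [pi4, mul_sub, sub_mul, mul_assoc, hI, hJ, hJI, hI', hJ', hJI', mul_neg, neg_mul,
    neg_neg, mul_one, one_mul]
  abel

theorem pi4_comm_J (hI : I * I = -1) (hJ : J * J = -1) (hJI : J * I = -(I * J)) (r : R) :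
    pi4 I J r * J = J * pi4 I J r := by
  have hI' : ∀ w : R, I * (I * w) = -w := fun w => by rw [← mul_assoc, hI]; simp
  have hJ' : ∀ w : R, J * (J * w) = -w := fun w => by rw [← mul_assoc, hJ]; simp
  have hJI' : ∀ w : R, J * (I * w) = -(I * (J * w)) := fun w => by
    rw [← mul_assoc, hJI]; simp [mul_assoc]
  simp only [pi4, mul_sub, sub_mul, mul_assoc, hI, hJ, hJI, hI', hJ', hJI', mul_neg, neg_mul,
    neg_neg, mul_one, one_mul]
  abel

theorem pi4_decomp (hI : I * I = -1) (hJ : J * J = -1) (hJI : J * I = -(I * J)) (r : R) :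
    4 * r = pi4 I J r - pi4 I J (r * I) * I - pi4 I J (r * J) * J
      - pi4 I J (r * (I * J)) * (I * J) := by
  have hI' : ∀ w : R, I * (I * w) = -w := fun w => by rw [← mul_assoc, hI]; simp
  have hJ' : ∀ w : R, J * (J * w) = -w := fun w => by rw [← mul_assoc, hJ]; simp
  have hJI' : ∀ w : R, J * (I * w) = -(I * (J * w)) := fun w => by
    rw [← mul_assoc, hJI]; simp [mul_assoc]
  simp only [pi4, mul_sub, sub_mul, mul_assoc, hI, hJ, hJI, hI', hJ', hJI', mul_neg, neg_mul,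
    neg_neg, mul_one, one_mul]
  have : (4 : R) * r = r + r + r + r := by noncomm_ring
  rw [this]
  abel

/-- the coefficient ring: the centralizer of the frame -/
abbrev Cen (I J : R) : Subring R := Subring.centralizer ({I, J} : Set R)

theorem mem_cen_iff {r : R} : r ∈ Cen I J ↔ r * I = I * r ∧ r * J = J * r := by
  rw [Subring.mem_centralizer_iff]
  constructor
  · intro h
    exact ⟨(h I (by simp)).symm, (h J (by simp)).symm⟩
  · rintro ⟨h1, h2⟩ g hg
    rcases hg with rfl | hg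
    · exact h1.symm
    · rw [Set.mem_singleton_iff] at hg
      subst hg
      exact h2.symm

theorem cen_comm_I (c : Cen I J) : (Cen I J).subtype c * I = I * (Cen I J).subtype c :=
  (mem_cen_iff.mp c.2).1

theorem cen_comm_J (c : Cen I J) : (Cen I J).subtype c * J = J * (Cen I J).subtype c :=
  (mem_cen_iff.mp c.2).2

theorem pi4_mem_cen (hI : I * I = -1) (hJ : J * J = -1) (hJI : J * I = -(I * J)) (r : R) :
    pi4 I J r ∈ Cen I J :=
  mem_cen_iff.mpr ⟨pi4_comm_I hI hJ hJI r, pi4_comm_J hI hJ hJI r⟩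

/-- every element has quaternion coordinates over the centralizer, up to the factor four -/
theorem exists_ql4 (hI : I * I = -1) (hJ : J * J = -1) (hJI : J * I = -(I * J)) (r : R) :
    ∃ p : Cen I J × Cen I J × Cen I J × Cen I J, 4 * r = ql4 (Cen I J).subtype I J p := by
  refine ⟨(⟨pi4 I J r, pi4_mem_cen hI hJ hJI r⟩,
    -⟨pi4 I J (r * I), pi4_mem_cen hI hJ hJI _⟩,
    -⟨pi4 I J (r * J), pi4_mem_cen hI hJ hJI _⟩,
    -⟨pi4 I J (r * (I * J)), pi4_mem_cen hI hJ hJI _⟩), ?_⟩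
  rw [pi4_decomp hI hJ hJI r]
  simp only [ql4, ql, Subring.subtype_apply, map_neg]
  simp only [Subring.coe_neg, neg_mul]
  abel

section Coord

variable {C : Type*} [Ring C] {φ : C →+* R}

theorem ql4_I (φ : C →+* R) (I J : R) : I = ql4 φ I J (0, 1, 0, 0) := by simp [ql4, ql]

theorem ql4_J (φ : C →+* R) (I J : R) : J = ql4 φ I J (0, 0, 1, 0) := by simp [ql4, ql]

theorem ql4_K (φ : C →+* R) (I J : R) : I * J = ql4 φ I J (0, 0, 0, 1) := by simp [ql4, ql]

theorem ql4_const (φ : C →+* R) (I J : R) (c : C) : φ c = ql4 φ I J (c, 0, 0, 0) := by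
  simp [ql4, ql]

theorem ql4_fst_eq_zero (hI : I * I = -1) (hJ : J * J = -1) (hJI : J * I = -(I * J))
    (hci : ∀ c, φ c * I = I * φ c) (hcj : ∀ c, φ c * J = J * φ c)
    {p : C × C × C × C} (hp : ql4 φ I J p = 0) : 4 * φ p.1 = 0 := by
  have hm := @ql4_mul R _ C _ φ I J hI hJ hJI hci hcj
  have e : pi4 I J (ql4 φ I J p) = 4 * φ p.1 := by
    unfold pi4
    have e1 : I * ql4 φ I J p * I = ql4 φ I J (hMul (hMul (0, 1, 0, 0) p) (0, 1, 0, 0)) := by
      rw [← hm, ← hm, ← ql4_I]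
    have e2 : J * ql4 φ I J p * J = ql4 φ I J (hMul (hMul (0, 0, 1, 0) p) (0, 0, 1, 0)) := by
      rw [← hm, ← hm, ← ql4_J]
    have e3 : I * J * ql4 φ I J p * (I * J) =
        ql4 φ I J (hMul (hMul (0, 0, 0, 1) p) (0, 0, 0, 1)) := by
      rw [← hm, ← hm, ← ql4_K]
    rw [e1, e2, e3, ql4_sub, ql4_sub, ql4_sub]
    have e4 : p - hMul (hMul (0, 1, 0, 0) p) (0, 1, 0, 0) - hMul (hMul (0, 0, 1, 0) p) (0, 0, 1, 0)
        - hMul (hMul (0, 0, 0, 1) p) (0, 0, 0, 1) = (4 * p.1, 0, 0, 0) := by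
      obtain ⟨p0, p1, p2, p3⟩ := p
      simp only [hMul, Prod.mk_sub_mk, Prod.mk.injEq]
      refine ⟨?_, ?_, ?_, ?_⟩ <;> noncomm_ring
    rw [e4, ← ql4_const, map_mul, map_ofNat]
  rw [← e, hp]
  simp [pi4]

theorem ql4_eq_zero (hI : I * I = -1) (hJ : J * J = -1) (hJI : J * I = -(I * J))
    (hci : ∀ c, φ c * I = I * φ c) (hcj : ∀ c, φ c * J = J * φ c) (h4 : IsUnit (4 : R))
    (hφ : Function.Injective φ)
    {p : C × C × C × C} (hp : ql4 φ I J p = 0) : p = 0 := by
  have hm := @ql4_mul R _ C _ φ I J hI hJ hJI hci hcj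
  have key : ∀ q : C × C × C × C, ql4 φ I J q = 0 → q.1 = 0 := by
    intro q hq
    have := ql4_fst_eq_zero hI hJ hJI hci hcj hq
    have h0 := h4.mul_right_eq_zero.mp this
    exact hφ (by rw [h0, map_zero])
  have h0 := key p hp
  have h1 := key (hMul p (0, 1, 0, 0)) (by rw [← hm, hp, zero_mul])
  have h2 := key (hMul p (0, 0, 1, 0)) (by rw [← hm, hp, zero_mul])
  have h3 := key (hMul p (0, 0, 0, 1)) (by rw [← hm, hp, zero_mul])
  obtain ⟨p0, p1, p2, p3⟩ := p
  simp only [hMul, mul_zero, mul_one, zero_sub, sub_zero, neg_eq_zero] at h0 h1 h2 h3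
  simp [h0, h1, h2, h3]

theorem ql4_inj (hI : I * I = -1) (hJ : J * J = -1) (hJI : J * I = -(I * J))
    (hci : ∀ c, φ c * I = I * φ c) (hcj : ∀ c, φ c * J = J * φ c) (h4 : IsUnit (4 : R))
    (hφ : Function.Injective φ)
    {p q : C × C × C × C} (hpq : ql4 φ I J p = ql4 φ I J q) : p = q := by
  have : ql4 φ I J (p - q) = 0 := by rw [← ql4_sub, hpq, sub_self]
  exact sub_eq_zero.mp (ql4_eq_zero hI hJ hJI hci hcj h4 hφ this)

end Coord

end ZQuat

end Cfsg.Agent.Helper56
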