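import Mathlib
import Cfsg.Agent.Helper56.ZQuat
import Cfsg.Agent.Helper56.ZFrame

/-!
# Two quaternion frames sharing the element of order three
-/

namespace Cfsg.Agent.Helper56

section ZTwo

variable {R : Type*} [Ring R]

/-- two quaternion frames with the same `X`: coordinates of the second frame in the first -/
theorem two_frames {X V I J I' J' : R} (hXV : X * V = 1) (F : QF X I J) (F' : QF X I' J')
    (h2 : IsUnit (2 : R)) (h3 : IsUnit (3 : R)) :
    ∃ B C D : R, (B * I = I * B ∧ B * J = J * B) ∧ (C * I = I * C ∧ C * J = J * C) ∧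
      (D * I = I * D ∧ D * J = J * D) ∧
      4 * I' = B * I + C * J + D * (I * J) ∧
      4 * J' = D * I + B * J + C * (I * J) ∧
      4 * (I' * J') = C * I + D * J + B * (I * J) ∧
      B + C + D = 4 ∧ B * B + C * C + D * D = 16 ∧
      2 * (I * I' + I' * I) = -B ∧ 2 * (J * I' + I' * J) = -C ∧
      2 * (I * J * I' + I' * (I * J)) = -D := by
  have h4 : IsUnit (4 : R) := by
    have : (4 : R) = 2 * 2 := by norm_num
    rw [this]; exact h2.mul h2
  set φ := (Cen I J).subtype with hφ
  have hφi : Function.Injective φ := Subtype.val_injective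
  have hci : ∀ c, φ c * I = I * φ c := cen_comm_I
  have hcj : ∀ c, φ c * J = J * φ c := cen_comm_J
  have hm := @ql4_mul R _ (Cen I J) _ φ I J F.hI F.hJ F.hJI hci hcj
  have hinj := @ql4_inj R _ I J (Cen I J) _ φ F.hI F.hJ F.hJI hci hcj h4 hφi
  -- `X` commutes with the coefficients
  have hcX : ∀ c, X * φ c = φ c * X := by
    intro c
    have e1 : (2 * X) * φ c = φ c * (2 * X) := by
      rw [F.hX]
      have a1 := hci c
      have a2 := hcj c
      have a3 : φ c * (I * J) = I * J * φ c := by
        rw [← mul_assoc, a1, mul_assoc, a2, mul_assoc]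
      linear_combination (norm := (noncomm_ring <;> norm_num)) a1 + a2 + a3
    have e2 : 2 * (X * φ c - φ c * X) = 0 := by
      linear_combination (norm := (noncomm_ring <;> norm_num)) e1
    exact sub_eq_zero.mp (h2.mul_right_eq_zero.mp e2)
  -- conjugation by `X` permutes the coordinates
  have hperm : ∀ a b c d : Cen I J, X * ql4 φ I J (a, b, c, d) = ql4 φ I J (a, d, b, c) * X := by
    intro a b c d
    simp only [ql4, ql]
    have e1 : X * (φ b * I) = φ b * J * X := by
      rw [← mul_assoc, hcX, mul_assoc, F.hXI, mul_assoc]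
    have e2 : X * (φ c * J) = φ c * (I * J) * X := by
      rw [← mul_assoc, hcX, mul_assoc, F.hXJ]; noncomm_ring
    have e3 : X * (φ d * (I * J)) = φ d * I * X := by
      rw [← mul_assoc, hcX, mul_assoc, F.hXK, mul_assoc]
    rw [mul_add, mul_add, mul_add, e1, e2, e3, hcX]
    noncomm_ring
  have hcancel : ∀ u w : R, u * X = w * X → u = w := by
    intro u w e
    calc u = u * X * V := by rw [mul_assoc, hXV, mul_one]
      _ = w * X * V := by rw [e]
      _ = w := by rw [mul_assoc, hXV, mul_one]
  obtain ⟨⟨a, b, c, d⟩, hp⟩ := exists_ql4 F.hI F.hJ F.hJI I'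
  have hJ' : 4 * J' = ql4 φ I J (a, d, b, c) := by
    apply hcancel
    rw [← hperm, ← hp]
    have := F'.hXI
    linear_combination (norm := (noncomm_ring <;> norm_num)) (-4 : R) * this
  have hK' : 4 * (I' * J') = ql4 φ I J (a, c, d, b) := by
    apply hcancel
    rw [← hperm, ← hJ']
    have := F'.hXJ
    linear_combination (norm := (noncomm_ring <;> norm_num)) (-4 : R) * this
  -- the sum
  have hsum : ql4 φ I J ((a, b, c, d) + (a, d, b, c) + (a, c, d, b)) = ql4 φ I J (0, 4, 4, 4) := by
    rw [← ql4_add, ← ql4_add, ← hp, ← hJ', ← hK']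
    have e1 := F.hX
    have e2 := F'.hX
    simp only [ql4, ql, map_zero, map_ofNat]
    linear_combination (norm := (noncomm_ring <;> norm_num)) (-4 : R) * e1 + (4 : R) * e2
  have hsum' := hinj hsum
  simp only [Prod.mk_add_mk, Prod.mk.injEq] at hsum'
  obtain ⟨ha3, hb4, -, -⟩ := hsum'
  have ha0 : a = 0 := by
    apply hφi
    rw [map_zero]
    apply h3.mul_right_eq_zero.mp
    have := congrArg φ ha3
    rw [map_add, map_add, map_zero] at this
    rw [← this]; noncomm_ring
  subst ha0
  -- the square
  have hsq : ql4 φ I J (hMul (0, b, c, d) (0, b, c, d)) = ql4 φ I J (-16, 0, 0, 0) := by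
    rw [← hm, ← hp]
    have e1 := F'.hI
    simp only [ql4, ql, map_zero, map_neg, map_ofNat]
    linear_combination (norm := (noncomm_ring <;> norm_num)) (16 : R) * e1
  have hsq' := hinj hsq
  simp only [hMul, Prod.mk.injEq] at hsq'
  obtain ⟨hs0, -, -, -⟩ := hsq'
  -- anticommutators
  have hac : ∀ q : Cen I J × Cen I J × Cen I J × Cen I J,
      ql4 φ I J q * (4 * I') + (4 * I') * ql4 φ I J q =
        ql4 φ I J (hMul q (0, b, c, d) + hMul (0, b, c, d) q) := by
    intro q
    rw [hp, hm, hm, ql4_add]
  refine ⟨φ b, φ c, φ d, ⟨hci b, hcj b⟩, ⟨hci c, hcj c⟩, ⟨hci d, hcj d⟩, ?_, ?_, ?_, ?_, ?_, ?_, ?_, ?_⟩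
  · rw [hp]; simp [ql4, ql]; rfl
  · rw [hJ']; simp [ql4, ql]
  · rw [hK']; simp [ql4, ql]
  · have := congrArg φ hb4
    rw [map_add, map_add, map_ofNat] at this
    rw [← this]; abel
  · have := congrArg φ hs0
    simp only [map_sub, map_mul, map_zero, map_neg, map_ofNat] at this
    linear_combination (norm := (noncomm_ring <;> norm_num)) (-1 : R) * this
  · have e := hac (0, 1, 0, 0)
    rw [← ql4_I] at e
    have e2 : hMul ((0 : Cen I J), (1 : Cen I J), (0 : Cen I J), (0 : Cen I J)) (0, b, c, d)
        + hMul (0, b, c, d) (0, 1, 0, 0) = (-(2 * b), 0, 0, 0) := by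
      simp only [hMul, Prod.mk_add_mk, Prod.mk.injEq]
      refine ⟨?_, ?_, ?_, ?_⟩ <;> noncomm_ring
    rw [e2, ← ql4_const, map_neg, map_mul, map_ofNat] at e
    have e3 : 2 * (2 * (I * I' + I' * I) + φ b) = 0 := by
      linear_combination (norm := (noncomm_ring <;> norm_num)) e
    exact eq_neg_of_add_eq_zero_left (h2.mul_right_eq_zero.mp e3)
  · have e := hac (0, 0, 1, 0)
    rw [← ql4_J] at e
    have e2 : hMul ((0 : Cen I J), (0 : Cen I J), (1 : Cen I J), (0 : Cen I J)) (0, b, c, d)
        + hMul (0, b, c, d) (0, 0, 1, 0) = (-(2 * c), 0, 0, 0) := by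
      simp only [hMul, Prod.mk_add_mk, Prod.mk.injEq]
      refine ⟨?_, ?_, ?_, ?_⟩ <;> noncomm_ring
    rw [e2, ← ql4_const, map_neg, map_mul, map_ofNat] at e
    have e3 : 2 * (2 * (J * I' + I' * J) + φ c) = 0 := by
      linear_combination (norm := (noncomm_ring <;> norm_num)) e
    exact eq_neg_of_add_eq_zero_left (h2.mul_right_eq_zero.mp e3)
  · have e := hac (0, 0, 0, 1)
    rw [← ql4_K] at e
    have e2 : hMul ((0 : Cen I J), (0 : Cen I J), (0 : Cen I J), (1 : Cen I J)) (0, b, c, d)
        + hMul (0, b, c, d) (0, 0, 0, 1) = (-(2 * d), 0, 0, 0) := by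
      simp only [hMul, Prod.mk_add_mk, Prod.mk.injEq]
      refine ⟨?_, ?_, ?_, ?_⟩ <;> noncomm_ring
    rw [e2, ← ql4_const, map_neg, map_mul, map_ofNat] at e
    have e3 : 2 * (2 * (I * J * I' + I' * (I * J)) + φ d) = 0 := by
      linear_combination (norm := (noncomm_ring <;> norm_num)) e
    exact eq_neg_of_add_eq_zero_left (h2.mul_right_eq_zero.mp e3)

/-- the arithmetic of the three coordinates -/
theorem triple_types [Nontrivial R] (h2 : IsUnit (2 : R)) (h3 : IsUnit (3 : R)) {b c d : R}
    (tb : b = -2 ∨ b = 2 ∨ b = 0 ∨ b * b - 2 * b - 4 = 0)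
    (tc : c = -2 ∨ c = 2 ∨ c = 0 ∨ c * c - 2 * c - 4 = 0)
    (td : d = -2 ∨ d = 2 ∨ d = 0 ∨ d * d - 2 * d - 4 = 0)
    (hsum : b + c + d = 4) (hsq : b * b + c * c + d * d = 16) :
    (b = 2 ∧ c * c - 2 * c - 4 = 0) ∨ (c = 2 ∧ d * d - 2 * d - 4 = 0) ∨
      (d = 2 ∧ b * b - 2 * b - 4 = 0) := by
  have h4 : IsUnit (4 : R) := by
    have : (4 : R) = 2 * 2 := by norm_num
    rw [this]; exact h2.mul h2
  have ne0 : ∀ a b : ℕ, (2 : R) ^ a * 3 ^ b ≠ 0 := fun a b =>
    ((h2.pow a).mul (h3.pow b)).ne_zero
  rcases tb with hb | hb | hb | hb <;> rcases tc with hc | hc | hc | hc <;>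
    rcases td with hd | hd | hd | hd
  · -- AAA
    subst hb
    subst hc
    subst hd
    exfalso
    have e0 : (4 : R) = 0 := by
      linear_combination (norm := (noncomm_ring <;> norm_num)) (-1 : R) * hsq
    exact ne0 2 0 (by norm_num; exact e0)
  · -- AAC
    subst hb
    subst hc
    subst hd
    exfalso
    have e0 : (6 : R) = 0 := by
      linear_combination (norm := (noncomm_ring <;> norm_num)) (-1 : R) * hsum
    exact ne0 1 1 (by norm_num; exact e0)
  · -- AAD
    subst hb
    subst hc
    subst hd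
    exfalso
    have e0 : (8 : R) = 0 := by
      linear_combination (norm := (noncomm_ring <;> norm_num)) (-1 : R) * hsum
    exact ne0 3 0 (by norm_num; exact e0)
  · -- AAE
    subst hb
    subst hc
    have ev : d = (8 : R) := by linear_combination (norm := (noncomm_ring <;> norm_num)) hsum
    subst ev
    exfalso
    have e0 : (4 : R) = 0 := by
      linear_combination (norm := (noncomm_ring <;> norm_num)) (-19 : R) * hd + (15 : R) * hsq
    exact ne0 2 0 (by norm_num; exact e0)
  · -- ACA
    subst hb
    subst hc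
    subst hd
    exfalso
    have e0 : (6 : R) = 0 := by
      linear_combination (norm := (noncomm_ring <;> norm_num)) (-1 : R) * hsum
    exact ne0 1 1 (by norm_num; exact e0)
  · -- ACC
    subst hb
    subst hc
    subst hd
    exfalso
    have e0 : (2 : R) = 0 := by
      linear_combination (norm := (noncomm_ring <;> norm_num)) (-1 : R) * hsum
    exact ne0 1 0 (by norm_num; exact e0)
  · -- ACD
    subst hb
    subst hc
    subst hd
    exfalso
    have e0 : (4 : R) = 0 := by
      linear_combination (norm := (noncomm_ring <;> norm_num)) (-1 : R) * hsum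
    exact ne0 2 0 (by norm_num; exact e0)
  · -- ACE
    subst hb
    subst hc
    have ev : d = (4 : R) := by linear_combination (norm := (noncomm_ring <;> norm_num)) hsum
    subst ev
    exfalso
    have e0 : (4 : R) = 0 := by
      linear_combination (norm := (noncomm_ring <;> norm_num)) (1 : R) * hd
    exact ne0 2 0 (by norm_num; exact e0)
  · -- ADA
    subst hb
    subst hc
    subst hd
    exfalso
    have e0 : (8 : R) = 0 := by
      linear_combination (norm := (noncomm_ring <;> norm_num)) (-1 : R) * hsum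
    exact ne0 3 0 (by norm_num; exact e0)
  · -- ADC
    subst hb
    subst hc
    subst hd
    exfalso
    have e0 : (4 : R) = 0 := by
      linear_combination (norm := (noncomm_ring <;> norm_num)) (-1 : R) * hsum
    exact ne0 2 0 (by norm_num; exact e0)
  · -- ADD
    subst hb
    subst hc
    subst hd
    exfalso
    have e0 : (6 : R) = 0 := by
      linear_combination (norm := (noncomm_ring <;> norm_num)) (-1 : R) * hsum
    exact ne0 1 1 (by norm_num; exact e0)
  · -- ADE
    subst hb
    subst hc
    have ev : d = (6 : R) := by linear_combination (norm := (noncomm_ring <;> norm_num)) hsum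
    subst ev
    exfalso
    have e0 : (24 : R) = 0 := by
      linear_combination (norm := (noncomm_ring <;> norm_num)) (1 : R) * hsq
    exact ne0 3 1 (by norm_num; exact e0)
  · -- AEA
    subst hb
    subst hd
    have ev : c = (8 : R) := by linear_combination (norm := (noncomm_ring <;> norm_num)) hsum
    subst ev
    exfalso
    have e0 : (4 : R) = 0 := by
      linear_combination (norm := (noncomm_ring <;> norm_num)) (-19 : R) * hc + (15 : R) * hsq
    exact ne0 2 0 (by norm_num; exact e0)
  · -- AEC
    subst hb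
    subst hd
    have ev : c = (4 : R) := by linear_combination (norm := (noncomm_ring <;> norm_num)) hsum
    subst ev
    exfalso
    have e0 : (4 : R) = 0 := by
      linear_combination (norm := (noncomm_ring <;> norm_num)) (1 : R) * hc
    exact ne0 2 0 (by norm_num; exact e0)
  · -- AED
    subst hb
    subst hd
    have ev : c = (6 : R) := by linear_combination (norm := (noncomm_ring <;> norm_num)) hsum
    subst ev
    exfalso
    have e0 : (24 : R) = 0 := by
      linear_combination (norm := (noncomm_ring <;> norm_num)) (1 : R) * hsq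
    exact ne0 3 1 (by norm_num; exact e0)
  · -- AEE
    subst hb
    exfalso
    have e0 : (8 : R) = 0 := by
      linear_combination (norm := (noncomm_ring <;> norm_num)) hsq - hc - hd - (2 : R) * hsum
    exact ne0 3 0 (by norm_num; exact e0)
  · -- CAA
    subst hb
    subst hc
    subst hd
    exfalso
    have e0 : (6 : R) = 0 := by
      linear_combination (norm := (noncomm_ring <;> norm_num)) (-1 : R) * hsum
    exact ne0 1 1 (by norm_num; exact e0)
  · -- CAC
    subst hb
    subst hc
    subst hd
    exfalso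
    have e0 : (2 : R) = 0 := by
      linear_combination (norm := (noncomm_ring <;> norm_num)) (-1 : R) * hsum
    exact ne0 1 0 (by norm_num; exact e0)
  · -- CAD
    subst hb
    subst hc
    subst hd
    exfalso
    have e0 : (4 : R) = 0 := by
      linear_combination (norm := (noncomm_ring <;> norm_num)) (-1 : R) * hsum
    exact ne0 2 0 (by norm_num; exact e0)
  · -- CAE
    subst hb
    subst hc
    have ev : d = (4 : R) := by linear_combination (norm := (noncomm_ring <;> norm_num)) hsum
    subst ev
    exfalso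
    have e0 : (4 : R) = 0 := by
      linear_combination (norm := (noncomm_ring <;> norm_num)) (1 : R) * hd
    exact ne0 2 0 (by norm_num; exact e0)
  · -- CCA
    subst hb
    subst hc
    subst hd
    exfalso
    have e0 : (2 : R) = 0 := by
      linear_combination (norm := (noncomm_ring <;> norm_num)) (-1 : R) * hsum
    exact ne0 1 0 (by norm_num; exact e0)
  · -- CCC
    subst hb
    subst hc
    subst hd
    exfalso
    have e0 : (2 : R) = 0 := by
      linear_combination (norm := (noncomm_ring <;> norm_num)) (1 : R) * hsum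
    exact ne0 1 0 (by norm_num; exact e0)
  · -- CCD
    subst hb
    subst hc
    subst hd
    exfalso
    have e0 : (8 : R) = 0 := by
      linear_combination (norm := (noncomm_ring <;> norm_num)) (-1 : R) * hsq
    exact ne0 3 0 (by norm_num; exact e0)
  · -- CCE
    subst hb
    subst hc
    have ev : d = (0 : R) := by linear_combination (norm := (noncomm_ring <;> norm_num)) hsum
    subst ev
    exfalso
    have e0 : (4 : R) = 0 := by
      linear_combination (norm := (noncomm_ring <;> norm_num)) (-1 : R) * hd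
    exact ne0 2 0 (by norm_num; exact e0)
  · -- CDA
    subst hb
    subst hc
    subst hd
    exfalso
    have e0 : (4 : R) = 0 := by
      linear_combination (norm := (noncomm_ring <;> norm_num)) (-1 : R) * hsum
    exact ne0 2 0 (by norm_num; exact e0)
  · -- CDC
    subst hb
    subst hc
    subst hd
    exfalso
    have e0 : (8 : R) = 0 := by
      linear_combination (norm := (noncomm_ring <;> norm_num)) (-1 : R) * hsq
    exact ne0 3 0 (by norm_num; exact e0)
  · -- CDD
    subst hb
    subst hc
    subst hd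
    exfalso
    have e0 : (2 : R) = 0 := by
      linear_combination (norm := (noncomm_ring <;> norm_num)) (-1 : R) * hsum
    exact ne0 1 0 (by norm_num; exact e0)
  · -- CDE
    subst hb
    subst hc
    have ev : d = (2 : R) := by linear_combination (norm := (noncomm_ring <;> norm_num)) hsum
    subst ev
    exfalso
    have e0 : (4 : R) = 0 := by
      linear_combination (norm := (noncomm_ring <;> norm_num)) (-1 : R) * hd
    exact ne0 2 0 (by norm_num; exact e0)
  · -- CEA
    subst hb
    subst hd
    have ev : c = (4 : R) := by linear_combination (norm := (noncomm_ring <;> norm_num)) hsum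
    subst ev
    exfalso
    have e0 : (4 : R) = 0 := by
      linear_combination (norm := (noncomm_ring <;> norm_num)) (1 : R) * hc
    exact ne0 2 0 (by norm_num; exact e0)
  · -- CEC
    subst hb
    subst hd
    have ev : c = (0 : R) := by linear_combination (norm := (noncomm_ring <;> norm_num)) hsum
    subst ev
    exfalso
    have e0 : (4 : R) = 0 := by
      linear_combination (norm := (noncomm_ring <;> norm_num)) (-1 : R) * hc
    exact ne0 2 0 (by norm_num; exact e0)
  · -- CED
    subst hb
    subst hd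
    have ev : c = (2 : R) := by linear_combination (norm := (noncomm_ring <;> norm_num)) hsum
    subst ev
    exfalso
    have e0 : (4 : R) = 0 := by
      linear_combination (norm := (noncomm_ring <;> norm_num)) (-1 : R) * hc
    exact ne0 2 0 (by norm_num; exact e0)
  · -- CEE
    subst hb
    exact Or.inl ⟨rfl, hc⟩
  · -- DAA
    subst hb
    subst hc
    subst hd
    exfalso
    have e0 : (8 : R) = 0 := by
      linear_combination (norm := (noncomm_ring <;> norm_num)) (-1 : R) * hsum
    exact ne0 3 0 (by norm_num; exact e0)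
  · -- DAC
    subst hb
    subst hc
    subst hd
    exfalso
    have e0 : (4 : R) = 0 := by
      linear_combination (norm := (noncomm_ring <;> norm_num)) (-1 : R) * hsum
    exact ne0 2 0 (by norm_num; exact e0)
  · -- DAD
    subst hb
    subst hc
    subst hd
    exfalso
    have e0 : (6 : R) = 0 := by
      linear_combination (norm := (noncomm_ring <;> norm_num)) (-1 : R) * hsum
    exact ne0 1 1 (by norm_num; exact e0)
  · -- DAE
    subst hb
    subst hc
    have ev : d = (6 : R) := by linear_combination (norm := (noncomm_ring <;> norm_num)) hsum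
    subst ev
    exfalso
    have e0 : (24 : R) = 0 := by
      linear_combination (norm := (noncomm_ring <;> norm_num)) (1 : R) * hsq
    exact ne0 3 1 (by norm_num; exact e0)
  · -- DCA
    subst hb
    subst hc
    subst hd
    exfalso
    have e0 : (4 : R) = 0 := by
      linear_combination (norm := (noncomm_ring <;> norm_num)) (-1 : R) * hsum
    exact ne0 2 0 (by norm_num; exact e0)
  · -- DCC
    subst hb
    subst hc
    subst hd
    exfalso
    have e0 : (8 : R) = 0 := by
      linear_combination (norm := (noncomm_ring <;> norm_num)) (-1 : R) * hsq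
    exact ne0 3 0 (by norm_num; exact e0)
  · -- DCD
    subst hb
    subst hc
    subst hd
    exfalso
    have e0 : (2 : R) = 0 := by
      linear_combination (norm := (noncomm_ring <;> norm_num)) (-1 : R) * hsum
    exact ne0 1 0 (by norm_num; exact e0)
  · -- DCE
    subst hb
    subst hc
    have ev : d = (2 : R) := by linear_combination (norm := (noncomm_ring <;> norm_num)) hsum
    subst ev
    exfalso
    have e0 : (4 : R) = 0 := by
      linear_combination (norm := (noncomm_ring <;> norm_num)) (-1 : R) * hd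
    exact ne0 2 0 (by norm_num; exact e0)
  · -- DDA
    subst hb
    subst hc
    subst hd
    exfalso
    have e0 : (6 : R) = 0 := by
      linear_combination (norm := (noncomm_ring <;> norm_num)) (-1 : R) * hsum
    exact ne0 1 1 (by norm_num; exact e0)
  · -- DDC
    subst hb
    subst hc
    subst hd
    exfalso
    have e0 : (2 : R) = 0 := by
      linear_combination (norm := (noncomm_ring <;> norm_num)) (-1 : R) * hsum
    exact ne0 1 0 (by norm_num; exact e0)
  · -- DDD
    subst hb
    subst hc
    subst hd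
    exfalso
    have e0 : (4 : R) = 0 := by
      linear_combination (norm := (noncomm_ring <;> norm_num)) (-1 : R) * hsum
    exact ne0 2 0 (by norm_num; exact e0)
  · -- DDE
    subst hb
    subst hc
    have ev : d = (4 : R) := by linear_combination (norm := (noncomm_ring <;> norm_num)) hsum
    subst ev
    exfalso
    have e0 : (4 : R) = 0 := by
      linear_combination (norm := (noncomm_ring <;> norm_num)) (1 : R) * hd
    exact ne0 2 0 (by norm_num; exact e0)
  · -- DEA
    subst hb
    subst hd
    have ev : c = (6 : R) := by linear_combination (norm := (noncomm_ring <;> norm_num)) hsum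
    subst ev
    exfalso
    have e0 : (24 : R) = 0 := by
      linear_combination (norm := (noncomm_ring <;> norm_num)) (1 : R) * hsq
    exact ne0 3 1 (by norm_num; exact e0)
  · -- DEC
    subst hb
    subst hd
    have ev : c = (2 : R) := by linear_combination (norm := (noncomm_ring <;> norm_num)) hsum
    subst ev
    exfalso
    have e0 : (4 : R) = 0 := by
      linear_combination (norm := (noncomm_ring <;> norm_num)) (-1 : R) * hc
    exact ne0 2 0 (by norm_num; exact e0)
  · -- DED
    subst hb
    subst hd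
    have ev : c = (4 : R) := by linear_combination (norm := (noncomm_ring <;> norm_num)) hsum
    subst ev
    exfalso
    have e0 : (4 : R) = 0 := by
      linear_combination (norm := (noncomm_ring <;> norm_num)) (1 : R) * hc
    exact ne0 2 0 (by norm_num; exact e0)
  · -- DEE
    subst hb
    have ev : d = 4 - c := by linear_combination (norm := (noncomm_ring <;> norm_num)) hsum
    subst ev
    have e1 : (4 : R) * (2 - c) = 0 := by linear_combination (norm := (noncomm_ring <;> norm_num)) hd - hc
    have e2 : c = 2 := (sub_eq_zero.mp (h4.mul_right_eq_zero.mp e1)).symm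
    rw [e2] at hc
    exfalso
    have e0 : (4 : R) = 0 := by
      linear_combination (norm := (noncomm_ring <;> norm_num)) (-1 : R) * hc
    exact ne0 2 0 (by norm_num; exact e0)
  · -- EAA
    subst hc
    subst hd
    have ev : b = (8 : R) := by linear_combination (norm := (noncomm_ring <;> norm_num)) hsum
    subst ev
    exfalso
    have e0 : (4 : R) = 0 := by
      linear_combination (norm := (noncomm_ring <;> norm_num)) (-19 : R) * hb + (15 : R) * hsq
    exact ne0 2 0 (by norm_num; exact e0)
  · -- EAC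
    subst hc
    subst hd
    have ev : b = (4 : R) := by linear_combination (norm := (noncomm_ring <;> norm_num)) hsum
    subst ev
    exfalso
    have e0 : (4 : R) = 0 := by
      linear_combination (norm := (noncomm_ring <;> norm_num)) (1 : R) * hb
    exact ne0 2 0 (by norm_num; exact e0)
  · -- EAD
    subst hc
    subst hd
    have ev : b = (6 : R) := by linear_combination (norm := (noncomm_ring <;> norm_num)) hsum
    subst ev
    exfalso
    have e0 : (24 : R) = 0 := by
      linear_combination (norm := (noncomm_ring <;> norm_num)) (1 : R) * hsq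
    exact ne0 3 1 (by norm_num; exact e0)
  · -- EAE
    subst hc
    exfalso
    have e0 : (8 : R) = 0 := by
      linear_combination (norm := (noncomm_ring <;> norm_num)) hsq - hb - hd - (2 : R) * hsum
    exact ne0 3 0 (by norm_num; exact e0)
  · -- ECA
    subst hc
    subst hd
    have ev : b = (4 : R) := by linear_combination (norm := (noncomm_ring <;> norm_num)) hsum
    subst ev
    exfalso
    have e0 : (4 : R) = 0 := by
      linear_combination (norm := (noncomm_ring <;> norm_num)) (1 : R) * hb
    exact ne0 2 0 (by norm_num; exact e0)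
  · -- ECC
    subst hc
    subst hd
    have ev : b = (0 : R) := by linear_combination (norm := (noncomm_ring <;> norm_num)) hsum
    subst ev
    exfalso
    have e0 : (4 : R) = 0 := by
      linear_combination (norm := (noncomm_ring <;> norm_num)) (-1 : R) * hb
    exact ne0 2 0 (by norm_num; exact e0)
  · -- ECD
    subst hc
    subst hd
    have ev : b = (2 : R) := by linear_combination (norm := (noncomm_ring <;> norm_num)) hsum
    subst ev
    exfalso
    have e0 : (4 : R) = 0 := by
      linear_combination (norm := (noncomm_ring <;> norm_num)) (-1 : R) * hb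
    exact ne0 2 0 (by norm_num; exact e0)
  · -- ECE
    subst hc
    exact Or.inr (Or.inl ⟨rfl, hd⟩)
  · -- EDA
    subst hc
    subst hd
    have ev : b = (6 : R) := by linear_combination (norm := (noncomm_ring <;> norm_num)) hsum
    subst ev
    exfalso
    have e0 : (24 : R) = 0 := by
      linear_combination (norm := (noncomm_ring <;> norm_num)) (1 : R) * hsq
    exact ne0 3 1 (by norm_num; exact e0)
  · -- EDC
    subst hc
    subst hd
    have ev : b = (2 : R) := by linear_combination (norm := (noncomm_ring <;> norm_num)) hsum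
    subst ev
    exfalso
    have e0 : (4 : R) = 0 := by
      linear_combination (norm := (noncomm_ring <;> norm_num)) (-1 : R) * hb
    exact ne0 2 0 (by norm_num; exact e0)
  · -- EDD
    subst hc
    subst hd
    have ev : b = (4 : R) := by linear_combination (norm := (noncomm_ring <;> norm_num)) hsum
    subst ev
    exfalso
    have e0 : (4 : R) = 0 := by
      linear_combination (norm := (noncomm_ring <;> norm_num)) (1 : R) * hb
    exact ne0 2 0 (by norm_num; exact e0)
  · -- EDE
    subst hc
    have ev : d = 4 - b := by linear_combination (norm := (noncomm_ring <;> norm_num)) hsum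
    subst ev
    have e1 : (4 : R) * (2 - b) = 0 := by linear_combination (norm := (noncomm_ring <;> norm_num)) hd - hb
    have e2 : b = 2 := (sub_eq_zero.mp (h4.mul_right_eq_zero.mp e1)).symm
    rw [e2] at hb
    exfalso
    have e0 : (4 : R) = 0 := by
      linear_combination (norm := (noncomm_ring <;> norm_num)) (-1 : R) * hb
    exact ne0 2 0 (by norm_num; exact e0)
  · -- EEA
    subst hd
    exfalso
    have e0 : (8 : R) = 0 := by
      linear_combination (norm := (noncomm_ring <;> norm_num)) hsq - hb - hc - (2 : R) * hsum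
    exact ne0 3 0 (by norm_num; exact e0)
  · -- EEC
    subst hd
    exact Or.inr (Or.inr ⟨rfl, hb⟩)
  · -- EED
    subst hd
    have ev : c = 4 - b := by linear_combination (norm := (noncomm_ring <;> norm_num)) hsum
    subst ev
    have e1 : (4 : R) * (2 - b) = 0 := by linear_combination (norm := (noncomm_ring <;> norm_num)) hc - hb
    have e2 : b = 2 := (sub_eq_zero.mp (h4.mul_right_eq_zero.mp e1)).symm
    rw [e2] at hb
    exfalso
    have e0 : (4 : R) = 0 := by
      linear_combination (norm := (noncomm_ring <;> norm_num)) (-1 : R) * hb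
    exact ne0 2 0 (by norm_num; exact e0)
  · -- EEE
    exfalso
    have e0 : (4 : R) = 0 := by
      linear_combination (norm := (noncomm_ring <;> norm_num)) hsq - hb - hc - hd - (2 : R) * hsum
    exact ne0 2 0 (by norm_num; exact e0)

end ZTwo

section ZTwoG

variable {G : Type*} [Group G] {R : Type*} [Ring R] {ρ : G →* R}

theorem trace_conj (ρ : G →* R) (g a : G) :
    ρ (g * a * g⁻¹) + ρ (g * a * g⁻¹)⁻¹ = ρ g * (ρ a + ρ a⁻¹) * ρ g⁻¹ := by
  have : (g * a * g⁻¹)⁻¹ = g * a⁻¹ * g⁻¹ := by group
  rw [this, map_mul, map_mul, map_mul, map_mul]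
  noncomm_ring

theorem ZP.conj {x y : G} (P : ZP ρ x y) : ZP ρ x (x * y * x⁻¹) := by
  refine ⟨P.hx, P.hx3, ?_, ?_, ?_⟩
  · intro e
    apply P.hy
    have : y = x⁻¹ * (x * y * x⁻¹) * x := by group
    rw [this, e]; group
  · rw [conj_pow, P.hy3]; group
  · have : x * (x * y * x⁻¹) = x * (x * y) * x⁻¹ := by group
    rw [this, trace_conj, P.htr]; simp

theorem ZP.conj' {x y : G} (P : ZP ρ x y) : ZP ρ x (x⁻¹ * y * x) := by
  refine ⟨P.hx, P.hx3, ?_, ?_, ?_⟩
  · intro e
    apply P.hy
    have : y = x * (x⁻¹ * y * x) * x⁻¹ := by group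
    rw [this, e]; group
  · have : x⁻¹ * y * x = x⁻¹ * y * x⁻¹⁻¹ := by group
    rw [this, conj_pow, P.hy3]; group
  · have : x * (x⁻¹ * y * x) = x⁻¹ * (x * y) * x⁻¹⁻¹ := by group
    rw [this, trace_conj, P.htr]; simp

theorem ZP.alpha {x y : G} (P : ZP ρ x y) (h : Fpf ρ) :
    ρ x * ρ (x * y) + ρ (x * y) * ρ x + ρ (x * y) = 1 := by
  have D := P.data h
  have cI := D.mul D.cx D.cy
  have hm := @xl4_mul R _ ℤ _ (Int.castRingHom R) (ρ x) (ρ y) 0 D.hXX D.hYY D.hYX D.hcX D.hcY
  have h1 := xl4_one (Int.castRingHom R) (ρ x) (ρ y)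
  rw [D.cx.1, cI.1, hm, hm, xl4_add, xl4_add, h1]
  exact congrArg _ (by decide)

theorem ZP.conj_val {x y : G} (P : ZP ρ x y) (h : Fpf ρ) :
    ρ (x * y * x * (x * y)⁻¹) = ρ x⁻¹ - ρ (x * y) := by
  have D := P.data h
  have cI := D.mul D.cx D.cy
  have c := D.mul (D.mul cI D.cx) (D.inv cI)
  rw [c.1, (D.inv D.cx).1, cI.1, xl4_sub]
  exact congrArg _ (by decide)

/-- the second and third basis elements of the frame of a zero pair -/
theorem ZP.rK {x y : G} (P : ZP ρ x y) (h : Fpf ρ) :
    ρ (x * (x⁻¹ * y * x)) = ρ (x * y) * ρ (x * (x * y) * x⁻¹) := by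
  have D := P.data h
  have cI := D.mul D.cx D.cy
  have cJ := D.mul (D.mul D.cx cI) (D.inv D.cx)
  have cK := D.mul D.cx (D.mul (D.mul (D.inv D.cx) D.cy) D.cx)
  have hm := @xl4_mul R _ ℤ _ (Int.castRingHom R) (ρ x) (ρ y) 0 D.hXX D.hYY D.hYX D.hcX D.hcY
  rw [cK.1, cI.1, cJ.1, hm]
  exact congrArg _ (by decide)

theorem ZP.rJ {x y : G} (_P : ZP ρ x y) :
    ρ (x * (x * y * x⁻¹)) = ρ (x * (x * y) * x⁻¹) := by
  congr 1; group

/-- trace of the product of the conjugates of `x` by the quaternion elements of two zero pairs -/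
theorem ZP.trace_conj_pair {x y₁ y₂ : G} (P₁ : ZP ρ x y₁) (P₂ : ZP ρ x y₂) (h : Fpf ρ) :
    ρ (x * y₁ * x * (x * y₁)⁻¹ * (x * y₂ * x * (x * y₂)⁻¹)) +
      ρ (x * y₁ * x * (x * y₁)⁻¹ * (x * y₂ * x * (x * y₂)⁻¹))⁻¹ =
      1 + (ρ (x * y₁) * ρ (x * y₂) + ρ (x * y₂) * ρ (x * y₁)) := by
  have ha1 : x * y₁ * x * (x * y₁)⁻¹ ≠ 1 := by
    intro e
    apply P₁.hx
    have : x = (x * y₁)⁻¹ * (x * y₁ * x * (x * y₁)⁻¹) * (x * y₁) := by group
    rw [this, e]; group
  have ha3 : (x * y₁ * x * (x * y₁)⁻¹) ^ 3 = 1 := by rw [conj_pow, P₁.hx3]; group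
  have hb1 : x * y₂ * x * (x * y₂)⁻¹ ≠ 1 := by
    intro e
    apply P₂.hx
    have : x = (x * y₂)⁻¹ * (x * y₂ * x * (x * y₂)⁻¹) * (x * y₂) := by group
    rw [this, e]; group
  have hb3 : (x * y₂ * x * (x * y₂)⁻¹) ^ 3 = 1 := by rw [conj_pow, P₂.hx3]; group
  rw [h.trace_mul_order3 ha1 ha3 hb1 hb3, P₁.conj_val h, P₂.conj_val h]
  have hV : ρ x⁻¹ * ρ x⁻¹ = -1 - ρ x⁻¹ :=
    h.sq_order3 (inv_ne_one.mpr P₁.hx) (by rw [inv_pow, P₁.hx3, inv_one])
  have hVX : ρ x⁻¹ = -1 - ρ x := h.rho_inv_order3 P₁.hx P₁.hx3
  have b1 : ρ x⁻¹ * ρ (x * y₁) + ρ (x * y₁) * ρ x⁻¹ + ρ (x * y₁) = -1 := by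
    rw [hVX]
    linear_combination (norm := (noncomm_ring <;> norm_num)) (-1 : R) * P₁.alpha h
  have b2 : ρ x⁻¹ * ρ (x * y₂) + ρ (x * y₂) * ρ x⁻¹ + ρ (x * y₂) = -1 := by
    rw [hVX]
    linear_combination (norm := (noncomm_ring <;> norm_num)) (-1 : R) * P₂.alpha h
  linear_combination (norm := (noncomm_ring <;> norm_num)) (2 : R) * hV - b1 - b2

/-- the possible values of the anticommutator of the quaternion elements of two zero pairs -/
theorem Fpf.pair_anti_type [Nontrivial R] [Finite G] (h : Fpf ρ) {z : G} (hz : z ≠ 1)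
    (hz2 : z * z = 1) {x y₁ y₂ : G} (P₁ : ZP ρ x y₁) (P₂ : ZP ρ x y₂) (hne : y₁ ≠ y₂) (b : R)
    (hb : 2 * (ρ (x * y₁) * ρ (x * y₂) + ρ (x * y₂) * ρ (x * y₁)) = -b) :
    b = -2 ∨ b = 2 ∨ b = 0 ∨ b * b - 2 * b - 4 = 0 := by
  have h2 := h.isUnit_two hz hz2
  have ha1 : x * y₁ * x * (x * y₁)⁻¹ ≠ 1 := by
    intro e
    apply P₁.hx
    have : x = (x * y₁)⁻¹ * (x * y₁ * x * (x * y₁)⁻¹) * (x * y₁) := by group
    rw [this, e]; group
  have ha3 : (x * y₁ * x * (x * y₁)⁻¹) ^ 3 = 1 := by rw [conj_pow, P₁.hx3]; group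
  have hb1 : x * y₂ * x * (x * y₂)⁻¹ ≠ 1 := by
    intro e
    apply P₂.hx
    have : x = (x * y₂)⁻¹ * (x * y₂ * x * (x * y₂)⁻¹) * (x * y₂) := by group
    rw [this, e]; group
  have hb3 : (x * y₂ * x * (x * y₂)⁻¹) ^ 3 = 1 := by rw [conj_pow, P₂.hx3]; group
  have hs := P₁.trace_conj_pair P₂ h
  have hbc : b = -(2 * (ρ (x * y₁) * ρ (x * y₂) + ρ (x * y₂) * ρ (x * y₁))) := by
    rw [hb, neg_neg]
  set c := ρ (x * y₁) * ρ (x * y₂) + ρ (x * y₂) * ρ (x * y₁) with hc
  rcases h.pairType hz hz2 ha1 ha3 hb1 hb3 with e | e | e | e | e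
  · -- b' = a⁻¹ : trace 2
    left
    rw [e, mul_inv_cancel, inv_one, map_one] at hs
    rw [hbc]
    linear_combination (norm := (noncomm_ring <;> norm_num)) (2 : R) * hs
  · -- b' = a
    exfalso
    rw [e] at hs
    have e1 : ρ (x * y₁ * x * (x * y₁)⁻¹ * (x * y₁ * x * (x * y₁)⁻¹)) +
        ρ (x * y₁ * x * (x * y₁)⁻¹ * (x * y₁ * x * (x * y₁)⁻¹))⁻¹ = -1 := by
      have e2 : (x * y₁ * x * (x * y₁)⁻¹ * (x * y₁ * x * (x * y₁)⁻¹)) =
          (x * y₁ * x * (x * y₁)⁻¹)⁻¹ := by
        apply eq_inv_of_mul_eq_one_left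
        rw [← ha3, pow_succ, pow_two]
      rw [e2, inv_inv, h.rho_inv_order3 ha1 ha3]; abel
    rw [e1] at hs
    have hc2 : c = -2 := by linear_combination (norm := (noncomm_ring <;> norm_num)) (-1 : R) * hs
    have hI1 := (P₁.qf h).hI
    have hI2 := (P₂.qf h).hI
    have hsq : (ρ (x * y₁) - ρ (x * y₂)) * (ρ (x * y₁) - ρ (x * y₂)) = 0 := by
      have : (ρ (x * y₁) - ρ (x * y₂)) * (ρ (x * y₁) - ρ (x * y₂)) =
          ρ (x * y₁) * ρ (x * y₁) + ρ (x * y₂) * ρ (x * y₂) - c := by
        rw [hc]; noncomm_ring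
      rw [this, hI1, hI2, hc2]; norm_num
    have hne' : x * y₁ ≠ x * y₂ := fun e' => hne (mul_left_cancel e')
    have hu := h.isUnit_sub hne'
    have := hu.mul_right_eq_zero.mp hsq
    exact hu.ne_zero this
  · -- s = 0
    right; left
    rw [e] at hs
    rw [hbc]
    linear_combination (norm := (noncomm_ring <;> norm_num)) (2 : R) * hs
  · -- s = 1
    right; right; left
    rw [e] at hs
    rw [hbc]
    linear_combination (norm := (noncomm_ring <;> norm_num)) (2 : R) * hs
  · -- golden
    right; right; right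
    rw [hs] at e
    rw [hbc]
    linear_combination (norm := (noncomm_ring <;> norm_num)) (4 : R) * e

/-- **Two zero pairs**: normal form of a second zero pair in the frame of the first -/
theorem Fpf.two_pairs [Nontrivial R] [Finite G] (h : Fpf ρ) {z : G} (hz : z ≠ 1) (hz2 : z * z = 1)
    {x y y' : G} (P : ZP ρ x y) (P' : ZP ρ x y')
    (hne1 : y' ≠ y) (hne2 : y' ≠ x * y * x⁻¹) (hne3 : y' ≠ x⁻¹ * y * x) :
    ∃ y'' : G, (y'' = y' ∨ y'' = x * y' * x⁻¹ ∨ y'' = x⁻¹ * y' * x) ∧ ZP ρ x y'' ∧
      ∃ δ : R, δ * ρ (x * y) = ρ (x * y) * δ ∧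
        δ * ρ (x * (x * y) * x⁻¹) = ρ (x * (x * y) * x⁻¹) * δ ∧ δ * δ = 5 ∧
        4 * ρ (x * y'') = 2 * ρ (x * y) + (1 + δ) * ρ (x * (x * y) * x⁻¹) +
          (1 - δ) * (ρ (x * y) * ρ (x * (x * y) * x⁻¹)) := by
  have h2 := h.isUnit_two hz hz2
  have h3 := h.isUnit_three P.hx P.hx3
  have F := P.qf h
  have F' := P'.qf h
  obtain ⟨B, C, D, hB, hC, hD, e1, e2, e3, hsum, hsq, aB, aC, aD⟩ :=
    two_frames (rho_mul_inv ρ x) F F' h2 h3
  have tB := h.pair_anti_type hz hz2 P P' hne1.symm B aB
  have tC := h.pair_anti_type hz hz2 P.conj P' (fun e => hne2 e.symm) C (by rw [P.rJ]; exact aC)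
  have tD := h.pair_anti_type hz hz2 P.conj' P' (fun e => hne3 e.symm) D
    (by rw [P.rK h]; exact aD)
  rcases triple_types h2 h3 tB tC tD hsum hsq with ⟨hB2, hE⟩ | ⟨hC2, hE⟩ | ⟨hD2, hE⟩
  · refine ⟨y', Or.inl rfl, P', C - 1, ?_, ?_, ?_, ?_⟩
    · rw [sub_mul, mul_sub, hC.1, one_mul, mul_one]
    · rw [sub_mul, mul_sub, hC.2, one_mul, mul_one]
    · linear_combination (norm := (noncomm_ring <;> norm_num)) hE
    · have hD' : D = 2 - C := by
        linear_combination (norm := (noncomm_ring <;> norm_num)) hsum - hB2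
      rw [e1, hB2, hD']; noncomm_ring
  · refine ⟨x⁻¹ * y' * x, Or.inr (Or.inr rfl), P'.conj', D - 1, ?_, ?_, ?_, ?_⟩
    · rw [sub_mul, mul_sub, hD.1, one_mul, mul_one]
    · rw [sub_mul, mul_sub, hD.2, one_mul, mul_one]
    · linear_combination (norm := (noncomm_ring <;> norm_num)) hE
    · have hB' : B = 2 - D := by
        linear_combination (norm := (noncomm_ring <;> norm_num)) hsum - hC2
      rw [P'.rK h, e3, hC2, hB']; noncomm_ring
  · refine ⟨x * y' * x⁻¹, Or.inr (Or.inl rfl), P'.conj, B - 1, ?_, ?_, ?_, ?_⟩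
    · rw [sub_mul, mul_sub, hB.1, one_mul, mul_one]
    · rw [sub_mul, mul_sub, hB.2, one_mul, mul_one]
    · linear_combination (norm := (noncomm_ring <;> norm_num)) hE
    · have hC' : C = 2 - B := by
        linear_combination (norm := (noncomm_ring <;> norm_num)) hsum - hD2
      rw [P'.rJ, e2, hD2, hC']; noncomm_ring

end ZTwoG

end Cfsg.Agent.Helper56
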