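import Mathlib
import Cfsg.Agent.Helper56.ZTwo

/-!
# Three zero pairs: there is no third orbit
-/

namespace Cfsg.Agent.Helper56

section ZTripleR

variable {R : Type*} [Ring R]

/-- rotation of the coordinates of a second frame -/
theorem frame_rot {X V I J I' J' : R} (hXV : X * V = 1) (F : QF X I J) (F' : QF X I' J')
    (h2 : IsUnit (2 : R)) {a b c d : Cen I J}
    (hp : 4 * I' = ql4 (Cen I J).subtype I J (a, b, c, d)) :
    4 * J' = ql4 (Cen I J).subtype I J (a, d, b, c) ∧
      4 * (I' * J') = ql4 (Cen I J).subtype I J (a, c, d, b) := by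
  set φ := (Cen I J).subtype with hφ
  have hci : ∀ c, φ c * I = I * φ c := cen_comm_I
  have hcj : ∀ c, φ c * J = J * φ c := cen_comm_J
  have hcX : ∀ c, X * φ c = φ c * X := by
    intro c
    have e1 : (2 * X) * φ c = φ c * (2 * X) := by
      rw [F.hX]
      have a1 := hci c
      have a2 := hcj c
      have a3 : φ c * (I * J) = I * J * φ c := by
        rw [← mul_assoc, a1, mul_assoc, a2, mul_assoc]
      linear_combination (norm := (noncomm_ring <;> norm_num)) a1 + a2 + a3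
    have e2 : 2 * (X * φ c - φ c * X) = 0 := by
      linear_combination (norm := (noncomm_ring <;> norm_num)) e1
    exact sub_eq_zero.mp (h2.mul_right_eq_zero.mp e2)
  have hperm : ∀ a b c d : Cen I J, X * ql4 φ I J (a, b, c, d) = ql4 φ I J (a, d, b, c) * X := by
    intro a b c d
    simp only [ql4, ql]
    have e1 : X * (φ b * I) = φ b * J * X := by
      rw [← mul_assoc, hcX, mul_assoc, F.hXI, mul_assoc]
    have e2 : X * (φ c * J) = φ c * (I * J) * X := by
      rw [← mul_assoc, hcX, mul_assoc, F.hXJ]; noncomm_ring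
    have e3 : X * (φ d * (I * J)) = φ d * I * X := by
      rw [← mul_assoc, hcX, mul_assoc, F.hXK, mul_assoc]
    rw [mul_add, mul_add, mul_add, e1, e2, e3, hcX]
    noncomm_ring
  have hcancel : ∀ u w : R, u * X = w * X → u = w := by
    intro u w e
    calc u = u * X * V := by rw [mul_assoc, hXV, mul_one]
      _ = w * X * V := by rw [e]
      _ = w := by rw [mul_assoc, hXV, mul_one]
  have hJ' : 4 * J' = ql4 φ I J (a, d, b, c) := by
    apply hcancel
    rw [← hperm, ← hp]
    have := F'.hXI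
    linear_combination (norm := (noncomm_ring <;> norm_num)) (-4 : R) * this
  have hK' : 4 * (I' * J') = ql4 φ I J (a, c, d, b) := by
    apply hcancel
    rw [← hperm, ← hJ']
    have := F'.hXJ
    linear_combination (norm := (noncomm_ring <;> norm_num)) (-4 : R) * this
  exact ⟨hJ', hK'⟩

/-- commuting square roots of five: the first impossible configuration -/
theorem sqrt5_comm_false [Nontrivial R] (h2 : IsUnit (2 : R)) {δ ε : R} (hδ : δ * δ = 5)
    (hε : ε * ε = 5) (hw : δ * ε = ε * δ)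
    (h1 : (ε - δ = 3 + δ * ε) ∨ (δ - ε = 3 + δ * ε)) : False := by
  have hνν : δ * ε * (δ * ε) = 25 := by
    calc δ * ε * (δ * ε) = δ * (ε * δ) * ε := by noncomm_ring
      _ = δ * (δ * ε) * ε := by rw [hw]
      _ = (δ * δ) * (ε * ε) := by noncomm_ring
      _ = 25 := by rw [hδ, hε]; norm_num
  have e2 : (ε - δ) * (ε - δ) = 10 - 2 * (δ * ε) := by
    linear_combination (norm := (noncomm_ring <;> norm_num)) hε + hδ + hw
  have e2' : (δ - ε) * (δ - ε) = 10 - 2 * (δ * ε) := by
    rw [← e2]; noncomm_ring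
  have e3 : (3 + δ * ε) * (3 + δ * ε) = 34 + 6 * (δ * ε) := by
    linear_combination (norm := (noncomm_ring <;> norm_num)) hνν
  have e4 : 10 - 2 * (δ * ε) = 34 + 6 * (δ * ε) := by
    rcases h1 with h1 | h1
    · rw [← e2, h1, e3]
    · rw [← e2', h1, e3]
  have h8 : IsUnit (8 : R) := by
    have : (8 : R) = 2 * 2 * 2 := by norm_num
    rw [this]; exact (h2.mul h2).mul h2
  have e5 : 8 * (δ * ε + 3) = 0 := by
    linear_combination (norm := (noncomm_ring <;> norm_num)) (-1 : R) * e4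
  have e6 : δ * ε = -3 := eq_neg_of_add_eq_zero_left (h8.mul_right_eq_zero.mp e5)
  rw [e6] at hνν
  have e7 : (16 : R) = 0 := by
    linear_combination (norm := (noncomm_ring <;> norm_num)) (-1 : R) * hνν
  have h16 : IsUnit (16 : R) := by
    have : (16 : R) = 2 * 2 * 2 * 2 := by norm_num
    rw [this]; exact ((h2.mul h2).mul h2).mul h2
  exact h16.ne_zero e7


theorem ql4_mul16 {C : Type*} [Ring C] (φ : C →+* R) (I J : R) (a b c d : C) :
    16 * ql4 φ I J (a, b, c, d) = ql4 φ I J (16 * a, 16 * b, 16 * c, 16 * d) := by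
  simp only [ql4, ql, map_mul, map_ofNat]
  noncomm_ring

/-- the anticommutator cases for a third frame in golden position -/
theorem frame3_anti [Nontrivial R] {X V I J I' J' I'' : R} (hXV : X * V = 1) (F : QF X I J)
    (F' : QF X I' J') (h2 : IsUnit (2 : R)) {dl ep : Cen I J} (hdl : dl * dl = 5)
    (hep : ep * ep = 5)
    (hp' : 4 * I' = ql4 (Cen I J).subtype I J (0, 2, 1 + dl, 1 - dl))
    (hp'' : 4 * I'' = ql4 (Cen I J).subtype I J (0, 2, 1 + ep, 1 - ep)) :
    (I'' ≠ J' ∧ I'' ≠ I' * J') ∧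
    (2 * (I' * I'' + I'' * I') = -2 → dl * ep + ep * dl = 2) ∧
    (2 * (J' * I'' + I'' * J') = -2 → False) ∧
    (2 * (I' * J' * I'' + I'' * (I' * J')) = -2 → False) := by
  have h4 : IsUnit (4 : R) := by
    have : (4 : R) = 2 * 2 := by norm_num
    rw [this]; exact h2.mul h2
  obtain ⟨hJ', hK'⟩ := frame_rot hXV F F' h2 hp'
  set φ := (Cen I J).subtype with hφ
  have hφi : Function.Injective φ := Subtype.val_injective
  have hci : ∀ c, φ c * I = I * φ c := cen_comm_I
  have hcj : ∀ c, φ c * J = J * φ c := cen_comm_J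
  have hm := @ql4_mul R _ (Cen I J) _ φ I J F.hI F.hJ F.hJI hci hcj
  have hinj := @ql4_inj R _ I J (Cen I J) _ φ F.hI F.hJ F.hJI hci hcj h4 hφi
  have hδ : φ dl * φ dl = 5 := by rw [← map_mul, hdl, map_ofNat]
  have hε : φ ep * φ ep = 5 := by rw [← map_mul, hep, map_ofNat]
  have h4ne : (4 : R) ≠ 0 := h4.ne_zero
  refine ⟨⟨?_, ?_⟩, ?_, ?_, ?_⟩
  · intro e
    rw [e, hJ'] at hp''
    have e1 := hinj hp''
    simp only [Prod.mk.injEq] at e1
    obtain ⟨-, e2, -, -⟩ := e1
    have e3 : φ dl = -1 := by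
      have := congrArg φ e2
      rw [map_sub, map_one, map_ofNat] at this
      linear_combination (norm := (noncomm_ring <;> norm_num)) (-1 : R) * this
    rw [e3] at hδ
    apply h4ne
    linear_combination (norm := (noncomm_ring <;> norm_num)) (-1 : R) * hδ
  · intro e
    rw [e, hK'] at hp''
    have e1 := hinj hp''
    simp only [Prod.mk.injEq] at e1
    obtain ⟨-, e2, -, -⟩ := e1
    have e3 : φ dl = 1 := by
      have := congrArg φ e2
      rw [map_add, map_one, map_ofNat] at this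
      linear_combination (norm := (noncomm_ring <;> norm_num)) this
    rw [e3] at hδ
    apply h4ne
    linear_combination (norm := (noncomm_ring <;> norm_num)) (-1 : R) * hδ
  · intro hB
    have e1 : ql4 φ I J (hMul (0, 2, 1 + dl, 1 - dl) (0, 2, 1 + ep, 1 - ep) +
        hMul (0, 2, 1 + ep, 1 - ep) (0, 2, 1 + dl, 1 - dl)) = ql4 φ I J (-16, 0, 0, 0) := by
      rw [← ql4_add, ← hm, ← hm, ← hp', ← hp'', ← ql4_const, map_neg, map_ofNat]
      linear_combination (norm := (noncomm_ring <;> norm_num)) (8 : R) * hB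
    have e2 := hinj e1
    have e3 : hMul ((0 : Cen I J), (2 : Cen I J), 1 + dl, 1 - dl) (0, 2, 1 + ep, 1 - ep) +
        hMul (0, 2, 1 + ep, 1 - ep) (0, 2, 1 + dl, 1 - dl) =
        (-12 - 2 * (dl * ep + ep * dl), 0, 0, 0) := by
      simp only [hMul, Prod.mk_add_mk, Prod.mk.injEq]
      refine ⟨?_, ?_, ?_, ?_⟩ <;>
        linear_combination (norm := (noncomm_ring <;> norm_num)) (0 : Cen I J) * hdl
    rw [e3] at e2
    simp only [Prod.mk.injEq] at e2
    obtain ⟨e4, -⟩ := e2
    apply hφi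
    have e5 := congrArg φ e4
    simp only [map_sub, map_mul, map_add, map_neg, map_ofNat] at e5 ⊢
    have e6 : 2 * (φ dl * φ ep + φ ep * φ dl - 2) = 0 := by
      linear_combination (norm := (noncomm_ring <;> norm_num)) (-1 : R) * e5
    exact sub_eq_zero.mp (h2.mul_right_eq_zero.mp e6)
  · intro hC
    have e1 : ql4 φ I J (hMul (0, 1 - dl, 2, 1 + dl) (0, 2, 1 + ep, 1 - ep) +
        hMul (0, 2, 1 + ep, 1 - ep) (0, 1 - dl, 2, 1 + dl)) = ql4 φ I J (-16, 0, 0, 0) := by
      rw [← ql4_add, ← hm, ← hm, ← hJ', ← hp'', ← ql4_const, map_neg, map_ofNat]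
      linear_combination (norm := (noncomm_ring <;> norm_num)) (8 : R) * hC
    have e2 := hinj e1
    have e3 : hMul ((0 : Cen I J), 1 - dl, (2 : Cen I J), 1 + dl) (0, 2, 1 + ep, 1 - ep) +
        hMul (0, 2, 1 + ep, 1 - ep) (0, 1 - dl, 2, 1 + dl) =
        (-10 + 2 * dl - 2 * ep + (dl * ep + ep * dl), -(dl * ep - ep * dl),
          -(dl * ep - ep * dl), -(dl * ep - ep * dl)) := by
      simp only [hMul, Prod.mk_add_mk, Prod.mk.injEq]
      refine ⟨?_, ?_, ?_, ?_⟩ <;>
        linear_combination (norm := (noncomm_ring <;> norm_num)) (0 : Cen I J) * hdl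
    rw [e3] at e2
    simp only [Prod.mk.injEq] at e2
    obtain ⟨e4, e5, -⟩ := e2
    have e6 := congrArg φ e4
    have e7 := congrArg φ e5
    simp only [map_sub, map_mul, map_add, map_neg, map_ofNat, map_zero] at e6 e7
    have hw : φ dl * φ ep = φ ep * φ dl := by
      linear_combination (norm := (noncomm_ring <;> norm_num)) (-1 : R) * e7
    apply sqrt5_comm_false h2 hδ hε hw
    left
    have e8 : 2 * (φ ep - φ dl - (3 + φ dl * φ ep)) = 0 := by
      linear_combination (norm := (noncomm_ring <;> norm_num)) (-1 : R) * e6 - hw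
    exact sub_eq_zero.mp (h2.mul_right_eq_zero.mp e8)
  · intro hD
    have e1 : ql4 φ I J (hMul (0, 1 + dl, 1 - dl, 2) (0, 2, 1 + ep, 1 - ep) +
        hMul (0, 2, 1 + ep, 1 - ep) (0, 1 + dl, 1 - dl, 2)) = ql4 φ I J (-16, 0, 0, 0) := by
      rw [← ql4_add, ← hm, ← hm, ← hK', ← hp'', ← ql4_const, map_neg, map_ofNat]
      linear_combination (norm := (noncomm_ring <;> norm_num)) (8 : R) * hD
    have e2 := hinj e1
    have e3 : hMul ((0 : Cen I J), 1 + dl, 1 - dl, (2 : Cen I J)) (0, 2, 1 + ep, 1 - ep) +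
        hMul (0, 2, 1 + ep, 1 - ep) (0, 1 + dl, 1 - dl, 2) =
        (-10 - 2 * dl + 2 * ep + (dl * ep + ep * dl), dl * ep - ep * dl,
          dl * ep - ep * dl, dl * ep - ep * dl) := by
      simp only [hMul, Prod.mk_add_mk, Prod.mk.injEq]
      refine ⟨?_, ?_, ?_, ?_⟩ <;>
        linear_combination (norm := (noncomm_ring <;> norm_num)) (0 : Cen I J) * hdl
    rw [e3] at e2
    simp only [Prod.mk.injEq] at e2
    obtain ⟨e4, e5, -⟩ := e2
    have e6 := congrArg φ e4
    have e7 := congrArg φ e5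
    simp only [map_sub, map_mul, map_add, map_neg, map_ofNat, map_zero] at e6 e7
    have hw : φ dl * φ ep = φ ep * φ dl := by
      linear_combination (norm := (noncomm_ring <;> norm_num)) e7
    apply sqrt5_comm_false h2 hδ hε hw
    right
    have e8 : 2 * (φ dl - φ ep - (3 + φ dl * φ ep)) = 0 := by
      linear_combination (norm := (noncomm_ring <;> norm_num)) (-1 : R) * e6 - hw
    exact sub_eq_zero.mp (h2.mul_right_eq_zero.mp e8)


/-- the trace of the test pair in coordinates -/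
theorem frame3_test {X V I J I' I'' : R} (F : QF X I J) (h2 : IsUnit (2 : R))
    (hV : V = -1 - X) {dl ep : Cen I J} (hdl : dl * dl = 5) (hep : ep * ep = 5)
    (hp' : 4 * I' = ql4 (Cen I J).subtype I J (0, 2, 1 + dl, 1 - dl))
    (hp'' : 4 * I'' = ql4 (Cen I J).subtype I J (0, 2, 1 + ep, 1 - ep))
    {A B : R} (hA : A = J * I' * V * I' * J) (hB : B = -(I'' * X * I'')) :
    16 * (A * B + B * A + A + B + 1) - 8 =
      ql4 (Cen I J).subtype I J (-4 * (dl + ep), 2 * (dl * ep - ep * dl), 0, 0) := by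
  have h16 : IsUnit (16 : R) := by
    have : (16 : R) = 2 * 2 * 2 * 2 := by norm_num
    rw [this]; exact ((h2.mul h2).mul h2).mul h2
  set φ := (Cen I J).subtype with hφ
  have hci : ∀ c, φ c * I = I * φ c := cen_comm_I
  have hcj : ∀ c, φ c * J = J * φ c := cen_comm_J
  have hm := @ql4_mul R _ (Cen I J) _ φ I J F.hI F.hJ F.hJI hci hcj
  have hV4 : 4 * V = ql4 φ I J (-2, 2, 2, 2) := by
    rw [hV]
    simp only [ql4, ql, map_neg, map_ofNat]
    linear_combination (norm := (noncomm_ring <;> norm_num)) (-2 : R) * F.hX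
  have hX4 : 4 * X = ql4 φ I J (-2, -2, -2, -2) := by
    simp only [ql4, ql, map_neg, map_ofNat]
    linear_combination (norm := (noncomm_ring <;> norm_num)) (2 : R) * F.hX
  -- the first element
  have a1 : J * (4 * I') * (4 * V) * (4 * I') * J =
      ql4 φ I J (hMul (hMul (hMul (hMul (0, 0, 1, 0) (0, 2, 1 + dl, 1 - dl)) (-2, 2, 2, 2))
        (0, 2, 1 + dl, 1 - dl)) (0, 0, 1, 0)) := by
    rw [← hm, ← hm, ← hm, ← hm, ← ql4_J, ← hp', ← hV4]
  have a2 : hMul (hMul (hMul (hMul ((0 : Cen I J), (0 : Cen I J), (1 : Cen I J), (0 : Cen I J))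
      (0, 2, 1 + dl, 1 - dl)) (-2, 2, 2, 2)) (0, 2, 1 + dl, 1 - dl)) (0, 0, 1, 0) =
      (-32, 0, 16 * (dl - 1), 16 * (dl + 1)) := by
    simp only [hMul, Prod.mk.injEq]
    refine ⟨?_, ?_, ?_, ?_⟩
    · linear_combination (norm := (noncomm_ring <;> norm_num)) (-4 : Cen I J) * hdl
    · linear_combination (norm := (noncomm_ring <;> norm_num)) (4 : Cen I J) * hdl
    · linear_combination (norm := (noncomm_ring <;> norm_num)) (-4 : Cen I J) * hdl
    · linear_combination (norm := (noncomm_ring <;> norm_num)) (4 : Cen I J) * hdl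
  have a3 : 4 * A + 2 = ql4 φ I J (0, 0, dl - 1, dl + 1) := by
    apply h16.mul_left_cancel
    rw [ql4_mul16]
    have e : 16 * (4 * A + 2) = J * (4 * I') * (4 * V) * (4 * I') * J + 32 := by
      rw [hA]; noncomm_ring; norm_num
    rw [e, a1, a2]
    simp only [ql4, ql, map_neg, map_ofNat, map_zero, map_mul, map_sub, map_add, map_one]
    noncomm_ring
  -- the second element
  have b1 : (4 * I'') * (4 * X) * (4 * I'') =
      ql4 φ I J (hMul (hMul (0, 2, 1 + ep, 1 - ep) (-2, -2, -2, -2)) (0, 2, 1 + ep, 1 - ep)) := by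
    rw [← hm, ← hm, ← hp'', ← hX4]
  have b2 : hMul (hMul ((0 : Cen I J), (2 : Cen I J), 1 + ep, 1 - ep) (-2, -2, -2, -2))
      (0, 2, 1 + ep, 1 - ep) = (32, 0, 16 * (ep - 1), -(16 * (ep + 1))) := by
    simp only [hMul, Prod.mk.injEq]
    refine ⟨?_, ?_, ?_, ?_⟩
    · linear_combination (norm := (noncomm_ring <;> norm_num)) (4 : Cen I J) * hep
    · linear_combination (norm := (noncomm_ring <;> norm_num)) (-4 : Cen I J) * hep
    · linear_combination (norm := (noncomm_ring <;> norm_num)) (-4 : Cen I J) * hep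
    · linear_combination (norm := (noncomm_ring <;> norm_num)) (-4 : Cen I J) * hep
  have b3 : 4 * B + 2 = ql4 φ I J (0, 0, 1 - ep, 1 + ep) := by
    apply h16.mul_left_cancel
    rw [ql4_mul16]
    have e : 16 * (4 * B + 2) = -((4 * I'') * (4 * X) * (4 * I'')) + 32 := by
      rw [hB]; noncomm_ring; norm_num
    rw [e, b1, b2]
    simp only [ql4, ql, map_neg, map_ofNat, map_zero, map_mul, map_sub, map_add, map_one]
    noncomm_ring
  have c1 : 16 * (A * B + B * A + A + B + 1) - 8 =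
      (4 * A + 2) * (4 * B + 2) + (4 * B + 2) * (4 * A + 2) := by
    noncomm_ring; norm_num
  rw [c1, a3, b3, hm, hm, ql4_add]
  congr 1
  simp only [hMul, Prod.mk_add_mk, Prod.mk.injEq]
  refine ⟨?_, ?_, ?_, ?_⟩ <;>
    linear_combination (norm := (noncomm_ring <;> norm_num)) (0 : Cen I J) * hdl

/-- the final contradiction for a third frame -/
theorem frame3_final [Nontrivial R] (h2 : IsUnit (2 : R)) (h3 : IsUnit (3 : R)) {I J : R}
    (hI : I * I = -1) (hJ : J * J = -1) (hJI : J * I = -(I * J))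
    {dl ep : Cen I J} (hdl : dl * dl = 5) (hep : ep * ep = 5) (hγ : dl * ep + ep * dl = 2)
    {s : R}
    (hT : 16 * s - 8 =
      ql4 (Cen I J).subtype I J (-4 * (dl + ep), 2 * (dl * ep - ep * dl), 0, 0))
    (hs : s = 2 ∨ s = -1 ∨ s = 0 ∨ s = 1 ∨ s * s - s - 1 = 0) : False := by
  have h4 : IsUnit (4 : R) := by
    have : (4 : R) = 2 * 2 := by norm_num
    rw [this]; exact h2.mul h2
  set φ := (Cen I J).subtype with hφ
  have hφi : Function.Injective φ := Subtype.val_injective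
  have hci : ∀ c, φ c * I = I * φ c := cen_comm_I
  have hcj : ∀ c, φ c * J = J * φ c := cen_comm_J
  have hm := @ql4_mul R _ (Cen I J) _ φ I J hI hJ hJI hci hcj
  have hinj := @ql4_inj R _ I J (Cen I J) _ φ hI hJ hJI hci hcj h4 hφi
  have e1 : ep * dl = 2 - dl * ep := by rw [← hγ]; noncomm_ring
  have e1' : dl * ep = 2 - ep * dl := by rw [← hγ]; noncomm_ring
  have e2 : dl * ep * (dl * ep) = 2 * (dl * ep) - 25 := by
    calc dl * ep * (dl * ep) = dl * (ep * dl) * ep := by noncomm_ring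
      _ = dl * (2 - dl * ep) * ep := by rw [e1]
      _ = 2 * (dl * ep) - (dl * dl) * (ep * ep) := by noncomm_ring
      _ = 2 * (dl * ep) - 25 := by rw [hdl, hep]; norm_num
  have e3 : ep * dl * (ep * dl) = 2 * (ep * dl) - 25 := by
    calc ep * dl * (ep * dl) = ep * (dl * ep) * dl := by noncomm_ring
      _ = ep * (2 - ep * dl) * dl := by rw [e1']
      _ = 2 * (ep * dl) - (ep * ep) * (dl * dl) := by noncomm_ring
      _ = 2 * (ep * dl) - 25 := by rw [hdl, hep]; norm_num
  have e4 : dl * ep * (ep * dl) = 25 := by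
    calc dl * ep * (ep * dl) = dl * (ep * ep) * dl := by noncomm_ring
      _ = 5 * (dl * dl) := by rw [hep]; noncomm_ring
      _ = 25 := by rw [hdl]; norm_num
  have e5 : ep * dl * (dl * ep) = 25 := by
    calc ep * dl * (dl * ep) = ep * (dl * dl) * ep := by noncomm_ring
      _ = 5 * (ep * ep) := by rw [hdl]; noncomm_ring
      _ = 25 := by rw [hep]; norm_num
  have hw2 : (dl * ep - ep * dl) * (dl * ep - ep * dl) = -96 := by
    linear_combination (norm := (noncomm_ring <;> norm_num)) e2 - e4 - e5 + e3 + 2 * hγ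
  have hanti : (dl + ep) * (dl * ep - ep * dl) + (dl * ep - ep * dl) * (dl + ep) = 0 := by
    linear_combination (norm := (noncomm_ring <;> norm_num))
      hdl * ep - hep * dl + dl * hep - ep * hdl
  have hsum2 : (dl + ep) * (dl + ep) = 12 := by
    linear_combination (norm := (noncomm_ring <;> norm_num)) hdl + hep + hγ
  have h384 : (384 : R) ≠ 0 := by
    have : (384 : R) = 2 * 2 * 2 * 2 * 2 * 2 * 2 * 3 := by norm_num
    rw [this]
    exact (((((((h2.mul h2).mul h2).mul h2).mul h2).mul h2).mul h2).mul h3).ne_zero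
  have h256 : (256 : R) ≠ 0 := by
    have : (256 : R) = 2 * 2 * 2 * 2 * 2 * 2 * 2 * 2 := by norm_num
    rw [this]
    exact (((((((h2.mul h2).mul h2).mul h2).mul h2).mul h2).mul h2).mul h2).ne_zero
  have key : ∀ n : Cen I J, 16 * s - 8 = φ n → False := by
    intro n hn
    rw [hT, ql4_const φ I J n] at hn
    have a1 := hinj hn
    simp only [Prod.mk.injEq] at a1
    obtain ⟨-, a2, -⟩ := a1
    have a3 : (384 : Cen I J) = 0 := by
      have : (2 * (dl * ep - ep * dl)) * (2 * (dl * ep - ep * dl)) = 0 := by rw [a2, mul_zero]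
      linear_combination (norm := (noncomm_ring <;> norm_num)) 4 * hw2 - this
    apply h384
    have := congrArg φ a3
    rwa [map_ofNat, map_zero] at this
  rcases hs with hs | hs | hs | hs | hs
  · apply key 24
    rw [hs, map_ofNat]; norm_num
  · apply key (-24)
    rw [hs, map_neg, map_ofNat]; norm_num
  · apply key (-8)
    rw [hs, map_neg, map_ofNat]; norm_num
  · apply key 8
    rw [hs, map_ofNat]; norm_num
  · have a1 : (16 * s - 8) * (16 * s - 8) = 320 := by
      linear_combination (norm := (noncomm_ring <;> norm_num)) (256 : R) * hs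
    rw [hT, hm] at a1
    have a2 : hMul (-4 * (dl + ep), 2 * (dl * ep - ep * dl), (0 : Cen I J), (0 : Cen I J))
        (-4 * (dl + ep), 2 * (dl * ep - ep * dl), 0, 0) = (576, 0, 0, 0) := by
      simp only [hMul, Prod.mk.injEq]
      refine ⟨?_, ?_, ?_, ?_⟩
      · linear_combination (norm := (noncomm_ring <;> norm_num)) 16 * hsum2 - 4 * hw2
      · linear_combination (norm := (noncomm_ring <;> norm_num)) (-8) * hanti
      · noncomm_ring
      · noncomm_ring
    have a3 : (320 : R) = ql4 φ I J (320, 0, 0, 0) := by rw [← ql4_const, map_ofNat]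
    rw [a2, a3] at a1
    have a4 := hinj a1
    simp only [Prod.mk.injEq] at a4
    obtain ⟨a5, -⟩ := a4
    apply h256
    have := congrArg φ a5
    rw [map_ofNat, map_ofNat] at this
    linear_combination (norm := (noncomm_ring <;> norm_num)) this

end ZTripleR

section ZTripleG

variable {G : Type*} [Group G] {R : Type*} [Ring R] {ρ : G →* R}

theorem rho_inv_eq (ρ : G →* R) {g : G} {r : R} (h : ρ g * r = 1) : ρ g⁻¹ = r := by
  calc ρ g⁻¹ = ρ g⁻¹ * (ρ g * r) := by rw [h, mul_one]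
    _ = r := by rw [← mul_assoc, rho_inv_mul, one_mul]

theorem conj_ne_one_of_ne_one {g a : G} (ha : a ≠ 1) : g * a * g⁻¹ ≠ 1 := by
  intro e
  apply ha
  have : a = g⁻¹ * (g * a * g⁻¹) * g := by group
  rw [this, e]; group

/-- **Three zero pairs**: two zero pairs in normal golden position relative to a first one
coincide. -/
theorem Fpf.three_pairs [Nontrivial R] [Finite G] (h : Fpf ρ) {z : G} (hz : z ≠ 1)
    (hz2 : z * z = 1) {x y y' y'' : G} (P : ZP ρ x y) (P' : ZP ρ x y') (P'' : ZP ρ x y'')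
    {δ ε : R}
    (hδI : δ * ρ (x * y) = ρ (x * y) * δ)
    (hδJ : δ * ρ (x * (x * y) * x⁻¹) = ρ (x * (x * y) * x⁻¹) * δ) (hδ : δ * δ = 5)
    (h4 : 4 * ρ (x * y') = 2 * ρ (x * y) + (1 + δ) * ρ (x * (x * y) * x⁻¹) +
          (1 - δ) * (ρ (x * y) * ρ (x * (x * y) * x⁻¹)))
    (hεI : ε * ρ (x * y) = ρ (x * y) * ε)
    (hεJ : ε * ρ (x * (x * y) * x⁻¹) = ρ (x * (x * y) * x⁻¹) * ε) (hε : ε * ε = 5)
    (h4' : 4 * ρ (x * y'') = 2 * ρ (x * y) + (1 + ε) * ρ (x * (x * y) * x⁻¹) +
          (1 - ε) * (ρ (x * y) * ρ (x * (x * y) * x⁻¹))) :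
    y'' = y' := by
  by_contra hne
  have h2 := h.isUnit_two hz hz2
  have h3 := h.isUnit_three P.hx P.hx3
  have F := P.qf h
  have F' := P'.qf h
  have F'' := P''.qf h
  obtain ⟨dl, hdl0⟩ : ∃ dl : Cen (ρ (x * y)) (ρ (x * (x * y) * x⁻¹)),
      (Cen (ρ (x * y)) (ρ (x * (x * y) * x⁻¹))).subtype dl = δ :=
    ⟨⟨δ, mem_cen_iff.mpr ⟨hδI, hδJ⟩⟩, rfl⟩
  obtain ⟨ep, hep0⟩ : ∃ ep : Cen (ρ (x * y)) (ρ (x * (x * y) * x⁻¹)),
      (Cen (ρ (x * y)) (ρ (x * (x * y) * x⁻¹))).subtype ep = ε :=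
    ⟨⟨ε, mem_cen_iff.mpr ⟨hεI, hεJ⟩⟩, rfl⟩
  have hφi : Function.Injective (Cen (ρ (x * y)) (ρ (x * (x * y) * x⁻¹))).subtype :=
    Subtype.val_injective
  have hdl : dl * dl = 5 := by
    apply hφi
    rw [map_mul, hdl0, hδ, map_ofNat]
  have hep : ep * ep = 5 := by
    apply hφi
    rw [map_mul, hep0, hε, map_ofNat]
  have hp' : 4 * ρ (x * y') = ql4 (Cen (ρ (x * y)) (ρ (x * (x * y) * x⁻¹))).subtype
      (ρ (x * y)) (ρ (x * (x * y) * x⁻¹)) (0, 2, 1 + dl, 1 - dl) := by
    rw [h4]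
    simp only [ql4, ql, map_zero, map_ofNat, map_add, map_sub, map_one, hdl0]
    noncomm_ring
  have hp'' : 4 * ρ (x * y'') = ql4 (Cen (ρ (x * y)) (ρ (x * (x * y) * x⁻¹))).subtype
      (ρ (x * y)) (ρ (x * (x * y) * x⁻¹)) (0, 2, 1 + ep, 1 - ep) := by
    rw [h4']
    simp only [ql4, ql, map_zero, map_ofNat, map_add, map_sub, map_one, hep0]
    noncomm_ring
  obtain ⟨⟨n1, n2⟩, cB, cC, cD⟩ := frame3_anti (rho_mul_inv ρ x) F F' h2 hdl hep hp' hp''
  have hne2 : y'' ≠ x * y' * x⁻¹ := by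
    intro e
    apply n1
    rw [e, P'.rJ]
  have hne3 : y'' ≠ x⁻¹ * y' * x := by
    intro e
    apply n2
    rw [e, P'.rK h]
  obtain ⟨B, C, D, -, -, -, -, -, -, hsum, hsq, aB, aC, aD⟩ :=
    two_frames (rho_mul_inv ρ x) F' F'' h2 h3
  have tB := h.pair_anti_type hz hz2 P' P'' (Ne.symm hne) B aB
  have tC := h.pair_anti_type hz hz2 P'.conj P'' (fun e => hne2 e.symm) C
    (by rw [P'.rJ]; exact aC)
  have tD := h.pair_anti_type hz hz2 P'.conj' P'' (fun e => hne3 e.symm) D
    (by rw [P'.rK h]; exact aD)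
  rcases triple_types h2 h3 tB tC tD hsum hsq with ⟨hB2, -⟩ | ⟨hC2, -⟩ | ⟨hD2, -⟩
  · rw [hB2] at aB
    have hγ := cB aB
    have ha1 : (x * (x * y) * x⁻¹ * (x * y')) * x⁻¹ * (x * (x * y) * x⁻¹ * (x * y'))⁻¹ ≠ 1 :=
      conj_ne_one_of_ne_one (inv_ne_one.mpr P.hx)
    have ha3 : ((x * (x * y) * x⁻¹ * (x * y')) * x⁻¹ * (x * (x * y) * x⁻¹ * (x * y'))⁻¹) ^ 3
        = 1 := by
      rw [conj_pow, inv_pow, P.hx3, inv_one]; group
    have hb1 : (x * y'') * x * (x * y'')⁻¹ ≠ 1 := conj_ne_one_of_ne_one P.hx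
    have hb3 : ((x * y'') * x * (x * y'')⁻¹) ^ 3 = 1 := by
      rw [conj_pow, P.hx3]; group
    have hA : ρ ((x * (x * y) * x⁻¹ * (x * y')) * x⁻¹ * (x * (x * y) * x⁻¹ * (x * y'))⁻¹) =
        ρ (x * (x * y) * x⁻¹) * ρ (x * y') * ρ x⁻¹ * ρ (x * y') * ρ (x * (x * y) * x⁻¹) := by
      have e : ρ (x * (x * y) * x⁻¹ * (x * y'))⁻¹ = ρ (x * y') * ρ (x * (x * y) * x⁻¹) := by
        apply rho_inv_eq
        rw [map_mul]
        calc ρ (x * (x * y) * x⁻¹) * ρ (x * y') * (ρ (x * y') * ρ (x * (x * y) * x⁻¹))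
            = ρ (x * (x * y) * x⁻¹) * (ρ (x * y') * ρ (x * y')) * ρ (x * (x * y) * x⁻¹) := by
              noncomm_ring
          _ = 1 := by rw [F'.hI, mul_neg, mul_one, neg_mul, F.hJ, neg_neg]
      rw [map_mul, map_mul, e, map_mul]
      noncomm_ring
    have hB : ρ ((x * y'') * x * (x * y'')⁻¹) = -(ρ (x * y'') * ρ x * ρ (x * y'')) := by
      have e : ρ (x * y'')⁻¹ = -ρ (x * y'') := by
        apply rho_inv_eq
        rw [mul_neg, F''.hI, neg_neg]
      rw [map_mul, map_mul, e]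
      noncomm_ring
    have hT := frame3_test F h2 (h.rho_inv_order3 P.hx P.hx3) hdl hep hp' hp'' hA hB
    have hs := h.trace_mul_order3 ha1 ha3 hb1 hb3
    rw [← hs] at hT
    apply frame3_final h2 h3 F.hI F.hJ F.hJI hdl hep hγ hT
    rcases h.pairType hz hz2 ha1 ha3 hb1 hb3 with e | e | e | e | e
    · left
      rw [e, mul_inv_cancel, inv_one, map_one]; norm_num
    · right; left
      rw [e]
      have e2 : ((x * (x * y) * x⁻¹ * (x * y')) * x⁻¹ * (x * (x * y) * x⁻¹ * (x * y'))⁻¹) *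
          ((x * (x * y) * x⁻¹ * (x * y')) * x⁻¹ * (x * (x * y) * x⁻¹ * (x * y'))⁻¹) =
          ((x * (x * y) * x⁻¹ * (x * y')) * x⁻¹ * (x * (x * y) * x⁻¹ * (x * y'))⁻¹)⁻¹ := by
        apply eq_inv_of_mul_eq_one_left
        rw [← ha3, pow_succ, pow_two]
      rw [e2, inv_inv, h.rho_inv_order3 ha1 ha3]; abel
    · right; right; left; exact e
    · right; right; right; left; exact e
    · right; right; right; right; exact e
  · rw [hC2] at aC
    exact cC aC
  · rw [hD2] at aD
    exact cD aD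

end ZTripleG

end Cfsg.Agent.Helper56
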