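import Mathlib
import Cfsg.Agent.Helper56.ZTriple

/-!
# The quaternion subgroup attached to a zero pair
-/

namespace Cfsg.Agent.Helper56

section ZQ8

variable {G : Type*} [Group G] {R : Type*} [Ring R] {ρ : G →* R}

/-- the eight unit quaternions -/
def q8List : List (ℤ × ℤ × ℤ × ℤ) :=
  [(1, 0, 0, 0), (-1, 0, 0, 0), (0, 1, 0, 0), (0, -1, 0, 0), (0, 0, 1, 0), (0, 0, -1, 0),
    (0, 0, 0, 1), (0, 0, 0, -1)]

theorem q8List_mul : ∀ p ∈ q8List, ∀ q ∈ q8List, hMul p q ∈ q8List := by decide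

theorem q8List_inv : ∀ p ∈ q8List, ∃ q ∈ q8List, hMul p q = (1, 0, 0, 0) := by decide

theorem q8List_pow4 : ∀ p ∈ q8List, hMul (hMul (hMul p p) p) p = (1, 0, 0, 0) := by decide

theorem q8List_rot : ∀ p ∈ q8List, (p.1, p.2.2.2, p.2.1, p.2.2.1) ∈ q8List := by decide

/-- the quaternion subgroup attached to a frame -/
def q8Sub (ρ : G →* R) {I J : R} (hI : I * I = -1) (hJ : J * J = -1) (hJI : J * I = -(I * J)) :
    Subgroup G where
  carrier := {g | ∃ p ∈ q8List, ρ g = ql4 (Int.castRingHom R) I J p}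
  one_mem' := ⟨(1, 0, 0, 0), by decide, by rw [map_one]; exact ql4_one _ _ _⟩
  mul_mem' := by
    rintro a b ⟨p, hp, ha⟩ ⟨q, hq, hb⟩
    refine ⟨hMul p q, q8List_mul p hp q hq, ?_⟩
    rw [map_mul, ha, hb, ql4_mul hI hJ hJI (fun c => Int.cast_comm c I) (fun c => Int.cast_comm c J)]
  inv_mem' := by
    rintro a ⟨p, hp, ha⟩
    obtain ⟨q, hq, hpq⟩ := q8List_inv p hp
    refine ⟨q, hq, ?_⟩
    apply rho_inv_eq
    rw [ha, ql4_mul hI hJ hJI (fun c => Int.cast_comm c I) (fun c => Int.cast_comm c J), hpq,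
      ← ql4_one]

theorem mem_q8Sub_iff {I J : R} (hI : I * I = -1) (hJ : J * J = -1) (hJI : J * I = -(I * J))
    {g : G} : g ∈ q8Sub ρ hI hJ hJI ↔ ∃ p ∈ q8List, ρ g = ql4 (Int.castRingHom R) I J p :=
  Iff.rfl

theorem Fpf.pow_four_of_mem_q8Sub [Nontrivial R] (h : Fpf ρ) {I J : R} (hI : I * I = -1)
    (hJ : J * J = -1) (hJI : J * I = -(I * J)) {g : G} (hg : g ∈ q8Sub ρ hI hJ hJI) :
    g ^ 4 = 1 := by
  obtain ⟨p, hp, e⟩ := hg
  apply h.injective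
  have hm := @ql4_mul R _ ℤ _ (Int.castRingHom R) I J hI hJ hJI (fun c => Int.cast_comm c I)
    (fun c => Int.cast_comm c J)
  have e4 : g ^ 4 = g * g * g * g := by simp [pow_succ]
  rw [e4, map_mul, map_mul, map_mul, map_one, e, hm, hm, hm, q8List_pow4 p hp, ← ql4_one]

theorem Fpf.isPGroup_q8Sub [Nontrivial R] (h : Fpf ρ) {I J : R} (hI : I * I = -1)
    (hJ : J * J = -1) (hJI : J * I = -(I * J)) : IsPGroup 2 (q8Sub ρ hI hJ hJI) := by
  intro g
  refine ⟨2, ?_⟩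
  apply Subtype.ext
  have := h.pow_four_of_mem_q8Sub hI hJ hJI g.2
  simpa using this

/-- conjugation by the element of order three preserves the quaternion subgroup -/
theorem conj_mem_q8Sub {X V I J : R} (hXV : X * V = 1) (F : QF X I J) {x g : G} (hx : ρ x = X)
    (hxi : ρ x⁻¹ = V) (hg : g ∈ q8Sub ρ F.hI F.hJ F.hJI) :
    x * g * x⁻¹ ∈ q8Sub ρ F.hI F.hJ F.hJI := by
  obtain ⟨⟨a, b, c, d⟩, hp, e⟩ := hg
  refine ⟨(a, d, b, c), q8List_rot _ hp, ?_⟩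
  rw [map_mul, map_mul, hx, hxi, e]
  have hcX : ∀ c : ℤ, X * (c : R) = (c : R) * X := fun c => (Int.cast_comm c X).symm
  have hperm : X * ql4 (Int.castRingHom R) I J (a, b, c, d) =
      ql4 (Int.castRingHom R) I J (a, d, b, c) * X := by
    simp only [ql4, ql, eq_intCast]
    have e1 : X * ((b : R) * I) = (b : R) * J * X := by
      rw [← mul_assoc, hcX, mul_assoc, F.hXI, mul_assoc]
    have e2 : X * ((c : R) * J) = (c : R) * (I * J) * X := by
      rw [← mul_assoc, hcX, mul_assoc, F.hXJ]; noncomm_ring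
    have e3 : X * ((d : R) * (I * J)) = (d : R) * I * X := by
      rw [← mul_assoc, hcX, mul_assoc, F.hXK, mul_assoc]
    rw [mul_add, mul_add, mul_add, e1, e2, e3, hcX]
    noncomm_ring
  rw [hperm, mul_assoc, hXV, mul_one]

end ZQ8

section ZQ8P

variable {G : Type*} [Group G] {R : Type*} [Ring R] {ρ : G →* R}

/-- the quaternion subgroup of a zero pair -/
noncomputable def ZP.q8 {x y : G} (P : ZP ρ x y) (h : Fpf ρ) : Subgroup G :=
  q8Sub ρ (P.qf h).hI (P.qf h).hJ (P.qf h).hJI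

theorem ZP.i_mem_q8 {x y : G} (P : ZP ρ x y) (h : Fpf ρ) : x * y ∈ P.q8 h :=
  ⟨(0, 1, 0, 0), by decide, ql4_I _ _ _⟩

theorem ZP.j_mem_q8 {x y : G} (P : ZP ρ x y) (h : Fpf ρ) : x * (x * y) * x⁻¹ ∈ P.q8 h :=
  ⟨(0, 0, 1, 0), by decide, ql4_J _ _ _⟩

theorem ZP.conj_mem_q8 {x y : G} (P : ZP ρ x y) (h : Fpf ρ) {g : G} (hg : g ∈ P.q8 h) :
    x * g * x⁻¹ ∈ P.q8 h :=
  conj_mem_q8Sub (rho_mul_inv ρ x) (P.qf h) rfl rfl hg

theorem ZP.pow_four_of_mem_q8 [Nontrivial R] {x y : G} (P : ZP ρ x y) (h : Fpf ρ) {g : G}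
    (hg : g ∈ P.q8 h) : g ^ 4 = 1 :=
  h.pow_four_of_mem_q8Sub _ _ _ hg

theorem ZP.isPGroup_q8 [Nontrivial R] {x y : G} (P : ZP ρ x y) (h : Fpf ρ) :
    IsPGroup 2 (P.q8 h) :=
  h.isPGroup_q8Sub _ _ _

theorem ZP.x_not_mem_q8 [Nontrivial R] {x y : G} (P : ZP ρ x y) (h : Fpf ρ) : x ∉ P.q8 h := by
  intro hx
  have h4 := P.pow_four_of_mem_q8 h hx
  apply P.hx
  have : x ^ 4 = x ^ 3 * x := pow_succ x 3
  rw [this, P.hx3, one_mul] at h4
  exact h4

/-- the two generators of the quaternion subgroup do not commute -/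
theorem ZP.ij_not_comm [Nontrivial R] {x y : G} (P : ZP ρ x y) (h : Fpf ρ) {z : G} (hz : z ≠ 1)
    (hz2 : z * z = 1) : (x * y) * (x * (x * y) * x⁻¹) ≠ (x * (x * y) * x⁻¹) * (x * y) := by
  intro e
  have h2 := h.isUnit_two hz hz2
  have F := P.qf h
  have e1 : ρ (x * y) * ρ (x * (x * y) * x⁻¹) = ρ (x * (x * y) * x⁻¹) * ρ (x * y) := by
    rw [← map_mul, ← map_mul, e]
  rw [F.hJI] at e1
  have e2 : 2 * (ρ (x * y) * ρ (x * (x * y) * x⁻¹)) = 0 := by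
    linear_combination (norm := (noncomm_ring <;> norm_num)) e1
  have e3 := h2.mul_right_eq_zero.mp e2
  have e4 : ρ (x * (x * y) * x⁻¹) = 0 := by
    calc ρ (x * (x * y) * x⁻¹) = -(ρ (x * y) * ρ (x * y)) * ρ (x * (x * y) * x⁻¹) := by
          rw [F.hI]; simp
      _ = -(ρ (x * y) * (ρ (x * y) * ρ (x * (x * y) * x⁻¹))) := by noncomm_ring
      _ = 0 := by rw [e3]; simp
  have e5 := F.hJ
  rw [e4, mul_zero] at e5
  have : (1 : R) = 0 := by
    have e6 : (-1 : R) = 0 := e5.symm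
    rw [← neg_eq_zero, neg_neg] at e6
    exact e6
  exact one_ne_zero this

end ZQ8P

end Cfsg.Agent.Helper56
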