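import Mathlib
import Cfsg.Agent.Helper56.ZSylow
import Cfsg.Agent.Helper70.FrobPrime
import Cfsg.Agent.Helper53.Quat2

/-!
# Perfect groups with a fixed-point-free ring representation: involution, elements of order 3
-/

namespace Cfsg.Agent.Helper56

section ZThree

theorem commutator_eq_top_of_surjective {G Q : Type*} [Group G] [Group Q]
    (hG : commutator G = ⊤) (f : G →* Q) (hf : Function.Surjective f) : commutator Q = ⊤ := by
  rw [commutator_def, ← Subgroup.map_top_of_surjective f hf, ← Subgroup.map_commutator,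
    ← commutator_def, hG]

/-- a perfect group has no nontrivial solvable quotient -/
theorem subsingleton_of_perfect_of_solvable {G Q : Type*} [Group G] [Group Q]
    (hG : commutator G = ⊤) (f : G →* Q) (hf : Function.Surjective f) [Group.IsSolvable Q] :
    Subsingleton Q := by
  by_contra hns
  rw [not_subsingleton_iff_nontrivial] at hns
  have h1 := Group.IsSolvable.commutator_lt_top_of_nontrivial (G := Q)
  rw [commutator_eq_top_of_surjective hG f hf] at h1
  exact lt_irrefl _ h1

/-- an element of odd prime power action on a cyclic `2`-subgroup centralizes it -/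
theorem mem_centralizer_of_isCyclic_two {G : Type*} [Group G] [Finite G] (H : Subgroup G)
    (hc : IsCyclic H) (hH : IsPGroup 2 H)
    {g : G} {r : ℕ} (hr : r.Prime) (hr2 : r ≠ 2) (hgN : g ∈ Subgroup.normalizer (H : Set G))
    (hgr : g ^ r ∈ Subgroup.centralizer (H : Set G)) : g ∈ Subgroup.centralizer (H : Set G) := by
  have hαr : (H.normalizerMonoidHom ⟨g, hgN⟩) ^ r = 1 := by
    rw [← map_pow]
    have : (⟨g, hgN⟩ : Subgroup.normalizer (H : Set G)) ^ r ∈ H.normalizerMonoidHom.ker := by
      rw [Subgroup.normalizerMonoidHom_ker, Subgroup.mem_subgroupOf]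
      simpa using hgr
    exact this
  have h1 : orderOf (H.normalizerMonoidHom ⟨g, hgN⟩) ∣ r := orderOf_dvd_of_pow_eq_one hαr
  have h2 : orderOf (H.normalizerMonoidHom ⟨g, hgN⟩) ∣ Nat.card (MulAut H) := orderOf_dvd_natCard _
  have : Fact (Nat.Prime 2) := ⟨Nat.prime_two⟩
  obtain ⟨k, hk⟩ := IsPGroup.iff_card.mp hH
  have hr2' : Nat.Coprime r 2 := (Nat.coprime_primes hr Nat.prime_two).mpr hr2
  have h3 : Nat.Coprime r (Nat.card (MulAut H)) := by
    rw [hc.card_mulAut, hk]
    rcases Nat.eq_zero_or_pos k with rfl | hk0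
    · simp
    · rw [Nat.totient_prime_pow Nat.prime_two hk0]
      simpa using Nat.Coprime.pow_right (k - 1) hr2'
  have h4 : orderOf (H.normalizerMonoidHom ⟨g, hgN⟩) = 1 :=
    Nat.eq_one_of_dvd_coprimes h3 h1 h2
  rw [orderOf_eq_one_iff] at h4
  have h5 : (⟨g, hgN⟩ : Subgroup.normalizer (H : Set G)) ∈ H.normalizerMonoidHom.ker := h4
  rw [Subgroup.normalizerMonoidHom_ker, Subgroup.mem_subgroupOf] at h5
  exact h5

variable {G : Type*} [Group G] {R : Type*} [Ring R] {ρ : G →* R}

/-- an element acting nontrivially with prime order `r ≠ 2` on a `2`-subgroup: `r = 3` -/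
theorem Fpf.prime_eq_three_of_action [Nontrivial R] [Finite G] (h : Fpf ρ) (Q : Subgroup G)
    (hQ : IsPGroup 2 Q) {g : G} {r : ℕ} (hr : r.Prime) (hr2 : r ≠ 2)
    (hgN : g ∈ Subgroup.normalizer (Q : Set G))
    (hgr : g ^ r ∈ Subgroup.centralizer (Q : Set G))
    (hgC : g ∉ Subgroup.centralizer (Q : Set G)) : r = 3 := by
  have : Fact (Nat.Prime 2) := ⟨Nat.prime_two⟩
  have : Fact r.Prime := ⟨hr⟩
  have hr2' : Nat.Coprime r 2 := (Nat.coprime_primes hr Nat.prime_two).mpr hr2
  -- the involution of `Q`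
  have hdvd : 2 ∣ Nat.card Q := by
    rcases hQ.card_eq_or_dvd with h1 | h1
    · exfalso
      apply hgC
      have hb : Q = ⊥ := Subgroup.eq_bot_of_card_eq _ h1
      rw [Subgroup.mem_centralizer_iff]
      intro x hx
      rw [hb] at hx
      have : x = 1 := hx
      rw [this]; simp
    · exact h1
  obtain ⟨z', hz'⟩ := exists_prime_orderOf_dvd_card' 2 hdvd
  have hz1 : (z' : G) ≠ 1 := by
    intro e
    have : orderOf (z' : G) = 2 := by rw [Subgroup.orderOf_coe]; exact hz'
    rw [e, orderOf_one] at this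
    norm_num at this
  have hzz : (z' : G) * (z' : G) = 1 := by
    have : orderOf (z' : G) = 2 := by rw [Subgroup.orderOf_coe]; exact hz'
    rw [← pow_two, ← this]; exact pow_orderOf_eq_one _
  have huniq : ∀ t : Q, orderOf t = 2 → t = z' := by
    intro t ht
    have ht' : orderOf (t : G) = 2 := by rw [Subgroup.orderOf_coe]; exact ht
    have htt : (t : G) * (t : G) = 1 := by
      rw [← pow_two, ← ht']; exact pow_orderOf_eq_one _
    rcases h.sq_eq_one hz1 hzz htt with h1 | h1
    · rw [h1, orderOf_one] at ht'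
      norm_num at ht'
    · exact Subtype.ext h1
  by_cases hnc : ∃ u v : Q, u * v ≠ v * u
  swap
  · -- abelian case: cyclic
    exfalso
    push Not at hnc
    apply hgC
    have hcyc : IsCyclic Q := by
      rcases Cfsg.Agent.Helper53.unique_invol_structure hQ z' hz' huniq with
        ⟨x, hx⟩ | ⟨a, y, k, hk2, hka, hcard, hya, hyinv, hyy, haz⟩
      · exact ⟨⟨x, hx⟩⟩
      · exfalso
        have h1 : a = a⁻¹ := by
          rw [← hyinv, hnc y a]; group
        have h2 : a ^ 2 = 1 := by
          rw [pow_two]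
          nth_rw 2 [h1]
          exact mul_inv_cancel a
        have h3 := orderOf_dvd_of_pow_eq_one h2
        rw [hka] at h3
        have h4 := Nat.le_of_dvd (by norm_num) h3
        have h5 : 2 ^ 2 ≤ 2 ^ k := Nat.pow_le_pow_right (by norm_num) hk2
        omega
    exact mem_centralizer_of_isCyclic_two Q hcyc hQ hr hr2 hgN hgr
  obtain ⟨a, y, k, hk2, hka, hcard, hya, hyinv, hyy, haz, hcov, hinv⟩ :=
    Cfsg.Agent.Helper53.unique_invol_structure' hQ z' hz' huniq hnc
  have hgz : g * (z' : G) = (z' : G) * g := h.invol_comm hz1 hzz g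
  by_cases hk : k = 2
  · -- order 8: counting
    subst hk
    have hmod := Cfsg.Agent.Helper70.card_modEq_card_centralizer_subgroupOf Q g r hgN hgr
    have hcd : Nat.card ((Subgroup.centralizer ({g} : Set G)).subgroupOf Q) ∣ Nat.card Q :=
      Subgroup.card_subgroup_dvd_card _
    rw [hcard] at hmod hcd
    have hne8 : Nat.card ((Subgroup.centralizer ({g} : Set G)).subgroupOf Q) ≠ 2 ^ (2 + 1) := by
      intro e
      apply hgC
      have htop : (Subgroup.centralizer ({g} : Set G)).subgroupOf Q = ⊤ :=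
        Subgroup.eq_top_of_card_eq _ (by rw [e, hcard])
      rw [Subgroup.mem_centralizer_iff]
      intro x hx
      have hx' : (⟨x, hx⟩ : Q) ∈ (Subgroup.centralizer ({g} : Set G)).subgroupOf Q := by
        rw [htop]; trivial
      rw [Subgroup.mem_subgroupOf, Subgroup.mem_centralizer_iff] at hx'
      exact (hx' g rfl).symm
    have hne1 : Nat.card ((Subgroup.centralizer ({g} : Set G)).subgroupOf Q) ≠ 1 := by
      intro e
      have hbot : (Subgroup.centralizer ({g} : Set G)).subgroupOf Q = ⊥ :=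
        Subgroup.eq_bot_of_card_eq _ e
      have hz'mem : z' ∈ (Subgroup.centralizer ({g} : Set G)).subgroupOf Q := by
        rw [Subgroup.mem_subgroupOf, Subgroup.mem_centralizer_iff]
        intro x hx
        rw [Set.mem_singleton_iff] at hx
        rw [hx]; exact hgz
      rw [hbot, Subgroup.mem_bot] at hz'mem
      apply hz1
      rw [hz'mem]; rfl
    have hdiv : Nat.card ((Subgroup.centralizer ({g} : Set G)).subgroupOf Q) ∈
        Nat.divisors (2 ^ (2 + 1)) := Nat.mem_divisors.mpr ⟨hcd, by norm_num⟩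
    have hdivs : Nat.divisors (2 ^ (2 + 1)) = {1, 2, 4, 8} := by decide
    rw [hdivs] at hdiv
    simp only [Finset.mem_insert, Finset.mem_singleton] at hdiv
    have hcases : Nat.card ((Subgroup.centralizer ({g} : Set G)).subgroupOf Q) = 2 ∨
        Nat.card ((Subgroup.centralizer ({g} : Set G)).subgroupOf Q) = 4 := by
      rcases hdiv with h1 | h1 | h1 | h1
      · exact absurd h1 hne1
      · left; exact h1
      · right; exact h1
      · exact absurd h1 hne8
    have hr3 : r ∣ 6 ∨ r ∣ 4 := by
      rcases hcases with h1 | h1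
      · left
        rw [h1] at hmod
        have := (Nat.modEq_iff_dvd' (by norm_num : 2 ≤ 2 ^ (2 + 1))).mp hmod.symm
        simpa using this
      · right
        rw [h1] at hmod
        have := (Nat.modEq_iff_dvd' (by norm_num : 4 ≤ 2 ^ (2 + 1))).mp hmod.symm
        simpa using this
    rcases hr3 with h1 | h1
    · have h6 : (6 : ℕ) = 2 * 3 := by norm_num
      rw [h6] at h1
      rcases (Nat.Prime.dvd_mul hr).mp h1 with h2 | h2
      · exact absurd ((Nat.prime_dvd_prime_iff_eq hr Nat.prime_two).mp h2) hr2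
      · exact (Nat.prime_dvd_prime_iff_eq hr Nat.prime_three).mp h2
    · have h4 : (4 : ℕ) = 2 * 2 := by norm_num
      rw [h4] at h1
      rcases (Nat.Prime.dvd_mul hr).mp h1 with h2 | h2
      · exact absurd ((Nat.prime_dvd_prime_iff_eq hr Nat.prime_two).mp h2) hr2
      · exact absurd ((Nat.prime_dvd_prime_iff_eq hr Nat.prime_two).mp h2) hr2
  · -- order at least 16: contradiction
    exfalso
    have hk3 : 3 ≤ k := by omega
    have hsq : ∀ q : Q, q ∉ Subgroup.zpowers a → q * q = z' := by
      intro q hq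
      rcases hcov q with h1 | h1
      · exact absurd h1 hq
      · have h2 := hinv _ h1
        have h3 : q * q = (q * y⁻¹) * (y * (q * y⁻¹) * y⁻¹) * (y * y) := by group
        rw [h3, h2, hyy]; group
    have haG : orderOf (a : G) = 2 ^ k := by rw [Subgroup.orderOf_coe]; exact hka
    -- `g` normalizes `⟨a⟩`
    have hga : g * (a : G) * g⁻¹ ∈ Q := (Subgroup.mem_normalizer_iff.mp hgN _).mp a.2
    have hgaz : (⟨g * (a : G) * g⁻¹, hga⟩ : Q) ∈ Subgroup.zpowers a := by
      by_contra hq
      have h1 := hsq _ hq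
      have h2 : (g * (a : G) * g⁻¹) * (g * (a : G) * g⁻¹) = (z' : G) := congrArg Subtype.val h1
      have h3 : (g * (a : G) * g⁻¹) ^ 4 = 1 := by
        have : (g * (a : G) * g⁻¹) ^ 4 =
            ((g * (a : G) * g⁻¹) * (g * (a : G) * g⁻¹)) * ((g * (a : G) * g⁻¹) * (g * (a : G) * g⁻¹)) := by
          rw [show (4 : ℕ) = 2 + 2 from rfl, pow_add, pow_two]
        rw [this, h2, hzz]
      have h4 := orderOf_dvd_of_pow_eq_one h3
      rw [Cfsg.Agent.Helper70.orderOf_conj_eq, haG] at h4
      have h5 := Nat.le_of_dvd (by norm_num) h4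
      have h6 : 2 ^ 3 ≤ 2 ^ k := Nat.pow_le_pow_right (by norm_num) hk3
      omega
    have hgaG : g * (a : G) * g⁻¹ ∈ Subgroup.zpowers (a : G) := by
      obtain ⟨i, hi⟩ := Subgroup.mem_zpowers_iff.mp hgaz
      rw [Subgroup.mem_zpowers_iff]
      refine ⟨i, ?_⟩
      have := congrArg Subtype.val hi
      simpa using this
    have hAQ : Subgroup.zpowers (a : G) ≤ Q := Subgroup.zpowers_le.mpr a.2
    have hgNA : g ∈ Subgroup.normalizer ((Subgroup.zpowers (a : G) : Subgroup G) : Set G) := by
      apply Subgroup.mem_normalizer_fintype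
      intro n hn
      obtain ⟨i, rfl⟩ := Subgroup.mem_zpowers_iff.mp hn
      rw [← conj_zpow]
      exact Subgroup.zpow_mem _ hgaG i
    have hgCA : g ∈ Subgroup.centralizer ((Subgroup.zpowers (a : G) : Subgroup G) : Set G) :=
      mem_centralizer_of_isCyclic_two (Subgroup.zpowers (a : G)) inferInstance (hQ.to_le hAQ) hr hr2
        hgNA (Subgroup.centralizer_le hAQ hgr)
    have hgcomm : ∀ i : ℤ, g * (a : G) ^ i = (a : G) ^ i * g := by
      intro i
      exact ((Subgroup.mem_centralizer_iff.mp hgCA) _ (Subgroup.zpow_mem _ (Subgroup.mem_zpowers _) i)).symm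
    -- `g` centralizes `y`
    have hgy : g * (y : G) * g⁻¹ ∈ Q := (Subgroup.mem_normalizer_iff.mp hgN _).mp y.2
    have hgynot : (⟨g * (y : G) * g⁻¹, hgy⟩ : Q) ∉ Subgroup.zpowers a := by
      intro hq
      obtain ⟨i, hi⟩ := Subgroup.mem_zpowers_iff.mp hq
      have h1 : (a : G) ^ i = g * (y : G) * g⁻¹ := by
        have := congrArg Subtype.val hi
        simpa using this
      apply hya
      rw [Subgroup.mem_zpowers_iff]
      refine ⟨i, Subtype.ext ?_⟩
      have h2 : (y : G) = g⁻¹ * (g * (y : G) * g⁻¹) * g := by group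
      rw [h2, ← h1]
      have h3 : g⁻¹ * (a : G) ^ i * g = (a : G) ^ i := by
        rw [mul_assoc, ← hgcomm i]; group
      rw [h3]; simp
    obtain ⟨i, hi⟩ : ∃ i : ℤ, g * (y : G) * g⁻¹ = (a : G) ^ i * (y : G) := by
      rcases hcov ⟨g * (y : G) * g⁻¹, hgy⟩ with h1 | h1
      · exact absurd h1 hgynot
      · obtain ⟨i, hi⟩ := Subgroup.mem_zpowers_iff.mp h1
        refine ⟨i, ?_⟩
        have h2 : (a : G) ^ i = g * (y : G) * g⁻¹ * (y : G)⁻¹ := by
          have := congrArg Subtype.val hi
          simpa using this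
        rw [h2]; group
    have hpow : ∀ n : ℕ, g ^ n * (y : G) * (g ^ n)⁻¹ = ((a : G) ^ i) ^ n * (y : G) := by
      intro n
      induction n with
      | zero => simp
      | succ n ih =>
        have h1 : g ^ (n + 1) * (y : G) * (g ^ (n + 1))⁻¹ = g * (g ^ n * (y : G) * (g ^ n)⁻¹) * g⁻¹ := by
          rw [pow_succ']; group
        rw [h1, ih]
        have h2 : g * (((a : G) ^ i) ^ n * (y : G)) * g⁻¹ =
            (g * ((a : G) ^ i) ^ n * g⁻¹) * (g * (y : G) * g⁻¹) := by group
        have h3 : g * ((a : G) ^ i) ^ n * g⁻¹ = ((a : G) ^ i) ^ n := by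
          have h4 : ((a : G) ^ i) ^ n = (a : G) ^ (i * n) := by
            rw [zpow_mul, zpow_natCast]
          rw [h4, hgcomm]; group
        rw [h2, h3, hi, pow_succ]; group
    have hm : ((a : G) ^ i) ^ r = 1 := by
      have h1 := hpow r
      have h2 : g ^ r * (y : G) * (g ^ r)⁻¹ = (y : G) := by
        have := (Subgroup.mem_centralizer_iff.mp hgr) (y : G) y.2
        rw [← this]; group
      rw [h2] at h1
      exact (mul_eq_right.mp h1.symm)
    have hm1 : (a : G) ^ i = 1 := by
      have h1 := orderOf_dvd_of_pow_eq_one hm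
      have hmQ : (a : G) ^ i ∈ Q := hAQ (Subgroup.zpow_mem _ (Subgroup.mem_zpowers _) i)
      obtain ⟨e, he⟩ := (IsPGroup.iff_orderOf.mp hQ) ⟨(a : G) ^ i, hmQ⟩
      rw [← Subgroup.orderOf_coe] at he
      simp only at he
      rw [he] at h1
      have h2 : e = 0 := by
        by_contra he0
        have h3 : 2 ∣ 2 ^ e := dvd_pow_self 2 he0
        have h4 := (Nat.prime_dvd_prime_iff_eq Nat.prime_two hr).mp (h3.trans h1)
        exact hr2 h4.symm
      rw [h2, pow_zero, orderOf_eq_one_iff] at he
      exact he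
    have hgyc : g * (y : G) = (y : G) * g := by
      rw [hm1, one_mul] at hi
      calc g * (y : G) = (g * (y : G) * g⁻¹) * g := by group
        _ = (y : G) * g := by rw [hi]
    apply hgC
    rw [Subgroup.mem_centralizer_iff]
    intro x hx
    rcases hcov ⟨x, hx⟩ with h1 | h1
    · obtain ⟨j, hj⟩ := Subgroup.mem_zpowers_iff.mp h1
      have h2 : (a : G) ^ j = x := by
        have := congrArg Subtype.val hj
        simpa using this
      rw [← h2]; exact (hgcomm j).symm
    · obtain ⟨j, hj⟩ := Subgroup.mem_zpowers_iff.mp h1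
      have h2 : (a : G) ^ j = x * (y : G)⁻¹ := by
        have := congrArg Subtype.val hj
        simpa using this
      have h3 : x = (a : G) ^ j * (y : G) := by rw [h2]; group
      rw [h3, mul_assoc, ← hgyc, ← mul_assoc, ← hgcomm j, mul_assoc]

theorem Fpf.not_forall_isCyclic_sylow_two [Nontrivial R] [Finite G] [Nontrivial G] (h : Fpf ρ)
    (hG : commutator G = ⊤) : ¬ ∀ P : Sylow 2 G, IsCyclic P := by
  intro h2
  have := h.isZGroup h2
  have h3 := IsZGroup.commutator_lt (G := G)
  rw [hG] at h3
  exact lt_irrefl _ h3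

theorem Fpf.two_dvd_card [Nontrivial R] [Finite G] [Nontrivial G] (h : Fpf ρ)
    (hG : commutator G = ⊤) : 2 ∣ Nat.card G := by
  by_contra hnd
  apply h.not_forall_isCyclic_sylow_two hG
  intro P
  have : Fact (Nat.Prime 2) := ⟨Nat.prime_two⟩
  have h1 : Nat.card P = 1 := by
    obtain ⟨n, hn⟩ := IsPGroup.iff_card.mp P.isPGroup'
    rcases Nat.eq_zero_or_pos n with rfl | hn0
    · simpa using hn
    · exfalso; apply hnd
      have : 2 ∣ Nat.card P := by rw [hn]; exact dvd_pow_self 2 hn0.ne'
      exact this.trans (Subgroup.card_subgroup_dvd_card _)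
  have : Subsingleton P := (Nat.card_eq_one_iff_unique.mp h1).1
  exact isCyclic_of_subsingleton

/-- the involution of a perfect group with a fixed-point-free representation -/
theorem Fpf.exists_invol [Nontrivial R] [Finite G] [Nontrivial G] (h : Fpf ρ)
    (hG : commutator G = ⊤) : ∃ z : G, z ≠ 1 ∧ z * z = 1 := by
  obtain ⟨z, hz⟩ := exists_prime_orderOf_dvd_card' 2 (h.two_dvd_card hG)
  refine ⟨z, ?_, ?_⟩
  · intro e
    rw [e, orderOf_one] at hz
    norm_num at hz
  · rw [← pow_two, ← hz]; exact pow_orderOf_eq_one _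

/-- a perfect group with a fixed-point-free representation has elements of order three -/
theorem Fpf.exists_order_three [Nontrivial R] [Finite G] [Nontrivial G] (h : Fpf ρ)
    (hG : commutator G = ⊤) : ∃ x : G, x ≠ 1 ∧ x ^ 3 = 1 := by
  have : Fact (Nat.Prime 2) := ⟨Nat.prime_two⟩
  have hnF : ¬ Cfsg.Agent.Helper70.FrobCond 2 G := by
    intro hF
    obtain ⟨K, hKn, hKc, k, hKi⟩ := hF.hasNPC
    have hQ : IsPGroup 2 (G ⧸ K) := IsPGroup.of_card (n := k) (by rw [← Subgroup.index_eq_card, hKi])
    have hnil : Group.IsNilpotent (G ⧸ K) := hQ.isNilpotent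
    have hsub := subsingleton_of_perfect_of_solvable hG (QuotientGroup.mk' K)
      (QuotientGroup.mk'_surjective K)
    have hidx : K.index = 1 := by
      rw [Subgroup.index_eq_card]
      exact Nat.card_eq_one_iff_unique.mpr ⟨hsub, ⟨1⟩⟩
    have hK : K = ⊤ := Subgroup.index_eq_one.mp hidx
    have h2 := h.two_dvd_card hG
    rw [hK] at hKc
    rw [Subgroup.card_top] at hKc
    have := Nat.Coprime.eq_one_of_dvd hKc.symm h2
    norm_num at this
  obtain ⟨Q, g, r, hQ, hr, hr2, hrd, hgN, hgr, hgC⟩ :=
    Cfsg.Agent.Helper70.exists_prime_action_of_not_frobCond hnF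
  have hr3 := h.prime_eq_three_of_action Q hQ hr hr2 hgN hgr hgC
  subst hr3
  have : Fact (Nat.Prime 3) := ⟨Nat.prime_three⟩
  obtain ⟨x, hx⟩ := exists_prime_orderOf_dvd_card' 3 (hrd.trans (orderOf_dvd_natCard g))
  refine ⟨x, ?_, ?_⟩
  · intro e
    rw [e, orderOf_one] at hx
    norm_num at hx
  · rw [← hx]; exact pow_orderOf_eq_one _

/-- in a perfect group with a fixed-point-free representation no element of order three is
central -/
theorem Fpf.exists_not_comm_order_three [Nontrivial R] [Finite G] (h : Fpf ρ)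
    (hG : commutator G = ⊤) {x : G} (hx : x ≠ 1) (hx3 : x ^ 3 = 1) : ∃ g : G, g * x ≠ x * g := by
  by_contra hcon
  push Not at hcon
  have : Fact (Nat.Prime 3) := ⟨Nat.prime_three⟩
  let P : Sylow 3 G := default
  have hcyc : IsCyclic P := (h.subgroup (P : Subgroup G)).isCyclic_of_odd (by norm_num) P.isPGroup'
  let _ : CommGroup P := IsCyclic.commGroup
  have hker := Abelianization.commutator_subset_ker
    (MonoidHom.transfer (H := (P : Subgroup G)) (MonoidHom.id P))
  rw [hG] at hker
  have hx1 : MonoidHom.transfer (H := (P : Subgroup G)) (MonoidHom.id P) x = 1 :=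
    hker (Subgroup.mem_top x)
  have key : ∀ (k : ℕ) (g₀ : G), g₀⁻¹ * x ^ k * g₀ ∈ (P : Subgroup G) →
      g₀⁻¹ * x ^ k * g₀ = x ^ k := by
    intro k g₀ _
    have h1 : g₀ * x ^ k = x ^ k * g₀ := (Commute.pow_right (hcon g₀) k)
    rw [mul_assoc, ← h1]; group
  rw [MonoidHom.transfer_eq_pow (MonoidHom.id P) x key] at hx1
  have h2 : x ^ (P : Subgroup G).index = 1 := by
    have := congrArg Subtype.val hx1
    simpa using this
  have hord : orderOf x = 3 := orderOf_eq_prime hx3 hx
  have h3 := orderOf_dvd_of_pow_eq_one h2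
  rw [hord] at h3
  exact P.not_dvd_index h3

end ZThree

end Cfsg.Agent.Helper56
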