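import Mathlib
import Cfsg.Agent.Helper56.ZQ8
import Cfsg.Agent.Helper56.ZSylow
import Cfsg.Agent.Helper56.ZThree
import Cfsg.Agent.Helper53.Quat2

/-!
# A perfect fixed-point-free group is generated by its elements of order three
-/

namespace Cfsg.Agent.Helper56

section ZGen

variable {G : Type*} [Group G] {R : Type*} [Ring R] {ρ : G →* R}

theorem isCyclic_map_of_cover {Q : Type*} [Group Q] (f : G →* Q) (P : Subgroup G) {a : G}
    (ha : a ∈ P) (hcov : ∀ g ∈ P, f g = 1 ∨ f g = f a) : IsCyclic (P.map f) := by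
  refine ⟨⟨⟨f a, Subgroup.mem_map_of_mem f ha⟩, ?_⟩⟩
  rintro ⟨q, hq⟩
  obtain ⟨g, hg, rfl⟩ := Subgroup.mem_map.mp hq
  rcases hcov g hg with e | e
  · exact ⟨0, by apply Subtype.ext; simp [e]⟩
  · exact ⟨1, by apply Subtype.ext; simp [e]⟩

/-- a `2`-subgroup containing two non-commuting elements of a normal subgroup `N` is covered by
two cosets of `N` -/
theorem Fpf.two_group_cover [Nontrivial R] [Finite G] (h : Fpf ρ) {z : G} (hz : z ≠ 1)
    (hz2 : z * z = 1) (P : Subgroup G) (hP : IsPGroup 2 P) (N : Subgroup G) [hN : N.Normal]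
    {u v : G} (hu : u ∈ P) (huN : u ∈ N) (hv : v ∈ P) (hvN : v ∈ N) (huv : u * v ≠ v * u) :
    ∃ a ∈ P, ∀ g ∈ P, g ∈ N ∨ a⁻¹ * g ∈ N := by
  have hcard : 2 ∣ Nat.card P := by
    rcases hP.card_eq_or_dvd with h1 | h1
    · exfalso
      have hsub : Subsingleton P := (Nat.card_eq_one_iff_unique.mp h1).1
      have e1 : (⟨u, hu⟩ : P) = ⟨v, hv⟩ := Subsingleton.elim _ _
      have e2 : u = v := congrArg Subtype.val e1
      exact huv (by rw [e2])
    · exact h1
  have : Fact (Nat.Prime 2) := ⟨Nat.prime_two⟩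
  obtain ⟨t, ht⟩ := exists_prime_orderOf_dvd_card' (G := P) 2 hcard
  have key : ∀ s : P, orderOf s = 2 → (s : G) = z := by
    intro s hs
    have hs1 : (s : G) ≠ 1 := by
      intro e
      have : s = 1 := Subtype.ext e
      rw [this, orderOf_one] at hs
      norm_num at hs
    have hs2 : (s : G) * (s : G) = 1 := by
      have := pow_orderOf_eq_one s
      rw [hs, pow_two] at this
      exact congrArg Subtype.val this
    rcases h.sq_eq_one hz hz2 hs2 with e | e
    · exact absurd e hs1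
    · exact e
  have huniq : ∀ t' : P, orderOf t' = 2 → t' = t := by
    intro t' ht'
    apply Subtype.ext
    rw [key t' ht', key t ht]
  obtain ⟨a, y, k, hk2, hka, hcardP, hya, hyinv, hyy, haz, hcov, hinv⟩ :=
    Cfsg.Agent.Helper53.unique_invol_structure' hP t ht huniq
      ⟨⟨u, hu⟩, ⟨v, hv⟩, fun e => huv (congrArg Subtype.val e)⟩
  set M := N.subgroupOf P with hM
  have hMn : M.Normal := Subgroup.normal_subgroupOf
  obtain ⟨w, hwM, hwa⟩ : ∃ w : P, w ∈ M ∧ w ∉ Subgroup.zpowers a := by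
    by_cases hu' : (⟨u, hu⟩ : P) ∈ Subgroup.zpowers a
    · by_cases hv' : (⟨v, hv⟩ : P) ∈ Subgroup.zpowers a
      · exfalso
        obtain ⟨n, hn⟩ := Subgroup.mem_zpowers_iff.mp hu'
        obtain ⟨m, hm⟩ := Subgroup.mem_zpowers_iff.mp hv'
        apply huv
        have : (⟨u, hu⟩ : P) * ⟨v, hv⟩ = ⟨v, hv⟩ * ⟨u, hu⟩ := by
          rw [← hn, ← hm, ← zpow_add, ← zpow_add, add_comm]
        exact congrArg Subtype.val this
      · exact ⟨⟨v, hv⟩, Subgroup.mem_subgroupOf.mpr hvN, hv'⟩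
    · exact ⟨⟨u, hu⟩, Subgroup.mem_subgroupOf.mpr huN, hu'⟩
  have hc : w * y⁻¹ ∈ Subgroup.zpowers a := (hcov w).resolve_left hwa
  obtain ⟨n, hn⟩ := Subgroup.mem_zpowers_iff.mp hc
  have hw : w = a ^ n * y := by rw [hn]; group
  have haa : a * a ∈ M := by
    have e : a * w * a⁻¹ * w⁻¹ = a * a := by
      rw [hw]
      have e1 : y * a⁻¹ * y⁻¹ = a := by
        have := hinv a⁻¹ (inv_mem (Subgroup.mem_zpowers a))
        rw [inv_inv] at this
        exact this
      calc a * (a ^ n * y) * a⁻¹ * (a ^ n * y)⁻¹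
          = a * a ^ n * (y * a⁻¹ * y⁻¹) * (a ^ n)⁻¹ := by group
        _ = a * a ^ n * a * (a ^ n)⁻¹ := by rw [e1]
        _ = a ^ 2 := by group
        _ = a * a := pow_two a
    rw [← e]
    exact mul_mem (hMn.conj_mem w hwM a) (inv_mem hwM)
  have key1 : ∀ m : ℤ, a ^ m ∈ M ∨ a⁻¹ * a ^ m ∈ M := by
    intro m
    rcases Int.even_or_odd' m with ⟨k', rfl | rfl⟩
    · left
      have : a ^ (2 * k') = (a * a) ^ k' := by rw [zpow_mul, zpow_two]
      rw [this]; exact zpow_mem haa k'
    · right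
      have : a⁻¹ * a ^ (2 * k' + 1) = (a * a) ^ k' := by
        rw [zpow_add, zpow_one, zpow_mul, zpow_two]
        have hcm : Commute ((a * a) ^ k') a := ((Commute.refl a).mul_left (Commute.refl a)).zpow_left k'
        rw [hcm.eq, inv_mul_cancel_left]
      rw [this]; exact zpow_mem haa k'
  have key2 : ∀ g : P, g ∈ M ∨ a⁻¹ * g ∈ M := by
    intro g
    rcases hcov g with hg | hg
    · obtain ⟨m, rfl⟩ := Subgroup.mem_zpowers_iff.mp hg
      exact key1 m
    · obtain ⟨m, hm⟩ := Subgroup.mem_zpowers_iff.mp hg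
      have hg' : g = a ^ (m - n) * w := by
        have e1 : g = a ^ m * y := by rw [hm]; group
        rw [e1, hw, zpow_sub]; group
      rcases key1 (m - n) with h1 | h1
      · left; rw [hg']; exact mul_mem h1 hwM
      · right; rw [hg', ← mul_assoc]; exact mul_mem h1 hwM
  refine ⟨a, a.2, fun g hg => ?_⟩
  rcases key2 ⟨g, hg⟩ with h1 | h1
  · left; exact Subgroup.mem_subgroupOf.mp h1
  · right
    have := Subgroup.mem_subgroupOf.mp h1
    simpa using this

/-- a perfect group with a fixed-point-free representation is generated by its elements of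
order three -/
theorem Fpf.closure_order_three [Nontrivial R] [Finite G] (h : Fpf ρ) (hperf : commutator G = ⊤)
    {z : G} (hz : z ≠ 1) (hz2 : z * z = 1) {x y : G} (P : ZP ρ x y) :
    Subgroup.closure {g : G | g ≠ 1 ∧ g ^ 3 = 1} = ⊤ := by
  set N := Subgroup.closure {g : G | g ≠ 1 ∧ g ^ 3 = 1} with hNdef
  have hNn : N.Normal := by
    constructor
    intro n hn g
    have hle : N.map (MulAut.conj g).toMonoidHom ≤ N := by
      rw [hNdef, MonoidHom.map_closure]
      apply Subgroup.closure_mono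
      rintro _ ⟨a, ⟨ha1, ha3⟩, rfl⟩
      refine ⟨?_, ?_⟩
      · exact conj_ne_one_of_ne_one ha1
      · show (g * a * g⁻¹) ^ 3 = 1
        rw [conj_pow, ha3]; group
    exact hle (Subgroup.mem_map_of_mem _ hn)
  have hxN : x ∈ N := Subgroup.subset_closure ⟨P.hx, P.hx3⟩
  have hyN : y ∈ N := Subgroup.subset_closure ⟨P.hy, P.hy3⟩
  have hiN : x * y ∈ N := mul_mem hxN hyN
  have hjN : x * (x * y) * x⁻¹ ∈ N := mul_mem (mul_mem hxN hiN) (inv_mem hxN)
  have : Fact (Nat.Prime 2) := ⟨Nat.prime_two⟩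
  obtain ⟨P₀, hP₀⟩ := (P.isPGroup_q8 h).exists_le_sylow
  have hZ : IsZGroup (G ⧸ N) := by
    constructor
    intro p hp Pbar
    have : Fact p.Prime := ⟨hp⟩
    obtain ⟨P₁, rfl⟩ := Sylow.mapSurjective_surjective (QuotientGroup.mk'_surjective N) p Pbar
    show IsCyclic ((P₁ : Subgroup G).map (QuotientGroup.mk' N))
    by_cases hp2 : p = 2
    · subst hp2
      obtain ⟨g, hg⟩ := MulAction.exists_smul_eq G P₀ P₁
      have hmem : ∀ q ∈ P.q8 h, g * q * g⁻¹ ∈ (P₁ : Subgroup G) := by
        intro q hq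
        rw [← hg, Sylow.coe_subgroup_smul]
        exact Subgroup.smul_mem_pointwise_smul q (MulAut.conj g) _ (hP₀ hq)
      have hnc : g * (x * y) * g⁻¹ * (g * (x * (x * y) * x⁻¹) * g⁻¹) ≠
          g * (x * (x * y) * x⁻¹) * g⁻¹ * (g * (x * y) * g⁻¹) := by
        intro e
        apply P.ij_not_comm h hz hz2
        have e1 : g * (x * y) * g⁻¹ * (g * (x * (x * y) * x⁻¹) * g⁻¹) =
            g * ((x * y) * (x * (x * y) * x⁻¹)) * g⁻¹ := by group
        have e2 : g * (x * (x * y) * x⁻¹) * g⁻¹ * (g * (x * y) * g⁻¹) =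
            g * ((x * (x * y) * x⁻¹) * (x * y)) * g⁻¹ := by group
        rw [e1, e2] at e
        exact mul_left_cancel (mul_right_cancel e)
      obtain ⟨a, haP, hcov⟩ := h.two_group_cover hz hz2 (P₁ : Subgroup G) P₁.isPGroup' N
        (hmem _ (P.i_mem_q8 h)) (hNn.conj_mem _ hiN g) (hmem _ (P.j_mem_q8 h))
        (hNn.conj_mem _ hjN g) hnc
      apply isCyclic_map_of_cover _ _ haP
      intro q hq
      rcases hcov q hq with h1 | h1
      · left; exact (QuotientGroup.eq_one_iff q).mpr h1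
      · right
        exact (QuotientGroup.eq.mpr h1).symm
    · have : IsCyclic (P₁ : Subgroup G) :=
        (h.subgroup (P₁ : Subgroup G)).isCyclic_of_odd hp2 P₁.isPGroup'
      exact isCyclic_of_surjective ((QuotientGroup.mk' N).subgroupMap (P₁ : Subgroup G))
        (MonoidHom.subgroupMap_surjective _ _)
  have := hZ
  have hsub := subsingleton_of_perfect_of_solvable hperf (QuotientGroup.mk' N)
    (QuotientGroup.mk'_surjective N)
  exact QuotientGroup.subgroup_eq_top_of_subsingleton N hsub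

end ZGen

end Cfsg.Agent.Helper56
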