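import Mathlib
import Cfsg.Agent.Helper56.ZFrame

/-!
# Golden pairs: two elements of order three whose product has golden trace
-/

namespace Cfsg.Agent.Helper56

section ZGold

variable {G : Type*} [Group G] {R : Type*} [Ring R] {ρ : G →* R}

/-- the coefficient ring `ℤ[s]` with `s² = s + 1` -/
abbrev CG := QuadraticAlgebra ℤ 1 1

/-- the coefficient homomorphism of a golden pair -/
noncomputable def phiG (s : R) (hs : s * s - s - 1 = 0) : CG →+* R :=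
  ((QuadraticAlgebra.lift ⟨s, by
    have : s * s = 1 + s := by linear_combination (norm := abel) hs
    rw [this]; simp⟩ : CG →ₐ[ℤ] R) : CG →+* R)

theorem phiG_apply (s : R) (hs : s * s - s - 1 = 0) (c : CG) :
    phiG s hs c = (c.re : R) + (c.im : R) * s := by
  simp [phiG, QuadraticAlgebra.lift]

theorem phiG_comm {s : R} (hs : s * s - s - 1 = 0) {X : R} (hX : s * X = X * s) (c : CG) :
    phiG s hs c * X = X * phiG s hs c := by
  rw [phiG_apply, add_mul, mul_add, mul_assoc, hX, Int.cast_comm, ← mul_assoc, ← mul_assoc,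
    Int.cast_comm (c.im) X]

/-- coordinate data of a golden pair -/
theorem Fpf.xyData_gold (h : Fpf ρ) {x y : G} (hx : x ≠ 1) (hx3 : x ^ 3 = 1) (hy : y ≠ 1)
    (hy3 : y ^ 3 = 1)
    (hg : (ρ (x * y) + ρ (x * y)⁻¹) * (ρ (x * y) + ρ (x * y)⁻¹) - (ρ (x * y) + ρ (x * y)⁻¹) - 1
      = 0) :
    XYData (phiG (ρ (x * y) + ρ (x * y)⁻¹) hg) (⟨0, 1⟩ : CG) ρ x y := by
  refine ⟨h.sq_order3 hx hx3, h.sq_order3 hy hy3, ?_, ?_, ?_⟩
  · have : phiG (ρ (x * y) + ρ (x * y)⁻¹) hg (⟨0, 1⟩ : CG) = ρ (x * y) + ρ (x * y)⁻¹ := by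
      rw [phiG_apply]; simp
    rw [this, h.trace_mul_order3 hx hx3 hy hy3]; abel
  · exact fun c => phiG_comm hg (h.trace_mul_comm_left hx hx3 hy hy3) c
  · exact fun c => phiG_comm hg (h.trace_mul_comm_right hx hx3 hy hy3) c

theorem Fpf.golden_zp1 (h : Fpf ρ) {x y : G} (hx : x ≠ 1) (hx3 : x ^ 3 = 1) (hy : y ≠ 1)
    (hy3 : y ^ 3 = 1)
    (hg : (ρ (x * y) + ρ (x * y)⁻¹) * (ρ (x * y) + ρ (x * y)⁻¹) - (ρ (x * y) + ρ (x * y)⁻¹) - 1
      = 0) : ZP ρ x (y * x * y⁻¹) := by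
  refine ⟨hx, hx3, ?_, ?_, ?_⟩
  · intro e
    apply hx
    have : x = y⁻¹ * (y * x * y⁻¹) * y := by group
    rw [this, e]; group
  · rw [conj_pow, hx3]; group
  · have D := h.xyData_gold hx hx3 hy hy3 hg
    have hc := D.mul D.cx (D.mul (D.mul D.cy D.cx) (D.inv D.cy))
    rw [D.trace hc]
    have e : xyTr (⟨0, 1⟩ : CG) (xyMul ⟨0, 1⟩ (0, 1, 0, 0) (xyMul ⟨0, 1⟩
        (xyMul ⟨0, 1⟩ (0, 0, 1, 0) (0, 1, 0, 0)) (xyConj ⟨0, 1⟩ (0, 0, 1, 0)))) = 0 := by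
      decide
    rw [e, map_zero]

theorem Fpf.golden_zp2 (h : Fpf ρ) {x y : G} (hx : x ≠ 1) (hx3 : x ^ 3 = 1) (hy : y ≠ 1)
    (hy3 : y ^ 3 = 1)
    (hg : (ρ (x * y) + ρ (x * y)⁻¹) * (ρ (x * y) + ρ (x * y)⁻¹) - (ρ (x * y) + ρ (x * y)⁻¹) - 1
      = 0) : ZP ρ x (y⁻¹ * x * y) := by
  refine ⟨hx, hx3, ?_, ?_, ?_⟩
  · intro e
    apply hx
    have : x = y * (y⁻¹ * x * y) * y⁻¹ := by group
    rw [this, e]; group
  · have : y⁻¹ * x * y = y⁻¹ * x * y⁻¹⁻¹ := by group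
    rw [this, conj_pow, hx3]; group
  · have D := h.xyData_gold hx hx3 hy hy3 hg
    have hc := D.mul D.cx (D.mul (D.mul (D.inv D.cy) D.cx) D.cy)
    rw [D.trace hc]
    have e : xyTr (⟨0, 1⟩ : CG) (xyMul ⟨0, 1⟩ (0, 1, 0, 0) (xyMul ⟨0, 1⟩
        (xyMul ⟨0, 1⟩ (xyConj ⟨0, 1⟩ (0, 0, 1, 0)) (0, 1, 0, 0)) (0, 0, 1, 0))) = 0 := by
      decide
    rw [e, map_zero]

/-- the second element of a golden pair as a word in `x` and the two associated quaternion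
elements -/
theorem Fpf.golden_word [Nontrivial R] (h : Fpf ρ) {x y : G} (hx : x ≠ 1) (hx3 : x ^ 3 = 1)
    (hy : y ≠ 1) (hy3 : y ^ 3 = 1)
    (hg : (ρ (x * y) + ρ (x * y)⁻¹) * (ρ (x * y) + ρ (x * y)⁻¹) - (ρ (x * y) + ρ (x * y)⁻¹) - 1
      = 0) : y = x * (x * (y⁻¹ * x * y)) * (x * (y * x * y⁻¹)) * x⁻¹ := by
  apply h.injective
  have D := h.xyData_gold hx hx3 hy hy3 hg
  have ca := D.mul D.cx (D.mul (D.mul D.cy D.cx) (D.inv D.cy))
  have cb := D.mul D.cx (D.mul (D.mul (D.inv D.cy) D.cx) D.cy)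
  have cw := D.mul (D.mul (D.mul D.cx cb) ca) (D.inv D.cx)
  exact D.eq_of D.cy cw (by decide)

end ZGold

end Cfsg.Agent.Helper56
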