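import Mathlib
import Cfsg.Agent.S3377
import Cfsg.Agent.Helper5.SLCard

set_option autoImplicit false

namespace Cfsg.Agent.Helper56

/-- the relators of the presentation `⟨x, y, z | x³, y⁵, z², [z,x], [z,y], (xy)² = z⟩` -/
abbrev relsQ : Set (FreeGroup (Fin 3)) :=
  {FreeGroup.of (0 : Fin 3) ^ 3, FreeGroup.of (1 : Fin 3) ^ 5, FreeGroup.of (2 : Fin 3) ^ 2,
    (FreeGroup.of (2 : Fin 3))⁻¹ * FreeGroup.of 0 * FreeGroup.of 2 * (FreeGroup.of (0 : Fin 3))⁻¹,
    (FreeGroup.of (2 : Fin 3))⁻¹ * FreeGroup.of 1 * FreeGroup.of 2 * (FreeGroup.of (1 : Fin 3))⁻¹,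
    (FreeGroup.of (0 : Fin 3) * FreeGroup.of 1) ^ 2 * (FreeGroup.of (2 : Fin 3))⁻¹}

abbrev Q := PresentedGroup relsQ

def qx : Q := PresentedGroup.of 0
def qy : Q := PresentedGroup.of 1
def qz : Q := PresentedGroup.of 2

theorem qx3 : qx ^ 3 = 1 := by
  have : PresentedGroup.mk relsQ (FreeGroup.of (0 : Fin 3) ^ 3) = 1 :=
    PresentedGroup.one_of_mem (by simp [relsQ])
  rw [map_pow] at this
  exact this

theorem qy5 : qy ^ 5 = 1 := by
  have : PresentedGroup.mk relsQ (FreeGroup.of (1 : Fin 3) ^ 5) = 1 :=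
    PresentedGroup.one_of_mem (by simp [relsQ])
  rw [map_pow] at this
  exact this

theorem qz2 : qz ^ 2 = 1 := by
  have : PresentedGroup.mk relsQ (FreeGroup.of (2 : Fin 3) ^ 2) = 1 :=
    PresentedGroup.one_of_mem (by simp [relsQ])
  rw [map_pow] at this
  exact this

theorem qzx : qx * qz = qz * qx := by
  have : PresentedGroup.mk relsQ ((FreeGroup.of (2 : Fin 3))⁻¹ * FreeGroup.of 0 *
      FreeGroup.of 2 * (FreeGroup.of (0 : Fin 3))⁻¹) = 1 :=
    PresentedGroup.one_of_mem (by simp [relsQ])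
  rw [map_mul, map_mul, map_mul, map_inv, map_inv] at this
  have h : qz⁻¹ * qx * qz * qx⁻¹ = 1 := this
  calc qx * qz = qz * (qz⁻¹ * qx * qz * qx⁻¹) * qx := by group
    _ = qz * qx := by rw [h, mul_one]

theorem qzy : qy * qz = qz * qy := by
  have : PresentedGroup.mk relsQ ((FreeGroup.of (2 : Fin 3))⁻¹ * FreeGroup.of 1 *
      FreeGroup.of 2 * (FreeGroup.of (1 : Fin 3))⁻¹) = 1 :=
    PresentedGroup.one_of_mem (by simp [relsQ])
  rw [map_mul, map_mul, map_mul, map_inv, map_inv] at this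
  have h : qz⁻¹ * qy * qz * qy⁻¹ = 1 := this
  calc qy * qz = qz * (qz⁻¹ * qy * qz * qy⁻¹) * qy := by group
    _ = qz * qy := by rw [h, mul_one]

theorem qxy : (qx * qy) ^ 2 = qz := by
  have : PresentedGroup.mk relsQ ((FreeGroup.of (0 : Fin 3) * FreeGroup.of 1) ^ 2 *
      (FreeGroup.of (2 : Fin 3))⁻¹) = 1 :=
    PresentedGroup.one_of_mem (by simp [relsQ])
  rw [map_mul, map_pow, map_mul, map_inv] at this
  have h : (qx * qy) ^ 2 * qz⁻¹ = 1 := this
  exact mul_inv_eq_one.mp h

/-- the universal property -/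
theorem exists_hom {G : Type*} [Group G] (x y z : G) (hx : x ^ 3 = 1) (hy : y ^ 5 = 1)
    (hz : z ^ 2 = 1) (hzx : x * z = z * x) (hzy : y * z = z * y) (hxy : (x * y) ^ 2 = z) :
    ∃ f : Q →* G, f qx = x ∧ f qy = y ∧ f qz = z := by
  have hrel : ∀ r ∈ relsQ, FreeGroup.lift ![x, y, z] r = 1 := by
    intro r hr
    simp only [relsQ, Set.mem_insert_iff, Set.mem_singleton_iff] at hr
    rcases hr with rfl | rfl | rfl | rfl | rfl | rfl
    · simpa using hx
    · simpa using hy
    · simpa using hz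
    · simp only [map_mul, map_inv, FreeGroup.lift_apply_of]
      show z⁻¹ * x * z * x⁻¹ = 1
      rw [mul_assoc z⁻¹, hzx]; group
    · simp only [map_mul, map_inv, FreeGroup.lift_apply_of]
      show z⁻¹ * y * z * y⁻¹ = 1
      rw [mul_assoc z⁻¹, hzy]; group
    · simp only [map_mul, map_inv, map_pow, FreeGroup.lift_apply_of]
      show (x * y) ^ 2 * z⁻¹ = 1
      rw [hxy, mul_inv_cancel]
  refine ⟨PresentedGroup.toGroup hrel, ?_, ?_, ?_⟩
  · exact PresentedGroup.toGroup.of hrel
  · exact PresentedGroup.toGroup.of hrel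
  · exact PresentedGroup.toGroup.of hrel

theorem qz_central : qz ∈ Subgroup.center Q := by
  have h : ∀ g : Q, g ∈ Subgroup.centralizer ({qz} : Set Q) := by
    apply PresentedGroup.generated_by
    intro j
    rw [Subgroup.mem_centralizer_iff]
    intro h hh
    rw [Set.mem_singleton_iff] at hh
    subst hh
    fin_cases j
    · exact qzx.symm
    · exact qzy.symm
    · rfl
  rw [Subgroup.mem_center_iff]
  intro g
  have := Subgroup.mem_centralizer_iff.mp (h g) qz rfl
  exact this.symm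

/-- the central subgroup generated by `z` -/
def N : Subgroup Q := Subgroup.zpowers qz

instance N_normal : N.Normal := by
  refine ⟨fun n hn g => ?_⟩
  have hc : n ∈ Subgroup.center Q := by
    have : N ≤ Subgroup.center Q := by
      rw [N, Subgroup.zpowers_le]; exact qz_central
    exact this hn
  have : g * n * g⁻¹ = n := by
    rw [Subgroup.mem_center_iff.mp hc g, mul_inv_cancel_right]
  rw [this]; exact hn

theorem card_N_le : Nat.card N ≤ 2 ∧ 0 < Nat.card N := by
  rw [N, Nat.card_zpowers]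
  have hd : orderOf qz ∣ 2 := orderOf_dvd_of_pow_eq_one qz2
  exact ⟨Nat.le_of_dvd (by norm_num) hd, Nat.pos_of_dvd_of_pos hd (by norm_num)⟩

theorem theta_rel : ∀ r ∈ S3377.rels,
    FreeGroup.lift ![(QuotientGroup.mk' N) qx, (QuotientGroup.mk' N) qy] r = 1 := by
  intro r hr
  simp only [S3377.rels, Set.mem_insert_iff, Set.mem_singleton_iff] at hr
  rcases hr with rfl | rfl | rfl
  · simp only [map_pow, FreeGroup.lift_apply_of]
    show (QuotientGroup.mk' N) qx ^ 3 = 1
    rw [← map_pow, qx3, map_one]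
  · simp only [map_pow, FreeGroup.lift_apply_of]
    show (QuotientGroup.mk' N) qy ^ 5 = 1
    rw [← map_pow, qy5, map_one]
  · simp only [map_pow, map_mul, FreeGroup.lift_apply_of]
    show ((QuotientGroup.mk' N) qx * (QuotientGroup.mk' N) qy) ^ 2 = 1
    rw [← map_mul, ← map_pow, qxy]
    exact (QuotientGroup.eq_one_iff (N := N) qz).mpr (show qz ∈ N from Subgroup.mem_zpowers qz)

/-- the map from the `A₅` presentation onto `Q / ⟨z⟩` -/
def theta : S3377.P →* Q ⧸ N := PresentedGroup.toGroup theta_rel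

theorem theta_surj : Function.Surjective theta := by
  have h : ∀ g : Q, g ∈ (theta.range).comap (QuotientGroup.mk' N) := by
    apply PresentedGroup.generated_by
    intro j
    rw [Subgroup.mem_comap]
    fin_cases j
    · exact ⟨S3377.px, PresentedGroup.toGroup.of theta_rel⟩
    · exact ⟨S3377.py, PresentedGroup.toGroup.of theta_rel⟩
    · refine ⟨1, ?_⟩
      rw [map_one]
      exact ((QuotientGroup.eq_one_iff (N := N) qz).mpr
        (show qz ∈ N from Subgroup.mem_zpowers qz)).symm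
  intro q
  obtain ⟨g, rfl⟩ := QuotientGroup.mk'_surjective N q
  exact h g

instance finite_quot : Finite (Q ⧸ N) := Finite.of_surjective _ theta_surj

theorem card_quot_le : Nat.card (Q ⧸ N) ≤ 60 :=
  (Nat.card_le_card_of_surjective _ theta_surj).trans S3377.cardP

theorem card_Q_le : Nat.card Q ≤ 120 := by
  rw [Subgroup.card_eq_card_quotient_mul_card_subgroup N]
  calc Nat.card (Q ⧸ N) * Nat.card N ≤ 60 * 2 :=
        Nat.mul_le_mul card_quot_le card_N_le.1
    _ = 120 := by norm_num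

instance finite_Q : Finite Q := by
  apply Nat.finite_of_card_ne_zero
  rw [Subgroup.card_eq_card_quotient_mul_card_subgroup N]
  have h1 : 0 < Nat.card (Q ⧸ N) := Nat.card_pos
  have h2 := card_N_le.2
  positivity

abbrev SL25 := Matrix.SpecialLinearGroup (Fin 2) (ZMod 5)

def X5 : SL25 := ⟨!![0, 4; 1, 4], by decide⟩
def Y5 : SL25 := ⟨!![1, 1; 0, 1], by decide⟩
def Z5 : SL25 := ⟨!![4, 0; 0, 4], by decide⟩

theorem X5_3 : X5 ^ 3 = 1 := by decide
theorem Y5_5 : Y5 ^ 5 = 1 := by decide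
theorem Z5_2 : Z5 ^ 2 = 1 := by decide
theorem X5Z5 : X5 * Z5 = Z5 * X5 := by decide
theorem Y5Z5 : Y5 * Z5 = Z5 * Y5 := by decide
theorem XY5 : (X5 * Y5) ^ 2 = Z5 := by decide
theorem X5_ne : X5 ≠ 1 := by decide
theorem Y5_ne : Y5 ≠ 1 := by decide
theorem Z5_ne : Z5 ≠ 1 := by decide

instance fact_prime_five : Fact (Nat.Prime 5) := ⟨by norm_num⟩

theorem card_SL25 : Nat.card SL25 = 120 := by
  have h := Helper5.card_SL2 (F := ZMod 5)
  rw [ZMod.card] at h
  exact h

theorem exists_phi : ∃ f : Q →* SL25, f qx = X5 ∧ f qy = Y5 ∧ f qz = Z5 :=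
  exists_hom X5 Y5 Z5 X5_3 Y5_5 Z5_2 X5Z5 Y5Z5 XY5

/-- no subgroup of index two in a perfect group -/
theorem index_ne_two_of_perfect {G : Type*} [Group G] (hG : commutator G = ⊤) (R : Subgroup G) :
    R.index ≠ 2 := by
  intro h
  have hn : R.Normal := Subgroup.normal_of_index_eq_two h
  have hcard : Nat.card (G ⧸ R) = 2 := by rw [← Subgroup.index_eq_card]; exact h
  have hcyc : IsCyclic (G ⧸ R) := isCyclic_of_prime_card hcard
  let _ : CommGroup (G ⧸ R) := IsCyclic.commGroup
  have hle := Abelianization.commutator_subset_ker (QuotientGroup.mk' R)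
  rw [hG, QuotientGroup.ker_mk'] at hle
  have : R = ⊤ := top_le_iff.mp hle
  rw [this, Subgroup.index_top] at h
  norm_num at h

/-- a subgroup of `SL(2,5)` containing elements of orders 3, 4, 5 is everything -/
theorem eq_top_of_orders (R : Subgroup SL25) (a b c : SL25) (ha : a ∈ R) (hb : b ∈ R) (hc : c ∈ R)
    (oa : orderOf a = 3) (ob : orderOf b = 4) (oc : orderOf c = 5) : R = ⊤ := by
  have d3 : 3 ∣ Nat.card R := by
    have h := Subgroup.orderOf_dvd_natCard _ ha
    rwa [oa] at h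
  have d4 : 4 ∣ Nat.card R := by
    have h := Subgroup.orderOf_dvd_natCard _ hb
    rwa [ob] at h
  have d5 : 5 ∣ Nat.card R := by
    have h := Subgroup.orderOf_dvd_natCard _ hc
    rwa [oc] at h
  have d60 : 60 ∣ Nat.card R := by
    have h12 : 12 ∣ Nat.card R :=
      Nat.Coprime.mul_dvd_of_dvd_of_dvd (by norm_num : Nat.Coprime 3 4) d3 d4
    exact Nat.Coprime.mul_dvd_of_dvd_of_dvd (by norm_num : Nat.Coprime 12 5) h12 d5
  have hidx := Subgroup.card_mul_index R
  rw [card_SL25] at hidx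
  obtain ⟨m, hm⟩ := d60
  rw [hm] at hidx
  have h1 : m * R.index = 2 := by
    have : 60 * (m * R.index) = 60 * 2 := by rw [← mul_assoc, hidx]
    exact Nat.eq_of_mul_eq_mul_left (by norm_num) this
  have hperf : commutator SL25 = ⊤ :=
    Matrix.SL2.commutator_eq_top (F := ZMod 5) (a := 2) (by decide) (by decide)
  have h2 : R.index ∣ 2 := ⟨m, by rw [mul_comm]; exact h1.symm⟩
  have h3 := Nat.le_of_dvd (by norm_num) h2
  have h4 : R.index ≠ 0 := by
    intro h0
    rw [h0] at h1
    simp at h1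
  have h5 := index_ne_two_of_perfect hperf R
  have h6 : R.index = 1 := by omega
  exact Subgroup.index_eq_one.mp h6

theorem order_X5 : orderOf X5 = 3 := orderOf_eq_prime X5_3 X5_ne

theorem order_Y5 : orderOf Y5 = 5 := by
  have : Fact (Nat.Prime 5) := ⟨by norm_num⟩
  exact orderOf_eq_prime Y5_5 Y5_ne

theorem order_XY5 : orderOf (X5 * Y5) = 4 := by
  have h1 : ¬ (X5 * Y5) ^ 2 ^ 1 = 1 := by
    rw [pow_one, XY5]; exact Z5_ne
  have h2 : (X5 * Y5) ^ 2 ^ (1 + 1) = 1 := by
    have e : (2 : ℕ) ^ (1 + 1) = 2 * 2 := by norm_num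
    rw [e, pow_mul, XY5, Z5_2]
  exact orderOf_eq_prime_pow h1 h2

theorem phi_bijective (f : Q →* SL25) (hx : f qx = X5) (hy : f qy = Y5) :
    Function.Bijective f := by
  have hsurj : Function.Surjective f := by
    rw [← MonoidHom.range_eq_top]
    have h1 : X5 ∈ f.range := ⟨qx, hx⟩
    have h2 : Y5 ∈ f.range := ⟨qy, hy⟩
    exact eq_top_of_orders f.range X5 (X5 * Y5) Y5 h1 (mul_mem h1 h2) h2 order_X5 order_XY5
      order_Y5
  exact Function.Surjective.bijective_of_nat_card_le hsurj (by rw [card_SL25]; exact card_Q_le)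

/-- the presented group is `SL(2,5)` -/
theorem nonempty_equiv : Nonempty (Q ≃* SL25) := by
  obtain ⟨f, hx, hy, -⟩ := exists_phi
  exact ⟨MulEquiv.ofBijective f (phi_bijective f hx hy)⟩

theorem card_Q : Nat.card Q = 120 := by
  obtain ⟨e⟩ := nonempty_equiv
  rw [Nat.card_congr e.toEquiv, card_SL25]

end Cfsg.Agent.Helper56
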