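import Mathlib
import Cfsg.Agent.Helper56.ZTwo
import Cfsg.Agent.Helper56.SL25
import Cfsg.Agent.S3374

/-!
# Recognition of `SL(2,5)` from two quaternion frames
-/

namespace Cfsg.Agent.Helper56

section ZIcoA

/-- a homomorphism from the presented `SL(2,5)` with images of the right orders is injective -/
theorem hom_injective_of_orders {G : Type*} [Group G] (f : Q →* G) (o3 : orderOf (f qx) = 3)
    (o5 : orderOf (f qy) = 5) (o4 : orderOf (f qx * f qy) = 4) (hz : f qz ≠ 1) :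
    Function.Injective f := by
  rw [← MonoidHom.ker_eq_bot_iff]
  have h1 : f qx ∈ f.range := ⟨qx, rfl⟩
  have h2 : f qy ∈ f.range := ⟨qy, rfl⟩
  have h3 : f qx * f qy ∈ f.range := mul_mem h1 h2
  have d3 : 3 ∣ Nat.card f.range := by
    have h := Subgroup.orderOf_dvd_natCard _ h1
    rwa [o3] at h
  have d4 : 4 ∣ Nat.card f.range := by
    have h := Subgroup.orderOf_dvd_natCard _ h3
    rwa [o4] at h
  have d5 : 5 ∣ Nat.card f.range := by
    have h := Subgroup.orderOf_dvd_natCard _ h2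
    rwa [o5] at h
  have d60 : 60 ∣ Nat.card f.range := by
    have h12 : 12 ∣ Nat.card f.range :=
      Nat.Coprime.mul_dvd_of_dvd_of_dvd (by norm_num : Nat.Coprime 3 4) d3 d4
    exact Nat.Coprime.mul_dvd_of_dvd_of_dvd (by norm_num : Nat.Coprime 12 5) h12 d5
  have hidx := Subgroup.card_mul_index f.ker
  rw [Subgroup.index_ker, card_Q] at hidx
  obtain ⟨m, hm⟩ := d60
  rw [hm] at hidx
  have hk : Nat.card f.ker * m = 2 := by
    have : 60 * (Nat.card f.ker * m) = 60 * 2 := by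
      have e : (60 : ℕ) * 2 = 120 := by norm_num
      rw [e, ← hidx]; ring
    exact Nat.eq_of_mul_eq_mul_left (by norm_num) this
  have hdvd : Nat.card f.ker ∣ 2 := ⟨m, hk.symm⟩
  have hle := Nat.le_of_dvd (by norm_num) hdvd
  have hpos : 0 < Nat.card f.ker := Nat.card_pos
  by_contra hne
  have hcard2 : Nat.card f.ker = 2 := by
    have : Nat.card f.ker ≠ 1 := fun h => hne (Subgroup.eq_bot_of_card_eq _ h)
    omega
  obtain ⟨k, hk2⟩ := exists_prime_orderOf_dvd_card' (G := f.ker) 2 (by rw [hcard2])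
  have hkQ : orderOf (k : Q) = 2 := by rw [Subgroup.orderOf_coe]; exact hk2
  have hk1 : (k : Q) ≠ 1 := by
    intro h
    rw [h, orderOf_one] at hkQ
    norm_num at hkQ
  have hkk : (k : Q) * (k : Q) = 1 := by
    have h := pow_orderOf_eq_one (k : Q)
    rw [hkQ, pow_two] at h
    exact h
  obtain ⟨φ, hφx, hφy, hφz⟩ := exists_phi
  have hbij := phi_bijective φ hφx hφy
  have hinv := Cfsg.Agent.S3374.invol_SL25 (φ k) (by rw [← map_mul, hkk, map_one])
  rcases hinv with h | h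
  · exact hk1 (hbij.1 (h.trans (map_one φ).symm))
  · have hkz : (k : Q) = qz := hbij.1 (h.trans hφz.symm)
    have hker : f (k : Q) = 1 := k.2
    rw [hkz] at hker
    exact hz hker

end ZIcoA

section ZIcoB

variable {G : Type*} [Group G] {R : Type*} [Ring R] {ρ : G →* R}

/-- scaled quaternion coordinates of a group element -/
def SC {C : Type*} [Ring C] (φ : C →+* R) (I J : R) (ρ : G →* R) (n : ℕ) (g : G)
    (p : C × C × C × C) : Prop :=
  (2 : R) ^ n * ρ g = ql4 φ I J p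

section SCrules

variable {C : Type*} [Ring C] {φ : C →+* R} {I J : R}

theorem SC.mul (hI : I * I = -1) (hJ : J * J = -1) (hJI : J * I = -(I * J))
    (hci : ∀ c, φ c * I = I * φ c) (hcj : ∀ c, φ c * J = J * φ c)
    {n m : ℕ} {g g' : G} {p q : C × C × C × C}
    (hg : SC φ I J ρ n g p) (hg' : SC φ I J ρ m g' q) :
    SC φ I J ρ (n + m) (g * g') (hMul p q) := by
  unfold SC at *
  rw [← ql4_mul hI hJ hJI hci hcj, ← hg, ← hg', map_mul, pow_add]
  have hc : Commute (ρ g) ((2 : R) ^ m) := ((Commute.ofNat_left 2 (ρ g)).pow_left m).symm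
  rw [hc.mul_mul_mul_comm]

theorem SC.const (φ : C →+* R) (I J : R) (ρ : G →* R) (n : ℕ) :
    SC φ I J ρ n (1 : G) ((2 : C) ^ n, 0, 0, 0) := by
  unfold SC
  rw [map_one, mul_one, ← ql4_const, map_pow, map_ofNat]

theorem SC.eq_of (h2 : IsUnit (2 : R)) (hinj : Function.Injective ρ) {n : ℕ} {g g' : G}
    {p q : C × C × C × C} (hg : SC φ I J ρ n g p) (hg' : SC φ I J ρ n g' q) (hpq : p = q) :
    g = g' := by
  unfold SC at *
  apply hinj
  rw [hpq, ← hg'] at hg
  exact (h2.pow n).mul_left_cancel hg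

end SCrules

/-- the coefficient ring `ℤ[δ]` with `δ² = 5` -/
abbrev C5 := QuadraticAlgebra ℤ 5 0

/-- the coefficient homomorphism -/
noncomputable def phi5 (δ : R) (hδ : δ * δ = 5) : C5 →+* R :=
  ((QuadraticAlgebra.lift ⟨δ, by rw [hδ]; simp⟩ : C5 →ₐ[ℤ] R) : C5 →+* R)

theorem phi5_apply (δ : R) (hδ : δ * δ = 5) (c : C5) :
    phi5 δ hδ c = (c.re : R) + (c.im : R) * δ := by
  simp [phi5, QuadraticAlgebra.lift]

theorem phi5_comm {δ : R} (hδ : δ * δ = 5) {I : R} (hI : δ * I = I * δ) (c : C5) :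
    phi5 δ hδ c * I = I * phi5 δ hδ c := by
  rw [phi5_apply, add_mul, mul_add, mul_assoc, hI, Int.cast_comm, ← mul_assoc, ← mul_assoc,
    Int.cast_comm (c.im) I]

/-- **Recognition**: two zero pairs in golden position generate a copy of `SL(2,5)` -/
theorem Fpf.sl25_of_frames [Nontrivial R] (h : Fpf ρ) {z : G} (hz : z ≠ 1) (hz2 : z * z = 1)
    {x y y' : G} (P : ZP ρ x y) (P' : ZP ρ x y') {δ : R}
    (hδI : δ * ρ (x * y) = ρ (x * y) * δ)
    (hδJ : δ * ρ (x * (x * y) * x⁻¹) = ρ (x * (x * y) * x⁻¹) * δ) (hδ : δ * δ = 5)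
    (h4 : 4 * ρ (x * y') = 2 * ρ (x * y) + (1 + δ) * ρ (x * (x * y) * x⁻¹) +
          (1 - δ) * (ρ (x * y) * ρ (x * (x * y) * x⁻¹))) :
    ∃ f : Q →* G, Function.Injective f ∧ x ∈ f.range ∧ x * y ∈ f.range ∧ x * y' ∈ f.range := by
  have h2 := h.isUnit_two hz hz2
  have hinj := h.injective
  have hzc := h.invol_comm hz hz2
  have F := P.qf h
  have F' := P'.qf h
  have hci : ∀ c, phi5 δ hδ c * ρ (x * y) = ρ (x * y) * phi5 δ hδ c := phi5_comm hδ hδI
  have hcj : ∀ c, phi5 δ hδ c * ρ (x * (x * y) * x⁻¹) = ρ (x * (x * y) * x⁻¹) * phi5 δ hδ c :=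
    phi5_comm hδ hδJ
  have sx : SC (phi5 δ hδ) (ρ (x * y)) (ρ (x * (x * y) * x⁻¹)) ρ 1 x (-1, -1, -1, -1) := by
    unfold SC
    rw [pow_one, F.hX]
    simp only [ql4, ql, map_neg, map_one]
    noncomm_ring
  have si : SC (phi5 δ hδ) (ρ (x * y)) (ρ (x * (x * y) * x⁻¹)) ρ 0 (x * y) (0, 1, 0, 0) := by
    unfold SC
    rw [pow_zero, one_mul]
    exact ql4_I _ _ _
  have si' : SC (phi5 δ hδ) (ρ (x * y)) (ρ (x * (x * y) * x⁻¹)) ρ 2 (x * y')
      (0, 2, ⟨1, 1⟩, ⟨1, -1⟩) := by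
    unfold SC
    have : (2 : R) ^ 2 = 4 := by norm_num
    rw [this, h4]
    simp only [ql4, ql, phi5_apply, map_zero, map_ofNat]
    simp
    noncomm_ring
  have hinv' : ρ (x * y')⁻¹ = -ρ (x * y') := by
    have e1 := F'.hI
    calc ρ (x * y')⁻¹ = -(ρ (x * y') * ρ (x * y')) * ρ (x * y')⁻¹ := by rw [e1]; simp
      _ = -(ρ (x * y') * (ρ (x * y') * ρ (x * y')⁻¹)) := by noncomm_ring
      _ = -ρ (x * y') := by rw [rho_mul_inv, mul_one]
  have si'inv : SC (phi5 δ hδ) (ρ (x * y)) (ρ (x * (x * y) * x⁻¹)) ρ 2 (x * y')⁻¹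
      (-(0, 2, ⟨1, 1⟩, ⟨1, -1⟩)) := by
    unfold SC at si' ⊢
    rw [hinv', mul_neg, si', ql4_neg]
  have sz : SC (phi5 δ hδ) (ρ (x * y)) (ρ (x * (x * y) * x⁻¹)) ρ 0 z (-1, 0, 0, 0) := by
    unfold SC
    rw [pow_zero, one_mul, h.rho_invol hz hz2]
    simp [ql4, ql]
  have mul : ∀ {n m : ℕ} {g g' : G} {p q : C5 × C5 × C5 × C5},
      SC (phi5 δ hδ) (ρ (x * y)) (ρ (x * (x * y) * x⁻¹)) ρ n g p →
      SC (phi5 δ hδ) (ρ (x * y)) (ρ (x * (x * y) * x⁻¹)) ρ m g' q →
      SC (phi5 δ hδ) (ρ (x * y)) (ρ (x * (x * y) * x⁻¹)) ρ (n + m) (g * g') (hMul p q) :=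
    fun a b => SC.mul F.hI F.hJ F.hJI hci hcj a b
  have cst := SC.const (phi5 δ hδ) (ρ (x * y)) (ρ (x * (x * y) * x⁻¹)) ρ
  have sb := mul (mul si sx) si'inv
  have hb5 : x * y * x * (x * y')⁻¹ * (x * y * x * (x * y')⁻¹) * (x * y * x * (x * y')⁻¹) *
      (x * y * x * (x * y')⁻¹) * (x * y * x * (x * y')⁻¹) = 1 :=
    SC.eq_of h2 hinj (mul (mul (mul (mul sb sb) sb) sb) sb) (cst 15) (by decide +kernel)
  have hab : x * (x * y * x * (x * y')⁻¹) * (x * (x * y * x * (x * y')⁻¹)) = z := by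
    have s1 := mul (mul sx sb) (mul sx sb)
    have s2 := mul (cst 8) sz
    rw [one_mul] at s2
    exact SC.eq_of h2 hinj s1 s2 (by decide +kernel)
  have hwi : x * (x * y * x * (x * y')⁻¹) * (x * y * x * (x * y')⁻¹) * x *
      (x * y * x * (x * y')⁻¹) * (x * y * x * (x * y')⁻¹) * (x * y * x * (x * y')⁻¹) = x * y := by
    have s1 := mul (mul (mul (mul (mul (mul sx sb) sb) sx) sb) sb) sb
    have s2 := mul (cst 17) si
    rw [one_mul] at s2
    exact SC.eq_of h2 hinj s1 s2 (by decide +kernel)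
  have hwi' : (x * y * x * (x * y')⁻¹) * (x * y * x * (x * y')⁻¹) * x *
      (x * y * x * (x * y')⁻¹) * (x * y * x * (x * y')⁻¹) * (x * y * x * (x * y')⁻¹) *
      (x * y * x * (x * y')⁻¹) = x * y' := by
    have s1 := mul (mul (mul (mul (mul (mul sb sb) sx) sb) sb) sb) sb
    have s2 := mul (cst 17) si'
    rw [one_mul] at s2
    exact SC.eq_of h2 hinj s1 s2 (by decide +kernel)
  set b := x * y * x * (x * y')⁻¹ with hb
  have hb5' : b ^ 5 = 1 := by
    rw [← hb5]; simp only [pow_succ, pow_zero, one_mul]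
  have hab' : (x * b) ^ 2 = z := by rw [pow_two]; exact hab
  have hz2' : z ^ 2 = 1 := by rw [pow_two]; exact hz2
  obtain ⟨f, hfx, hfy, hfz⟩ := exists_hom x b z P.hx3 hb5' hz2' (hzc x) (hzc b) hab'
  have hb1 : b ≠ 1 := by
    intro e
    rw [e, mul_one] at hab
    have e3 : x * x * x = 1 := by rw [← P.hx3, pow_succ, pow_two]
    rw [hab] at e3
    have e6 : x = z := by
      calc x = z * (z * x) := by rw [← mul_assoc, hz2, one_mul]
        _ = z := by rw [e3, mul_one]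
    rw [e6, hz2] at hab
    exact hz hab.symm
  have o3 : orderOf (f qx) = 3 := by rw [hfx]; exact orderOf_eq_prime P.hx3 P.hx
  have o5 : orderOf (f qy) = 5 := by rw [hfy]; exact orderOf_eq_prime hb5' hb1
  have o4 : orderOf (f qx * f qy) = 4 := by
    rw [hfx, hfy]
    have := orderOf_eq_prime_pow (x := x * b) (p := 2) (n := 1)
      (by rw [pow_one, hab']; exact hz) (by
        have : (x * b) ^ 2 ^ (1 + 1) = ((x * b) ^ 2) ^ 2 := by rw [← pow_mul]; norm_num
        rw [this, hab', hz2'])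
    simpa using this
  have hfinj := hom_injective_of_orders f o3 o5 o4 (by rw [hfz]; exact hz)
  refine ⟨f, hfinj, ⟨qx, hfx⟩, ?_, ?_⟩
  · refine ⟨qx * qy * qy * qx * qy * qy * qy, ?_⟩
    simp only [map_mul, hfx, hfy]
    exact hwi
  · refine ⟨qy * qy * qx * qy * qy * qy * qy, ?_⟩
    simp only [map_mul, hfx, hfy]
    exact hwi'

end ZIcoB

end Cfsg.Agent.Helper56
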