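import Mathlib
import Cfsg.Agent.Helper56.ZGen
import Cfsg.Agent.Helper56.ZGold
import Cfsg.Agent.Helper56.ZIco

/-!
# Zassenhaus' theorem in ring form

A finite perfect nontrivial group with a fixed-point-free representation in a nontrivial ring
is isomorphic to `SL(2,5)`.
-/

namespace Cfsg.Agent.Helper56

section ZEnd

variable {G : Type*} [Group G] {R : Type*} [Ring R] {ρ : G →* R}

/-- there is an element of order three different from `x` and `x⁻¹` -/
theorem Fpf.exists_other_order_three [Nontrivial R] [Finite G] (h : Fpf ρ)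
    (hperf : commutator G = ⊤) {x : G} (hx : x ≠ 1) (hx3 : x ^ 3 = 1) :
    ∃ y : G, y ≠ 1 ∧ y ^ 3 = 1 ∧ y ≠ x ∧ y ≠ x⁻¹ := by
  by_contra hcon
  push Not at hcon
  obtain ⟨g, hg⟩ := h.exists_not_comm_order_three hperf hx hx3
  have key : ∀ b : G, b * x ≠ x * b → b * x * b⁻¹ = x⁻¹ := by
    intro b hb
    apply hcon (b * x * b⁻¹) (conj_ne_one_of_ne_one hx) (by rw [conj_pow, hx3]; group)
    intro e
    apply hb
    calc b * x = b * x * b⁻¹ * b := by group
      _ = x * b := by rw [e]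
  apply index_ne_two_of_perfect hperf (Subgroup.centralizer {x})
  rw [Subgroup.index_eq_two_iff]
  refine ⟨g, fun b => ?_⟩
  have hmem : ∀ c : G, c ∈ Subgroup.centralizer {x} ↔ c * x = x * c := by
    intro c
    rw [Subgroup.mem_centralizer_iff]
    constructor
    · intro hc; exact (hc x rfl).symm
    · intro hc k hk
      rw [Set.mem_singleton_iff] at hk
      rw [hk]; exact hc.symm
  rw [hmem, hmem]
  by_cases hb : b * x = x * b
  · refine Or.inr ⟨hb, ?_⟩
    intro hbg
    apply hg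
    have : b * (g * x) = b * (x * g) := by
      calc b * (g * x) = b * g * x := by group
        _ = x * (b * g) := hbg
        _ = (x * b) * g := by group
        _ = b * x * g := by rw [hb]
        _ = b * (x * g) := by group
    exact mul_left_cancel this
  · refine Or.inl ⟨?_, hb⟩
    have e1 := key b hb
    have e2 := key g hg
    have : b * g * x * (b * g)⁻¹ = x := by
      calc b * g * x * (b * g)⁻¹ = b * (g * x * g⁻¹) * b⁻¹ := by group
        _ = b * x⁻¹ * b⁻¹ := by rw [e2]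
        _ = (b * x * b⁻¹)⁻¹ := by group
        _ = x := by rw [e1, inv_inv]
    calc b * g * x = b * g * x * (b * g)⁻¹ * (b * g) := by group
      _ = x * (b * g) := by rw [this]

/-- existence of a zero pair -/
theorem Fpf.exists_zp [Nontrivial R] [Finite G] (h : Fpf ρ) (hperf : commutator G = ⊤) {z : G}
    (hz : z ≠ 1) (hz2 : z * z = 1) {x : G} (hx : x ≠ 1) (hx3 : x ^ 3 = 1) :
    ∃ y : G, ZP ρ x y := by
  obtain ⟨y, hy, hy3, hyx, hyx'⟩ := h.exists_other_order_three hperf hx hx3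
  rcases h.pairType hz hz2 hx hx3 hy hy3 with e | e | e | e | e
  · exact absurd e hyx'
  · exact absurd e hyx
  · exact ⟨y, hx, hx3, hy, hy3, e⟩
  · refine ⟨y⁻¹, hx, hx3, inv_ne_one.mpr hy, by rw [inv_pow, hy3, inv_one], ?_⟩
    rw [h.trace_mul_inv_order3 hx hx3 hy hy3, e, sub_self]
  · exact ⟨y * x * y⁻¹, h.golden_zp1 hx hx3 hy hy3 e⟩

/-- a subgroup containing `x` and all its zero partners contains all elements of order three -/
theorem Fpf.order_three_mem_of_zp [Nontrivial R] [Finite G] (h : Fpf ρ) {z : G} (hz : z ≠ 1)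
    (hz2 : z * z = 1) {x : G} (hx : x ≠ 1) (hx3 : x ^ 3 = 1) (K : Subgroup G) (hxK : x ∈ K)
    (hK : ∀ y', ZP ρ x y' → y' ∈ K) {y : G} (hy : y ≠ 1) (hy3 : y ^ 3 = 1) : y ∈ K := by
  rcases h.pairType hz hz2 hx hx3 hy hy3 with e | e | e | e | e
  · rw [e]; exact inv_mem hxK
  · rw [e]; exact hxK
  · exact hK y ⟨hx, hx3, hy, hy3, e⟩
  · have : y⁻¹ ∈ K := hK y⁻¹ ⟨hx, hx3, inv_ne_one.mpr hy, by rw [inv_pow, hy3, inv_one], by
      rw [h.trace_mul_inv_order3 hx hx3 hy hy3, e, sub_self]⟩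
    simpa using inv_mem this
  · have h1 := hK _ (h.golden_zp1 hx hx3 hy hy3 e)
    have h2 := hK _ (h.golden_zp2 hx hx3 hy hy3 e)
    rw [h.golden_word hx hx3 hy hy3 e]
    exact mul_mem (mul_mem (mul_mem hxK (mul_mem hxK h2)) (mul_mem hxK h1)) (inv_mem hxK)

theorem Fpf.eq_top_of_zp [Nontrivial R] [Finite G] (h : Fpf ρ) (hperf : commutator G = ⊤)
    {z : G} (hz : z ≠ 1) (hz2 : z * z = 1) {x y : G} (P : ZP ρ x y) (K : Subgroup G)
    (hxK : x ∈ K) (hK : ∀ y', ZP ρ x y' → y' ∈ K) : K = ⊤ := by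
  rw [eq_top_iff, ← h.closure_order_three hperf hz hz2 P, Subgroup.closure_le]
  rintro w ⟨hw, hw3⟩
  exact h.order_three_mem_of_zp hz hz2 P.hx P.hx3 K hxK hK hw hw3

/-- there is a zero partner outside the orbit of a given one -/
theorem Fpf.not_single_orbit [Nontrivial R] [Finite G] (h : Fpf ρ) (hperf : commutator G = ⊤)
    {z : G} (hz : z ≠ 1) (hz2 : z * z = 1) {x y : G} (P : ZP ρ x y) :
    ∃ y', ZP ρ x y' ∧ y' ≠ y ∧ y' ≠ x * y * x⁻¹ ∧ y' ≠ x⁻¹ * y * x := by
  by_contra hcon
  push Not at hcon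
  have hxK : x ∈ Subgroup.closure ({x, y} : Set G) := Subgroup.subset_closure (by simp)
  have hyK : y ∈ Subgroup.closure ({x, y} : Set G) := Subgroup.subset_closure (by simp)
  have hKtop : Subgroup.closure ({x, y} : Set G) = ⊤ := by
    apply h.eq_top_of_zp hperf hz hz2 P _ hxK
    intro y' P'
    by_cases h1 : y' = y
    · rw [h1]; exact hyK
    · by_cases h2 : y' = x * y * x⁻¹
      · rw [h2]; exact mul_mem (mul_mem hxK hyK) (inv_mem hxK)
      · rw [hcon y' P' h1 h2]; exact mul_mem (mul_mem (inv_mem hxK) hyK) hxK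
  have e3 : x * x * x = 1 := by rw [← P.hx3, pow_succ, pow_two]
  have ei : x⁻¹ * x⁻¹ * x⁻¹ = 1 := by
    have : x⁻¹ * x⁻¹ * x⁻¹ = (x * x * x)⁻¹ := by group
    rw [this, e3, inv_one]
  obtain ⟨S, hiS, hconjS, hxS⟩ : ∃ S : Subgroup G, x * y ∈ S ∧ (∀ g ∈ S, x * g * x⁻¹ ∈ S) ∧
      x ∉ S :=
    ⟨P.q8 h, P.i_mem_q8 h, fun g hg => P.conj_mem_q8 h hg, P.x_not_mem_q8 h⟩
  have hxn : x ∈ Subgroup.normalizer (S : Set G) := by
    rw [Subgroup.mem_normalizer_iff]
    intro g
    constructor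
    · exact fun hg => hconjS g hg
    · intro hg
      have h1 := hconjS _ (hconjS _ hg)
      have e : x * (x * (x * g * x⁻¹) * x⁻¹) * x⁻¹ = g := by
        calc x * (x * (x * g * x⁻¹) * x⁻¹) * x⁻¹ = (x * x * x) * g * (x⁻¹ * x⁻¹ * x⁻¹) := by group
          _ = g := by rw [e3, ei, one_mul, mul_one]
      rw [e] at h1
      exact h1
  have hyn : y ∈ Subgroup.normalizer (S : Set G) := by
    have e : y = x⁻¹ * (x * y) := by group
    rw [e]
    exact mul_mem (inv_mem hxn) (Subgroup.le_normalizer hiS)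
  have hSn : S.Normal := by
    rw [← Subgroup.normalizer_eq_top_iff, eq_top_iff, ← hKtop, Subgroup.closure_le]
    intro g hg
    rcases hg with rfl | hg
    · exact hxn
    · rw [Set.mem_singleton_iff] at hg
      rw [hg]; exact hyn
  have hcyc : ∀ g : G, QuotientGroup.mk' S g ∈ Subgroup.zpowers (QuotientGroup.mk' S x) := by
    intro g
    have hle : Subgroup.closure ({x, y} : Set G) ≤
        (Subgroup.zpowers (QuotientGroup.mk' S x)).comap (QuotientGroup.mk' S) := by
      rw [Subgroup.closure_le]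
      intro g hg
      rcases hg with rfl | hg
      · exact Subgroup.mem_zpowers _
      · rw [Set.mem_singleton_iff] at hg
        rw [hg]
        show QuotientGroup.mk' S y ∈ Subgroup.zpowers (QuotientGroup.mk' S x)
        have e : y = x⁻¹ * (x * y) := by group
        have e1 : QuotientGroup.mk' S (x * y) = 1 := (QuotientGroup.eq_one_iff (x * y)).mpr hiS
        rw [e, map_mul, e1, mul_one, map_inv]
        exact inv_mem (Subgroup.mem_zpowers _)
    have : g ∈ Subgroup.closure ({x, y} : Set G) := by rw [hKtop]; exact Subgroup.mem_top g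
    exact hle this
  have hcomm : ∀ a b : G ⧸ S, a * b = b * a := by
    intro a b
    obtain ⟨ga, rfl⟩ := QuotientGroup.mk'_surjective S a
    obtain ⟨gb, rfl⟩ := QuotientGroup.mk'_surjective S b
    obtain ⟨n, hn⟩ := Subgroup.mem_zpowers_iff.mp (hcyc ga)
    obtain ⟨m, hm⟩ := Subgroup.mem_zpowers_iff.mp (hcyc gb)
    rw [← hn, ← hm, ← zpow_add, ← zpow_add, add_comm]
  have hsolv : Group.IsSolvable (G ⧸ S) := Group.isSolvable_of_comm hcomm
  have hsub := subsingleton_of_perfect_of_solvable hperf (QuotientGroup.mk' S)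
    (QuotientGroup.mk'_surjective S)
  have htop := QuotientGroup.subgroup_eq_top_of_subsingleton S hsub
  apply hxS
  rw [htop]
  exact Subgroup.mem_top x

/-- **Zassenhaus' theorem, ring form**: a finite nontrivial perfect group with a fixed-point-free
representation in a nontrivial ring is isomorphic to `SL(2,5)`. -/
theorem zassenhaus_ring [Nontrivial R] [Finite G] [Nontrivial G] (h : Fpf ρ)
    (hperf : commutator G = ⊤) : Nonempty (G ≃* SL25) := by
  obtain ⟨z, hz, hz2⟩ := h.exists_invol hperf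
  obtain ⟨x, hx, hx3⟩ := h.exists_order_three hperf
  obtain ⟨y, P⟩ := h.exists_zp hperf hz hz2 hx hx3
  obtain ⟨y', P', hne1, hne2, hne3⟩ := h.not_single_orbit hperf hz hz2 P
  obtain ⟨y'', -, P'', δ, hδI, hδJ, hδ, h4⟩ := h.two_pairs hz hz2 P P' hne1 hne2 hne3
  obtain ⟨f, hfinj, hfx, hfi, hfi''⟩ := h.sl25_of_frames hz hz2 P P'' hδI hδJ hδ h4
  have hyK : y ∈ f.range := by
    have : y = x⁻¹ * (x * y) := by group
    rw [this]; exact mul_mem (inv_mem hfx) hfi
  have hy''K : y'' ∈ f.range := by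
    have : y'' = x⁻¹ * (x * y'') := by group
    rw [this]; exact mul_mem (inv_mem hfx) hfi''
  have htop : f.range = ⊤ := by
    apply h.eq_top_of_zp hperf hz hz2 P f.range hfx
    intro w Pw
    by_cases h1 : w = y
    · rw [h1]; exact hyK
    by_cases h2 : w = x * y * x⁻¹
    · rw [h2]; exact mul_mem (mul_mem hfx hyK) (inv_mem hfx)
    by_cases h3 : w = x⁻¹ * y * x
    · rw [h3]; exact mul_mem (mul_mem (inv_mem hfx) hyK) hfx
    obtain ⟨w', hw', Pw', ε, hεI, hεJ, hε, h4'⟩ := h.two_pairs hz hz2 P Pw h1 h2 h3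
    have e := h.three_pairs hz hz2 P P'' Pw' hδI hδJ hδ h4 hεI hεJ hε h4'
    rw [e] at hw'
    rcases hw' with e1 | e1 | e1
    · rw [← e1]; exact hy''K
    · have : w = x⁻¹ * y'' * x := by rw [e1]; group
      rw [this]; exact mul_mem (mul_mem (inv_mem hfx) hy''K) hfx
    · have : w = x * y'' * x⁻¹ := by rw [e1]; group
      rw [this]; exact mul_mem (mul_mem hfx hy''K) (inv_mem hfx)
  have hsurj : Function.Surjective f := MonoidHom.range_eq_top.mp htop
  obtain ⟨e⟩ := nonempty_equiv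
  exact ⟨(MulEquiv.ofBijective f ⟨hfinj, hsurj⟩).symm.trans e⟩

end ZEnd

end Cfsg.Agent.Helper56
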