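import Mathlib
import Cfsg.Agent.Helper56.ZEnd

/-!
# Icosahedral configurations inside an arbitrary fixed-point-free group
-/

namespace Cfsg.Agent.Helper56

section ZNS1

variable {G : Type*} [Group G] {R : Type*} [Ring R] {ρ : G →* R}

/-- `w` lies in the orbit of `y` under conjugation by the powers of `x` -/
def InOrb (x y w : G) : Prop := ∃ c ∈ Subgroup.zpowers x, w = c * y * c⁻¹

theorem inOrb_of_three {x y w : G} (hw : w = y ∨ w = x * y * x⁻¹ ∨ w = x⁻¹ * y * x) :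
    InOrb x y w := by
  rcases hw with e | e | e
  · exact ⟨1, one_mem _, by rw [e]; group⟩
  · exact ⟨x, Subgroup.mem_zpowers x, e⟩
  · exact ⟨x⁻¹, inv_mem (Subgroup.mem_zpowers x), by rw [e, inv_inv]⟩

theorem InOrb.symm {x y w : G} (hw : InOrb x y w) : InOrb x w y := by
  obtain ⟨c, hc, e⟩ := hw
  exact ⟨c⁻¹, inv_mem hc, by rw [e]; group⟩

theorem InOrb.trans {x y w v : G} (h1 : InOrb x y w) (h2 : InOrb x w v) : InOrb x y v := by
  obtain ⟨c, hc, e⟩ := h1
  obtain ⟨d, hd, e'⟩ := h2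
  exact ⟨d * c, mul_mem hd hc, by rw [e', e]; group⟩

theorem InOrb.mem {x y w : G} (hw : InOrb x y w) (K : Subgroup G) (hx : x ∈ K) (hy : y ∈ K) :
    w ∈ K := by
  obtain ⟨c, hc, e⟩ := hw
  have hcK : c ∈ K := (Subgroup.zpowers_le.mpr hx) hc
  rw [e]; exact mul_mem (mul_mem hcK hy) (inv_mem hcK)

theorem ZP.of_subgroup {T : Subgroup G} {a b : T} (P : ZP (ρ.comp T.subtype) a b) :
    ZP ρ (a : G) (b : G) := by
  refine ⟨?_, ?_, ?_, ?_, ?_⟩
  · intro e; exact P.hx (Subtype.ext e)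
  · have := congrArg Subtype.val P.hx3
    simpa using this
  · intro e; exact P.hy (Subtype.ext e)
  · have := congrArg Subtype.val P.hy3
    simpa using this
  · have := P.htr
    simpa using this

theorem ZP.to_subgroup {T : Subgroup G} {a b : T} (P : ZP ρ (a : G) (b : G)) :
    ZP (ρ.comp T.subtype) a b := by
  refine ⟨?_, ?_, ?_, ?_, ?_⟩
  · intro e; exact P.hx (by rw [e]; rfl)
  · apply Subtype.ext
    have := P.hx3
    simpa using this
  · intro e; exact P.hy (by rw [e]; rfl)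
  · apply Subtype.ext
    have := P.hy3
    simpa using this
  · have := P.htr
    simpa using this

theorem ZP.conj_of_comm {x w c : G} (P : ZP ρ x w) (hc : c * x = x * c) :
    ZP ρ x (c * w * c⁻¹) := by
  refine ⟨P.hx, P.hx3, conj_ne_one_of_ne_one P.hy, by rw [conj_pow, P.hy3]; group, ?_⟩
  have e : x * (c * w * c⁻¹) = c * (x * w) * c⁻¹ := by
    calc x * (c * w * c⁻¹) = (x * c) * w * c⁻¹ := by group
      _ = (c * x) * w * c⁻¹ := by rw [hc]
      _ = c * (x * w) * c⁻¹ := by group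
  rw [e, trace_conj, P.htr]; simp

theorem ZP.sq_i [Nontrivial R] {x y : G} (P : ZP ρ x y) (h : Fpf ρ) {z : G} (hz : z ≠ 1)
    (hz2 : z * z = 1) : (x * y) * (x * y) = z := by
  apply h.injective
  rw [map_mul, (P.qf h).hI, h.rho_invol hz hz2]

/-- an icosahedral configuration: two zero pairs in golden normal position -/
structure Ico (ρ : G →* R) (z x y y'' : G) (δ : R) : Prop where
  hz : z ≠ 1
  hz2 : z * z = 1
  P : ZP ρ x y
  P'' : ZP ρ x y''
  hδI : δ * ρ (x * y) = ρ (x * y) * δ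
  hδJ : δ * ρ (x * (x * y) * x⁻¹) = ρ (x * (x * y) * x⁻¹) * δ
  hδ : δ * δ = 5
  h4 : 4 * ρ (x * y'') = 2 * ρ (x * y) + (1 + δ) * ρ (x * (x * y) * x⁻¹) +
    (1 - δ) * (ρ (x * y) * ρ (x * (x * y) * x⁻¹))

variable {z x y y'' : G} {δ : R}

/-- classification of the zero partners of `x` -/
theorem Ico.classify [Nontrivial R] [Finite G] (D : Ico ρ z x y y'' δ) (h : Fpf ρ) {w : G}
    (Pw : ZP ρ x w) : InOrb x y w ∨ InOrb x y'' w := by
  by_cases h1 : w = y
  · left; exact inOrb_of_three (Or.inl h1)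
  by_cases h2 : w = x * y * x⁻¹
  · left; exact inOrb_of_three (Or.inr (Or.inl h2))
  by_cases h3 : w = x⁻¹ * y * x
  · left; exact inOrb_of_three (Or.inr (Or.inr h3))
  right
  obtain ⟨w', hw', Pw', ε, hεI, hεJ, hε, h4'⟩ := h.two_pairs D.hz D.hz2 D.P Pw h1 h2 h3
  have e := h.three_pairs D.hz D.hz2 D.P D.P'' Pw' D.hδI D.hδJ D.hδ D.h4 hεI hεJ hε h4'
  rw [e] at hw'
  exact (inOrb_of_three hw').symm

/-- all elements of order three lie in the subgroup generated by the configuration -/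
theorem Ico.order_three_mem [Nontrivial R] [Finite G] (D : Ico ρ z x y y'' δ) (h : Fpf ρ)
    {g : G} (hg : g ≠ 1) (hg3 : g ^ 3 = 1) : g ∈ Subgroup.closure ({x, y, y''} : Set G) := by
  have hxK : x ∈ Subgroup.closure ({x, y, y''} : Set G) := Subgroup.subset_closure (by simp)
  have hyK : y ∈ Subgroup.closure ({x, y, y''} : Set G) := Subgroup.subset_closure (by simp)
  have hy''K : y'' ∈ Subgroup.closure ({x, y, y''} : Set G) := Subgroup.subset_closure (by simp)
  apply h.order_three_mem_of_zp D.hz D.hz2 D.P.hx D.P.hx3 _ hxK _ hg hg3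
  intro w Pw
  rcases D.classify h Pw with hw | hw
  · exact hw.mem _ hxK hyK
  · exact hw.mem _ hxK hy''K

/-- a perfect subgroup containing the configuration is generated by it -/
theorem Ico.closure_eq [Nontrivial R] [Finite G] (D : Ico ρ z x y y'' δ) (h : Fpf ρ)
    (T : Subgroup G) (hT : commutator T = ⊤) (hxT : x ∈ T) (hyT : y ∈ T) (hy''T : y'' ∈ T) :
    T = Subgroup.closure ({x, y, y''} : Set G) := by
  apply le_antisymm
  · have hzT : z ∈ T := by
      rw [← D.P.sq_i h D.hz D.hz2]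
      exact mul_mem (mul_mem hxT hyT) (mul_mem hxT hyT)
    have PT : ZP (ρ.comp T.subtype) (⟨x, hxT⟩ : T) ⟨y, hyT⟩ := ZP.to_subgroup D.P
    have hcl := (h.subgroup T).closure_order_three hT (z := ⟨z, hzT⟩)
      (fun e => D.hz (congrArg Subtype.val e)) (Subtype.ext D.hz2) PT
    intro t ht
    have h1 : (⟨t, ht⟩ : T) ∈ Subgroup.closure {g : T | g ≠ 1 ∧ g ^ 3 = 1} := by
      rw [hcl]; exact Subgroup.mem_top _
    have h2 := Subgroup.mem_map_of_mem T.subtype h1
    rw [MonoidHom.map_closure] at h2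
    have h3 : Subgroup.closure (T.subtype '' {g : T | g ≠ 1 ∧ g ^ 3 = 1}) ≤
        Subgroup.closure ({x, y, y''} : Set G) := by
      rw [Subgroup.closure_le]
      rintro _ ⟨g, ⟨hg1, hg3⟩, rfl⟩
      apply D.order_three_mem h
      · intro e; exact hg1 (Subtype.ext e)
      · have := congrArg Subtype.val hg3
        simpa using this
    exact h3 h2
  · rw [Subgroup.closure_le]
    intro g hg
    rcases hg with rfl | rfl | hg
    · exact hxT
    · exact hyT
    · rw [Set.mem_singleton_iff] at hg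
      rw [hg]; exact hy''T

/-- an element of the configuration inverting `x` -/
theorem Ico.inv_conj [Nontrivial R] (D : Ico ρ z x y y'' δ) (h : Fpf ρ) :
    ((x * y) * (x * y'') * (x * y)⁻¹) * x * ((x * y) * (x * y'') * (x * y)⁻¹)⁻¹ = x⁻¹ := by
  have h2 := h.isUnit_two D.hz D.hz2
  have hinj := h.injective
  have F := D.P.qf h
  have F'' := D.P''.qf h
  have hδ := D.hδ
  have hci : ∀ c, phi5 δ hδ c * ρ (x * y) = ρ (x * y) * phi5 δ hδ c := phi5_comm hδ D.hδI
  have hcj : ∀ c, phi5 δ hδ c * ρ (x * (x * y) * x⁻¹) = ρ (x * (x * y) * x⁻¹) * phi5 δ hδ c :=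
    phi5_comm hδ D.hδJ
  have sx : SC (phi5 δ hδ) (ρ (x * y)) (ρ (x * (x * y) * x⁻¹)) ρ 1 x (-1, -1, -1, -1) := by
    unfold SC
    rw [pow_one, F.hX]
    simp only [ql4, ql, map_neg, map_one]
    noncomm_ring
  have sxinv : SC (phi5 δ hδ) (ρ (x * y)) (ρ (x * (x * y) * x⁻¹)) ρ 1 x⁻¹ (-1, 1, 1, 1) := by
    unfold SC
    rw [pow_one, h.rho_inv_order3 D.P.hx D.P.hx3]
    have e := F.hX
    simp only [ql4, ql, map_neg, map_one]
    linear_combination (norm := (noncomm_ring <;> norm_num)) (-1 : R) * e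
  have si : SC (phi5 δ hδ) (ρ (x * y)) (ρ (x * (x * y) * x⁻¹)) ρ 0 (x * y) (0, 1, 0, 0) := by
    unfold SC
    rw [pow_zero, one_mul]
    exact ql4_I _ _ _
  have siinv : SC (phi5 δ hδ) (ρ (x * y)) (ρ (x * (x * y) * x⁻¹)) ρ 0 (x * y)⁻¹ (0, -1, 0, 0) := by
    unfold SC
    have e : ρ (x * y)⁻¹ = -ρ (x * y) := by
      apply rho_inv_eq
      rw [mul_neg, F.hI, neg_neg]
    rw [pow_zero, one_mul, e]
    simp [ql4, ql]
  have si'' : SC (phi5 δ hδ) (ρ (x * y)) (ρ (x * (x * y) * x⁻¹)) ρ 2 (x * y'')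
      (0, 2, ⟨1, 1⟩, ⟨1, -1⟩) := by
    unfold SC
    have : (2 : R) ^ 2 = 4 := by norm_num
    rw [this, D.h4]
    simp only [ql4, ql, phi5_apply, map_zero, map_ofNat]
    simp
    noncomm_ring
  have si''inv : SC (phi5 δ hδ) (ρ (x * y)) (ρ (x * (x * y) * x⁻¹)) ρ 2 (x * y'')⁻¹
      (-(0, 2, ⟨1, 1⟩, ⟨1, -1⟩)) := by
    have e : ρ (x * y'')⁻¹ = -ρ (x * y'') := by
      apply rho_inv_eq
      rw [mul_neg, F''.hI, neg_neg]
    unfold SC at si'' ⊢
    rw [e, mul_neg, si'', ql4_neg]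
  have mul : ∀ {n m : ℕ} {g g' : G} {p q : C5 × C5 × C5 × C5},
      SC (phi5 δ hδ) (ρ (x * y)) (ρ (x * (x * y) * x⁻¹)) ρ n g p →
      SC (phi5 δ hδ) (ρ (x * y)) (ρ (x * (x * y) * x⁻¹)) ρ m g' q →
      SC (phi5 δ hδ) (ρ (x * y)) (ρ (x * (x * y) * x⁻¹)) ρ (n + m) (g * g') (hMul p q) :=
    fun a b => SC.mul F.hI F.hJ F.hJI hci hcj a b
  have cst := SC.const (phi5 δ hδ) (ρ (x * y)) (ρ (x * (x * y) * x⁻¹)) ρ
  have e1 : ((x * y) * (x * y'') * (x * y)⁻¹)⁻¹ = (x * y) * (x * y'')⁻¹ * (x * y)⁻¹ := by group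
  rw [e1]
  have s1 := mul (mul (mul (mul si si'') siinv) sx) (mul (mul si si''inv) siinv)
  have s2 := mul (cst 4) sxinv
  rw [one_mul] at s2
  exact SC.eq_of h2 hinj s1 s2 (by decide +kernel)

end ZNS1

end Cfsg.Agent.Helper56
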