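import Mathlib
import Cfsg.Agent.Helper56.ZNS1

/-!
# Non-solvable fixed-point-free groups: the perfect core and its centralizer
-/

namespace Cfsg.Agent.Helper56

section ZNS2

variable {G : Type*} [Group G] {R : Type*} [Ring R] {ρ : G →* R}

/-- a finite non-solvable group has a nontrivial perfect normal subgroup -/
theorem exists_perfect_normal [Finite G] (hns : ¬ Group.IsSolvable G) :
    ∃ T : Subgroup G, T.Normal ∧ T ≠ ⊥ ∧ commutator T = ⊤ := by
  have hex : ∃ k, derivedSeries G (k + 1) = derivedSeries G k := by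
    by_contra hne
    push Not at hne
    have key : ∀ k, Nat.card (derivedSeries G k) + k ≤ Nat.card G := by
      intro k
      induction k with
      | zero => simp
      | succ k ih =>
        have hle : derivedSeries G (k + 1) ≤ derivedSeries G k :=
          derivedSeries_antitone G (Nat.le_succ k)
        have hlt : Nat.card (derivedSeries G (k + 1)) < Nat.card (derivedSeries G k) := by
          by_contra hge
          push Not at hge
          exact hne k (Subgroup.eq_of_le_of_card_ge hle hge)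
        omega
    have := key (Nat.card G + 1)
    omega
  obtain ⟨k, hk⟩ := hex
  refine ⟨derivedSeries G k, derivedSeries_normal G k, ?_, ?_⟩
  · intro hbot
    exact hns ⟨⟨k, hbot⟩⟩
  · apply Subgroup.map_injective (derivedSeries G k).subtype_injective
    rw [commutator_def, Subgroup.map_commutator, ← MonoidHom.range_eq_map, Subgroup.range_subtype]
    exact hk

theorem zpowers_three {x c : G} (hx : x ≠ 1) (hx3 : x ^ 3 = 1) (hc : c ∈ Subgroup.zpowers x) :
    c = 1 ∨ c = x ∨ c = x⁻¹ := by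
  obtain ⟨k, rfl⟩ := Subgroup.mem_zpowers_iff.mp hc
  have ho : orderOf x = 3 := orderOf_eq_prime hx3 hx
  have e := zpow_mod_orderOf x k
  rw [ho] at e
  have hk0 : 0 ≤ k % 3 := Int.emod_nonneg k (by norm_num)
  have hk3 : k % 3 < 3 := Int.emod_lt_of_pos k (by norm_num)
  obtain ⟨n, hn⟩ := Int.eq_ofNat_of_zero_le hk0
  have hn' : k % ((3 : ℕ) : ℤ) = (n : ℤ) := by exact_mod_cast hn
  rw [hn'] at e
  have hn3 : n < 3 := by omega
  rw [zpow_natCast] at e
  interval_cases n
  · left; rw [← e]; simp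
  · right; left; rw [← e]; simp
  · right; right
    rw [← e]
    have h1 : x ^ 2 * x = 1 := by rw [← pow_succ]; exact hx3
    exact eq_inv_of_mul_eq_one_left h1

theorem comm_of_mem_zpowers {x c u : G} (hc : c * x = x * c) (hu : u ∈ Subgroup.zpowers x) :
    c * u = u * c := by
  obtain ⟨k, rfl⟩ := Subgroup.mem_zpowers_iff.mp hu
  have : Commute c x := hc
  exact (this.zpow_right k).eq

/-- existence of an icosahedral configuration inside a perfect subgroup -/
theorem Fpf.exists_ico [Nontrivial R] [Finite G] (h : Fpf ρ) (T : Subgroup G)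
    (hT : commutator T = ⊤) (hTne : T ≠ ⊥) :
    ∃ (z x y y'' : G) (δ : R), Ico ρ z x y y'' δ ∧ x ∈ T ∧ y ∈ T ∧ y'' ∈ T := by
  have hT' := h.subgroup T
  have hnt : Nontrivial T := (Subgroup.nontrivial_iff_ne_bot T).mpr hTne
  obtain ⟨z, hz, hz2⟩ := hT'.exists_invol hT
  obtain ⟨x, hx, hx3⟩ := hT'.exists_order_three hT
  obtain ⟨y, P⟩ := hT'.exists_zp hT hz hz2 hx hx3
  obtain ⟨y', P', hne1, hne2, hne3⟩ := hT'.not_single_orbit hT hz hz2 P
  have hzG : (z : G) ≠ 1 := fun e => hz (Subtype.ext e)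
  have hz2G : (z : G) * (z : G) = 1 := congrArg Subtype.val hz2
  have PG := P.of_subgroup
  have PG' := P'.of_subgroup
  obtain ⟨y'', hy'', P'', δ, hδI, hδJ, hδ, h4⟩ := h.two_pairs hzG hz2G PG PG'
    (fun e => hne1 (Subtype.ext e)) (fun e => hne2 (Subtype.ext (by simpa using e)))
    (fun e => hne3 (Subtype.ext (by simpa using e)))
  refine ⟨z, x, y, y'', δ, ⟨hzG, hz2G, PG, P'', hδI, hδJ, hδ, h4⟩, x.2, y.2, ?_⟩
  rcases hy'' with e | e | e
  · rw [e]; exact y'.2
  · rw [e]; exact mul_mem (mul_mem x.2 y'.2) (inv_mem x.2)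
  · rw [e]; exact mul_mem (mul_mem (inv_mem x.2) y'.2) x.2

variable {z x y y'' : G} {δ : R}

/-- Frattini: every element is, up to an element of the perfect core, in the centralizer of
`x` -/
theorem Ico.exists_centralizing [Nontrivial R] [Finite G] (D : Ico ρ z x y y'' δ) (h : Fpf ρ)
    (T : Subgroup G) [hTn : T.Normal] (hTcard : Nat.card T = 120) (hxT : x ∈ T) (hyT : y ∈ T)
    (hy''T : y'' ∈ T) (g : G) : ∃ s ∈ T, (s * g) * x = x * (s * g) := by
  have : Fact (Nat.Prime 3) := ⟨Nat.prime_three⟩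
  have hx3' : (⟨x, hxT⟩ : T) ^ 3 = 1 := Subtype.ext (by simpa using D.P.hx3)
  have hx1' : (⟨x, hxT⟩ : T) ≠ 1 := fun e => D.P.hx (congrArg Subtype.val e)
  have hord : orderOf (⟨x, hxT⟩ : T) = 3 := orderOf_eq_prime hx3' hx1'
  have hP : IsPGroup 3 (Subgroup.zpowers (⟨x, hxT⟩ : T)) :=
    IsPGroup.of_card (n := 1) (by rw [Nat.card_zpowers, hord, pow_one])
  have hidx : ¬ 3 ∣ (Subgroup.zpowers (⟨x, hxT⟩ : T)).index := by
    have h1 := (Subgroup.zpowers (⟨x, hxT⟩ : T)).card_mul_index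
    rw [Nat.card_zpowers, hord, hTcard] at h1
    have : (Subgroup.zpowers (⟨x, hxT⟩ : T)).index = 40 := by omega
    rw [this]; norm_num
  have hfr := Sylow.normalizer_sup_eq_top (hP.toSylow hidx)
  have hmap : ((hP.toSylow hidx : Subgroup T)).map T.subtype = Subgroup.zpowers x := by
    rw [IsPGroup.toSylow_coe, MonoidHom.map_zpowers]; rfl
  rw [hmap] at hfr
  have hg : g ∈ ((Subgroup.normalizer ((Subgroup.zpowers x : Subgroup G) : Set G) ⊔ T :
      Subgroup G) : Set G) := by
    rw [hfr]; exact Subgroup.mem_top g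
  rw [Subgroup.mul_normal] at hg
  obtain ⟨n, hn, s, hs, rfl⟩ := Set.mem_mul.mp hg
  have hnx : n * x * n⁻¹ ∈ Subgroup.zpowers x :=
    (Subgroup.mem_normalizer_iff.mp hn x).mp (Subgroup.mem_zpowers x)
  rcases zpowers_three D.P.hx D.P.hx3 hnx with e | e | e
  · exfalso; exact conj_ne_one_of_ne_one D.P.hx e
  · refine ⟨n * s⁻¹ * n⁻¹, hTn.conj_mem _ (inv_mem hs) n, ?_⟩
    have e1 : n * s⁻¹ * n⁻¹ * (n * s) = n := by group
    rw [e1]
    calc n * x = n * x * n⁻¹ * n := by group
      _ = x * n := by rw [e]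
  · have htT : (x * y) * (x * y'') * (x * y)⁻¹ ∈ T :=
      mul_mem (mul_mem (mul_mem hxT hyT) (mul_mem hxT hy''T)) (inv_mem (mul_mem hxT hyT))
    have ht := D.inv_conj h
    generalize (x * y) * (x * y'') * (x * y)⁻¹ = t at htT ht
    refine ⟨t * (n * s⁻¹ * n⁻¹), mul_mem htT (hTn.conj_mem _ (inv_mem hs) n), ?_⟩
    have e1 : t * (n * s⁻¹ * n⁻¹) * (n * s) = t * n := by group
    rw [e1]
    have e2 : t * x⁻¹ * t⁻¹ = x := by
      calc t * x⁻¹ * t⁻¹ = (t * x * t⁻¹)⁻¹ := by group
        _ = x := by rw [ht, inv_inv]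
    calc t * n * x = t * (n * x * n⁻¹) * n := by group
      _ = t * x⁻¹ * n := by rw [e]
      _ = (t * x⁻¹ * t⁻¹) * (t * n) := by group
      _ = x * (t * n) := by rw [e2]

/-- an element centralizing `x` and mapping `y` into its own orbit lies in `⟨x⟩ C(T)` -/
theorem Ico.centralizer_of_orbit [Nontrivial R] [Finite G] (D : Ico ρ z x y y'' δ) (h : Fpf ρ)
    {c : G} (hc : c * x = x * c) (ho : InOrb x y (c * y * c⁻¹)) :
    ∃ u ∈ Subgroup.zpowers x, u * c ∈
      Subgroup.centralizer ((Subgroup.closure ({x, y, y''} : Set G) : Subgroup G) : Set G) := by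
  obtain ⟨u', hu', e⟩ := ho
  have hu'x : u' * x = x * u' := by
    obtain ⟨k, rfl⟩ := Subgroup.mem_zpowers_iff.mp hu'
    exact ((Commute.refl x).zpow_left k).eq
  refine ⟨u'⁻¹, inv_mem hu', ?_⟩
  have h1 : (u'⁻¹ * c) * x = x * (u'⁻¹ * c) := by
    calc u'⁻¹ * c * x = u'⁻¹ * (c * x) := by group
      _ = u'⁻¹ * (x * c) := by rw [hc]
      _ = u'⁻¹ * (x * u') * u'⁻¹ * c := by group
      _ = u'⁻¹ * (u' * x) * u'⁻¹ * c := by rw [hu'x]
      _ = x * (u'⁻¹ * c) := by group
  have h2 : (u'⁻¹ * c) * y = y * (u'⁻¹ * c) := by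
    calc u'⁻¹ * c * y = u'⁻¹ * (c * y * c⁻¹) * c := by group
      _ = u'⁻¹ * (u' * y * u'⁻¹) * c := by rw [e]
      _ = y * (u'⁻¹ * c) := by group
  generalize u'⁻¹ * c = c₁ at h1 h2 ⊢
  have Pw := D.P''.conj_of_comm h1
  have hUU : ρ c₁ * ρ c₁⁻¹ = 1 := rho_mul_inv ρ c₁
  have hUU' : ρ c₁⁻¹ * ρ c₁ = 1 := rho_inv_mul ρ c₁
  have hcx : Commute c₁ x := h1
  have hcy : Commute c₁ y := h2
  have hUI : ρ c₁ * ρ (x * y) = ρ (x * y) * ρ c₁ := by
    rw [← map_mul, ← map_mul]; congr 1
    exact (hcx.mul_right hcy).eq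
  have hUJ : ρ c₁ * ρ (x * (x * y) * x⁻¹) = ρ (x * (x * y) * x⁻¹) * ρ c₁ := by
    rw [← map_mul, ← map_mul]; congr 1
    exact ((hcx.mul_right (hcx.mul_right hcy)).mul_right hcx.inv_right).eq
  have e1 : ρ (x * (c₁ * y'' * c₁⁻¹)) = ρ c₁ * ρ (x * y'') * ρ c₁⁻¹ := by
    have : x * (c₁ * y'' * c₁⁻¹) = c₁ * (x * y'') * c₁⁻¹ := by
      calc x * (c₁ * y'' * c₁⁻¹) = (x * c₁) * y'' * c₁⁻¹ := by group
        _ = (c₁ * x) * y'' * c₁⁻¹ := by rw [h1]
        _ = c₁ * (x * y'') * c₁⁻¹ := by group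
    rw [this, map_mul, map_mul]
  have h4 := D.h4
  have hδI := D.hδI
  have hδJ := D.hδJ
  have hδ := D.hδ
  have key : c₁ * y'' * c₁⁻¹ = y'' := by
    apply h.three_pairs D.hz D.hz2 D.P D.P'' Pw D.hδI D.hδJ D.hδ D.h4 (ε := ρ c₁ * δ * ρ c₁⁻¹)
    · generalize ρ (x * y) = I at hUI hδI
      generalize ρ c₁ = U at hUU hUU' hUI
      generalize ρ c₁⁻¹ = Ui at hUU hUU'
      have hUiI : Ui * I = I * Ui := by
        calc Ui * I = Ui * (I * U) * Ui := by rw [mul_assoc, mul_assoc, hUU, mul_one]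
          _ = Ui * (U * I) * Ui := by rw [hUI]
          _ = I * Ui := by rw [← mul_assoc, hUU', one_mul]
      calc U * δ * Ui * I = U * δ * (Ui * I) := by noncomm_ring
        _ = U * δ * (I * Ui) := by rw [hUiI]
        _ = U * (δ * I) * Ui := by noncomm_ring
        _ = U * (I * δ) * Ui := by rw [hδI]
        _ = (U * I) * δ * Ui := by noncomm_ring
        _ = I * (U * δ * Ui) := by rw [hUI]; noncomm_ring
    · generalize ρ (x * (x * y) * x⁻¹) = J at hUJ hδJ
      generalize ρ c₁ = U at hUU hUU' hUJ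
      generalize ρ c₁⁻¹ = Ui at hUU hUU'
      have hUiJ : Ui * J = J * Ui := by
        calc Ui * J = Ui * (J * U) * Ui := by rw [mul_assoc, mul_assoc, hUU, mul_one]
          _ = Ui * (U * J) * Ui := by rw [hUJ]
          _ = J * Ui := by rw [← mul_assoc, hUU', one_mul]
      calc U * δ * Ui * J = U * δ * (Ui * J) := by noncomm_ring
        _ = U * δ * (J * Ui) := by rw [hUiJ]
        _ = U * (δ * J) * Ui := by noncomm_ring
        _ = U * (J * δ) * Ui := by rw [hδJ]
        _ = (U * J) * δ * Ui := by noncomm_ring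
        _ = J * (U * δ * Ui) := by rw [hUJ]; noncomm_ring
    · generalize ρ c₁ = U at hUU hUU'
      generalize ρ c₁⁻¹ = Ui at hUU hUU'
      calc U * δ * Ui * (U * δ * Ui) = U * δ * (Ui * U) * δ * Ui := by noncomm_ring
        _ = U * (δ * δ) * Ui := by rw [hUU']; noncomm_ring
        _ = 5 * (U * Ui) := by rw [hδ]; noncomm_ring
        _ = 5 := by rw [hUU, mul_one]
    · rw [e1]
      generalize ρ (x * y'') = I'' at h4
      generalize ρ (x * y) = I at hUI h4
      generalize ρ (x * (x * y) * x⁻¹) = J at hUJ h4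
      generalize ρ c₁ = U at hUU hUU' hUI hUJ
      generalize ρ c₁⁻¹ = Ui at hUU hUU'
      have hIi : I * Ui = Ui * I := by
        calc I * Ui = (Ui * U) * I * Ui := by rw [hUU', one_mul]
          _ = Ui * (U * I) * Ui := by noncomm_ring
          _ = Ui * (I * U) * Ui := by rw [hUI]
          _ = Ui * I * (U * Ui) := by noncomm_ring
          _ = Ui * I := by rw [hUU, mul_one]
      have hJi : J * Ui = Ui * J := by
        calc J * Ui = (Ui * U) * J * Ui := by rw [hUU', one_mul]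
          _ = Ui * (U * J) * Ui := by noncomm_ring
          _ = Ui * (J * U) * Ui := by rw [hUJ]
          _ = Ui * J * (U * Ui) := by noncomm_ring
          _ = Ui * J := by rw [hUU, mul_one]
      have e2 : 4 * (U * I'' * Ui) = U * (4 * I'') * Ui := by noncomm_ring
      rw [e2, h4]
      linear_combination (norm := (noncomm_ring <;> norm_num)) (2 : R) * U * hIi +
        (2 : R) * hUU * I + U * hJi + hUU * J + U * δ * hJi + U * I * hJi + U * hIi * J +
        hUU * I * J - U * δ * I * hJi - U * δ * hIi * J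
  have h3 : c₁ * y'' = y'' * c₁ := by
    calc c₁ * y'' = c₁ * y'' * c₁⁻¹ * c₁ := by group
      _ = y'' * c₁ := by rw [key]
  rw [Subgroup.mem_centralizer_iff]
  have hle : Subgroup.closure ({x, y, y''} : Set G) ≤ Subgroup.centralizer ({c₁} : Set G) := by
    rw [Subgroup.closure_le]
    intro g hg
    rw [SetLike.mem_coe, Subgroup.mem_centralizer_iff]
    intro k hk
    rw [Set.mem_singleton_iff] at hk
    rw [hk]
    rcases hg with rfl | rfl | hg
    · exact h1
    · exact h2
    · rw [Set.mem_singleton_iff] at hg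
      rw [hg]; exact h3
  intro g hg
  have := Subgroup.mem_centralizer_iff.mp (hle hg) c₁ rfl
  exact this.symm

/-- the product of the perfect core and its centralizer has index at most two -/
theorem Ico.index_le_two [Nontrivial R] [Finite G] (D : Ico ρ z x y y'' δ) (h : Fpf ρ)
    (T : Subgroup G) [hTn : T.Normal] (hTcard : Nat.card T = 120)
    (hTeq : T = Subgroup.closure ({x, y, y''} : Set G)) :
    (T ⊔ Subgroup.centralizer (T : Set G)).index = 1 ∨
      (T ⊔ Subgroup.centralizer (T : Set G)).index = 2 := by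
  have hxT : x ∈ T := by rw [hTeq]; exact Subgroup.subset_closure (by simp)
  have hyT : y ∈ T := by rw [hTeq]; exact Subgroup.subset_closure (by simp)
  have hy''T : y'' ∈ T := by rw [hTeq]; exact Subgroup.subset_closure (by simp)
  have hTle : T ≤ T ⊔ Subgroup.centralizer (T : Set G) := le_sup_left
  have hCle : Subgroup.centralizer (T : Set G) ≤ T ⊔ Subgroup.centralizer (T : Set G) :=
    le_sup_right
  have key0 : ∀ c : G, c * x = x * c → InOrb x y (c * y * c⁻¹) →
      c ∈ T ⊔ Subgroup.centralizer (T : Set G) := by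
    intro c hc ho
    obtain ⟨u, hu, huc⟩ := D.centralizer_of_orbit h hc ho
    rw [← hTeq] at huc
    have huT : u ∈ T := (Subgroup.zpowers_le.mpr hxT) hu
    have : c = u⁻¹ * (u * c) := by group
    rw [this]
    exact mul_mem (hTle (inv_mem huT)) (hCle huc)
  have key1 : ∀ c : G, c * x = x * c → c ∉ T ⊔ Subgroup.centralizer (T : Set G) →
      InOrb x y'' (c * y * c⁻¹) := by
    intro c hc hcG
    rcases D.classify h (D.P.conj_of_comm hc) with ho | ho
    · exact absurd (key0 c hc ho) hcG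
    · exact ho
  have key2 : ∀ g g' : G, g ∉ T ⊔ Subgroup.centralizer (T : Set G) →
      g' ∉ T ⊔ Subgroup.centralizer (T : Set G) →
      g⁻¹ * g' ∈ T ⊔ Subgroup.centralizer (T : Set G) := by
    intro g g' hg hg'
    obtain ⟨s, hs, hc⟩ := D.exists_centralizing h T hTcard hxT hyT hy''T g
    obtain ⟨s', hs', hc'⟩ := D.exists_centralizing h T hTcard hxT hyT hy''T g'
    have hcG : s * g ∉ T ⊔ Subgroup.centralizer (T : Set G) := fun hm => hg (by
      have : g = s⁻¹ * (s * g) := by group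
      rw [this]; exact mul_mem (hTle (inv_mem hs)) hm)
    have hcG' : s' * g' ∉ T ⊔ Subgroup.centralizer (T : Set G) := fun hm => hg' (by
      have : g' = s'⁻¹ * (s' * g') := by group
      rw [this]; exact mul_mem (hTle (inv_mem hs')) hm)
    obtain ⟨u, hu, e⟩ := key1 _ hc hcG
    obtain ⟨u', hu', e'⟩ := key1 _ hc' hcG'
    have hgg : g⁻¹ * g' = ((s * g)⁻¹ * (s * s'⁻¹) * (s * g)) * ((s * g)⁻¹ * (s' * g')) := by group
    rw [hgg]
    generalize s * g = c at hc hcG e
    generalize s' * g' = c' at hc' hcG' e'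
    have hci : c⁻¹ * x = x * c⁻¹ := by
      calc c⁻¹ * x = c⁻¹ * (x * c) * c⁻¹ := by group
        _ = c⁻¹ * (c * x) * c⁻¹ := by rw [hc]
        _ = x * c⁻¹ := by group
    have hd : (c⁻¹ * c') * x = x * (c⁻¹ * c') := by
      calc c⁻¹ * c' * x = c⁻¹ * (c' * x) := by group
        _ = c⁻¹ * (x * c') := by rw [hc']
        _ = (c⁻¹ * x) * c' := by group
        _ = x * (c⁻¹ * c') := by rw [hci]; group
    have hv : u' * u⁻¹ ∈ Subgroup.zpowers x := mul_mem hu' (inv_mem hu)
    have hcv : c * (u' * u⁻¹) = (u' * u⁻¹) * c := comm_of_mem_zpowers hc hv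
    have ho : InOrb x y ((c⁻¹ * c') * y * (c⁻¹ * c')⁻¹) := by
      refine ⟨u' * u⁻¹, hv, ?_⟩
      have ey'' : y'' = u⁻¹ * (c * y * c⁻¹) * u := by rw [e]; group
      calc (c⁻¹ * c') * y * (c⁻¹ * c')⁻¹ = c⁻¹ * (c' * y * c'⁻¹) * c := by group
        _ = c⁻¹ * (u' * y'' * u'⁻¹) * c := by rw [e']
        _ = c⁻¹ * (u' * (u⁻¹ * (c * y * c⁻¹) * u) * u'⁻¹) * c := by rw [← ey'']
        _ = (c⁻¹ * (c * (u' * u⁻¹))) * y * (c⁻¹ * (c * (u' * u⁻¹)))⁻¹ := by
          rw [hcv]; group
        _ = (u' * u⁻¹) * y * (u' * u⁻¹)⁻¹ := by rw [inv_mul_cancel_left]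
    have h1 := key0 _ hd ho
    have h2 : c⁻¹ * (s * s'⁻¹) * c ∈ T := by
      have := hTn.conj_mem (s * s'⁻¹) (mul_mem hs (inv_mem hs')) c⁻¹
      simpa using this
    exact mul_mem (hTle h2) h1
  by_cases htop : T ⊔ Subgroup.centralizer (T : Set G) = ⊤
  · left; rw [htop, Subgroup.index_top]
  · right
    obtain ⟨a, ha⟩ : ∃ a : G, a ∉ T ⊔ Subgroup.centralizer (T : Set G) := by
      by_contra hall
      push Not at hall
      exact htop (eq_top_iff.mpr fun g _ => hall g)
    rw [Subgroup.index_eq_two_iff]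
    refine ⟨a, fun b => ?_⟩
    by_cases hb : b ∈ T ⊔ Subgroup.centralizer (T : Set G)
    · refine Or.inr ⟨hb, fun hba => ha ?_⟩
      have : a = b⁻¹ * (b * a) := by group
      rw [this]; exact mul_mem (inv_mem hb) hba
    · refine Or.inl ⟨?_, hb⟩
      have hbi : b⁻¹ ∉ T ⊔ Subgroup.centralizer (T : Set G) := fun hm => hb (by
        simpa using inv_mem hm)
      have := key2 b⁻¹ a hbi ha
      simpa using this

end ZNS2

end Cfsg.Agent.Helper56
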