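import Mathlib
import Cfsg.Agent.Helper56.ZNS2

/-!
# Structure of non-solvable fixed-point-free groups (Zassenhaus)

A finite non-solvable group with a fixed-point-free representation has a normal subgroup of index
at most two which is the direct product of a copy of `SL(2,5)` and a group of order prime to `30`
all of whose Sylow subgroups are cyclic.
-/

namespace Cfsg.Agent.Helper56

section ZNS3

variable {G : Type*} [Group G] {R : Type*} [Ring R] {ρ : G →* R} {z x y y'' : G} {δ : R}

/-- the centralizer of the perfect core has no element of order four -/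
theorem Ico.centralizer_sq [Nontrivial R] (D : Ico ρ z x y y'' δ) (h : Fpf ρ) (T : Subgroup G)
    (hxT : x ∈ T) (hyT : y ∈ T) {u : G} (hu : u ∈ Subgroup.centralizer (T : Set G))
    (hu4 : (u * u) * (u * u) = 1) : u * u = 1 := by
  by_contra hne
  have huz : u * u = z := (h.sq_eq_one D.hz D.hz2 hu4).resolve_left hne
  have hiT : x * y ∈ T := mul_mem hxT hyT
  have hjT : x * (x * y) * x⁻¹ ∈ T := mul_mem (mul_mem hxT hiT) (inv_mem hxT)
  have hui : (x * y) * u = u * (x * y) := Subgroup.mem_centralizer_iff.mp hu _ hiT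
  have huj : (x * (x * y) * x⁻¹) * u = u * (x * (x * y) * x⁻¹) :=
    Subgroup.mem_centralizer_iff.mp hu _ hjT
  have hii : (x * y) * (x * y) = z := D.P.sq_i h D.hz D.hz2
  have hzc := h.invol_comm D.hz D.hz2
  apply D.P.ij_not_comm h D.hz D.hz2
  generalize x * (x * y) * x⁻¹ = j at huj ⊢
  generalize x * y = i at hui hii ⊢
  have h1 : (i * u) * (i * u) = 1 := by
    calc (i * u) * (i * u) = i * (u * i) * u := by group
      _ = i * (i * u) * u := by rw [hui]
      _ = (i * i) * (u * u) := by group
      _ = 1 := by rw [hii, huz, D.hz2]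
  have huj' : u⁻¹ * j = j * u⁻¹ := by
    calc u⁻¹ * j = u⁻¹ * (j * u) * u⁻¹ := by group
      _ = u⁻¹ * (u * j) * u⁻¹ := by rw [huj]
      _ = j * u⁻¹ := by group
  rcases h.sq_eq_one D.hz D.hz2 h1 with e | e
  · have hiu : i = u⁻¹ := eq_inv_of_mul_eq_one_left e
    rw [hiu]; exact huj'
  · have hiu : i = z * u⁻¹ := by rw [← e]; group
    rw [hiu]
    calc z * u⁻¹ * j = z * (u⁻¹ * j) := by group
      _ = z * (j * u⁻¹) := by rw [huj']
      _ = (z * j) * u⁻¹ := by group
      _ = (j * z) * u⁻¹ := by rw [hzc j]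
      _ = j * (z * u⁻¹) := by group

/-- an odd-order complement of `⟨z⟩` in the centralizer of the perfect core -/
theorem Ico.exists_complement [Nontrivial R] [Finite G] (D : Ico ρ z x y y'' δ) (h : Fpf ρ)
    (T : Subgroup G) (hxT : x ∈ T) (hyT : y ∈ T) :
    ∃ M : Subgroup G, M ≤ Subgroup.centralizer (T : Set G) ∧ Odd (Nat.card M) ∧
      Subgroup.centralizer (T : Set G) ≤ T ⊔ M := by
  have hzc := h.invol_comm D.hz D.hz2
  have hzT : z ∈ T := by
    rw [← D.P.sq_i h D.hz D.hz2]
    exact mul_mem (mul_mem hxT hyT) (mul_mem hxT hyT)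
  have hzC : z ∈ Subgroup.centralizer (T : Set G) := by
    rw [Subgroup.mem_centralizer_iff]
    intro t _
    exact hzc t
  have hz1' : (⟨z, hzC⟩ : Subgroup.centralizer (T : Set G)) ≠ 1 :=
    fun e => D.hz (congrArg Subtype.val e)
  have hz2' : (⟨z, hzC⟩ : Subgroup.centralizer (T : Set G)) ^ 2 = 1 :=
    Subtype.ext (by simpa [pow_two] using D.hz2)
  have hord : orderOf (⟨z, hzC⟩ : Subgroup.centralizer (T : Set G)) = 2 :=
    orderOf_eq_prime hz2' hz1'
  have hcomm : ∀ g : Subgroup.centralizer (T : Set G),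
      Commute g (⟨z, hzC⟩ : Subgroup.centralizer (T : Set G)) := by
    intro g
    exact Subtype.ext (hzc (g : G))
  have hNn : (Subgroup.zpowers (⟨z, hzC⟩ : Subgroup.centralizer (T : Set G))).Normal := by
    constructor
    intro n hn g
    obtain ⟨k, rfl⟩ := Subgroup.mem_zpowers_iff.mp hn
    have hc : Commute g ((⟨z, hzC⟩ : Subgroup.centralizer (T : Set G)) ^ k) :=
      (hcomm g).zpow_right k
    rw [hc.eq, mul_inv_cancel_right]
    exact hn
  have hcardN : Nat.card (Subgroup.zpowers (⟨z, hzC⟩ : Subgroup.centralizer (T : Set G))) = 2 := by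
    rw [Nat.card_zpowers, hord]
  -- no subgroup of order four
  have h4 : ¬ 4 ∣ Nat.card (Subgroup.centralizer (T : Set G)) := by
    intro hdvd
    have : Fact (Nat.Prime 2) := ⟨Nat.prime_two⟩
    obtain ⟨K, hK⟩ := Sylow.exists_subgroup_card_pow_prime 2
      (show 2 ^ 2 ∣ Nat.card (Subgroup.centralizer (T : Set G)) from hdvd)
    have hle : K ≤ Subgroup.zpowers (⟨z, hzC⟩ : Subgroup.centralizer (T : Set G)) := by
      intro k hk
      have hk4 : (⟨k, hk⟩ : K) ^ 4 = 1 := by
        have := pow_card_eq_one' (G := K) (x := ⟨k, hk⟩)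
        rw [hK] at this
        exact this
      have hk4' : ((k : G) * (k : G)) * ((k : G) * (k : G)) = 1 := by
        have e1 := congrArg Subtype.val hk4
        have e2 := congrArg Subtype.val e1
        simp only [Subgroup.coe_pow, Subgroup.coe_one] at e2
        rw [← e2]; simp [pow_succ, mul_assoc]
      have hk2 := D.centralizer_sq h T hxT hyT k.2 hk4'
      rcases h.sq_eq_one D.hz D.hz2 hk2 with e | e
      · have : k = 1 := Subtype.ext e
        rw [this]; exact one_mem _
      · have : k = ⟨z, hzC⟩ := Subtype.ext e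
        rw [this]; exact Subgroup.mem_zpowers _
    have := Subgroup.card_le_of_le hle
    rw [hK, hcardN] at this
    norm_num at this
  have hidx := (Subgroup.zpowers (⟨z, hzC⟩ : Subgroup.centralizer (T : Set G))).card_mul_index
  rw [hcardN] at hidx
  have hodd : Odd (Subgroup.zpowers (⟨z, hzC⟩ : Subgroup.centralizer (T : Set G))).index := by
    rw [← Nat.not_even_iff_odd]
    intro hev
    obtain ⟨m, hm⟩ := hev
    apply h4
    rw [← hidx, hm]
    exact ⟨m, by ring⟩
  have hcop : Nat.Coprime
      (Nat.card (Subgroup.zpowers (⟨z, hzC⟩ : Subgroup.centralizer (T : Set G))))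
      (Subgroup.zpowers (⟨z, hzC⟩ : Subgroup.centralizer (T : Set G))).index := by
    rw [hcardN]; exact Nat.coprime_two_left.mpr hodd
  obtain ⟨M', hM'⟩ := Subgroup.exists_right_complement'_of_coprime hcop
  refine ⟨M'.map (Subgroup.centralizer (T : Set G)).subtype, ?_, ?_, ?_⟩
  · exact Subgroup.map_subtype_le M'
  · rw [Subgroup.card_map_of_injective (Subgroup.subtype_injective _)]
    have := hM'.card_mul_card
    rw [hcardN] at this
    have e : Nat.card M' = (Subgroup.zpowers (⟨z, hzC⟩ : Subgroup.centralizer (T : Set G))).index := by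
      have h2 : 2 * Nat.card M' =
          2 * (Subgroup.zpowers (⟨z, hzC⟩ : Subgroup.centralizer (T : Set G))).index := by
        rw [this, hidx]
      exact Nat.eq_of_mul_eq_mul_left (by norm_num) h2
    rw [e]; exact hodd
  · intro c hc
    obtain ⟨⟨n, m⟩, hnm⟩ := hM'.2 ⟨c, hc⟩
    have e : c = ((n : Subgroup.centralizer (T : Set G)) : G) *
        ((m : Subgroup.centralizer (T : Set G)) : G) := by
      have := congrArg Subtype.val hnm
      simpa using this.symm
    rw [e]
    apply mul_mem
    · apply Subgroup.mem_sup_left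
      obtain ⟨k, hk⟩ := Subgroup.mem_zpowers_iff.mp n.2
      rw [← hk]
      simp only [Subgroup.coe_zpow]
      exact zpow_mem hzT k
    · apply Subgroup.mem_sup_right
      exact Subgroup.mem_map_of_mem _ m.2

/-- a central element of a group isomorphic to `SL(2,5)` squares to one -/
theorem sq_eq_one_of_central_SL25 {T : Type*} [Group T] (e : T ≃* SL25) {g : T}
    (hg : ∀ t : T, t * g = g * t) : g * g = 1 := by
  have hc : e g ∈ Subgroup.center SL25 := by
    rw [Subgroup.mem_center_iff]
    intro A
    have := hg (e.symm A)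
    have h2 := congrArg e this
    simpa using h2
  obtain ⟨r, hr, hr'⟩ := Matrix.SpecialLinearGroup.mem_center_iff.mp hc
  have hr2 : r * r = 1 := by
    have : Fintype.card (Fin 2) = 2 := by simp
    rw [this, pow_two] at hr
    exact hr
  have h1 : e g * e g = 1 := by
    apply Subtype.ext
    rw [Matrix.SpecialLinearGroup.coe_mul, ← hr', ← map_mul, hr2, map_one]
    rfl
  apply e.injective
  rw [map_mul, h1, map_one]

/-- **Zassenhaus, non-solvable case (ring form)**: a finite non-solvable group with a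
fixed-point-free representation has a normal subgroup of index at most two which is the direct
product of a copy of `SL(2,5)` and a group of order prime to `30` with cyclic Sylow subgroups. -/
theorem Fpf.nonsolvable_structure [Nontrivial R] [Finite G] (h : Fpf ρ)
    (hns : ¬ Group.IsSolvable G) :
    ∃ G₀ : Subgroup G, G₀.Normal ∧ (G₀.index = 1 ∨ G₀.index = 2) ∧
      ∃ S M : Subgroup G, S ⊔ M = G₀ ∧ S ⊓ M = ⊥ ∧ (∀ s ∈ S, ∀ x ∈ M, s * x = x * s) ∧
        Nonempty (S ≃* SL25) ∧
        (∀ (p : ℕ) [Fact p.Prime] (P : Sylow p M), IsCyclic P) ∧ (Nat.card M).Coprime 30 := by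
  obtain ⟨T, hTn, hTne, hTperf⟩ := exists_perfect_normal hns
  obtain ⟨z, x, y, y'', δ, D, hxT, hyT, hy''T⟩ := h.exists_ico T hTperf hTne
  have hnt : Nontrivial T := (Subgroup.nontrivial_iff_ne_bot T).mpr hTne
  obtain ⟨e⟩ := zassenhaus_ring (h.subgroup T) hTperf
  have hTcard : Nat.card T = 120 := by rw [Nat.card_congr e.toEquiv, card_SL25]
  have hTeq := D.closure_eq h T hTperf hxT hyT hy''T
  obtain ⟨M, hMC, hMod, hCle⟩ := D.exists_complement h T hxT hyT
  have hinf : T ⊓ M = ⊥ := by
    rw [eq_bot_iff]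
    rintro g ⟨hgT, hgM⟩
    rw [Subgroup.mem_bot]
    have hgc : ∀ t : T, t * (⟨g, hgT⟩ : T) = ⟨g, hgT⟩ * t := by
      intro t
      apply Subtype.ext
      exact Subgroup.mem_centralizer_iff.mp (hMC hgM) t t.2
    have hg2 := sq_eq_one_of_central_SL25 e hgc
    have hg2' : g ^ 2 = 1 := by
      have := congrArg Subtype.val hg2
      rw [pow_two]; exact this
    have hd1 : orderOf g ∣ 2 := orderOf_dvd_of_pow_eq_one hg2'
    have hd2 : orderOf g ∣ Nat.card M := by
      have := orderOf_dvd_natCard (⟨g, hgM⟩ : M)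
      rwa [← Subgroup.orderOf_coe] at this
    have hd3 : orderOf g ∣ Nat.gcd 2 (Nat.card M) := Nat.dvd_gcd hd1 hd2
    have hcop : Nat.gcd 2 (Nat.card M) = 1 := Nat.coprime_two_left.mpr hMod
    rw [hcop, Nat.dvd_one, orderOf_eq_one_iff] at hd3
    exact hd3
  have h3 : ¬ 3 ∣ Nat.card M := by
    intro hd
    have : Fact (Nat.Prime 3) := ⟨Nat.prime_three⟩
    obtain ⟨u, hu⟩ := exists_prime_orderOf_dvd_card' (G := M) 3 hd
    have hu1 : (u : G) ≠ 1 := by
      intro e1
      have : u = 1 := Subtype.ext e1
      rw [this, orderOf_one] at hu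
      norm_num at hu
    have hu3 : (u : G) ^ 3 = 1 := by
      have := pow_orderOf_eq_one u
      rw [hu] at this
      have h2 := congrArg Subtype.val this
      simpa using h2
    have huT : (u : G) ∈ T := by rw [hTeq]; exact D.order_three_mem h hu1 hu3
    have : (u : G) ∈ T ⊓ M := ⟨huT, u.2⟩
    rw [hinf, Subgroup.mem_bot] at this
    exact hu1 this
  have h5 : ¬ 5 ∣ Nat.card M := by
    intro hd
    have : Fact (Nat.Prime 5) := ⟨by norm_num⟩
    obtain ⟨u, hu⟩ := exists_prime_orderOf_dvd_card' (G := M) 5 hd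
    obtain ⟨v, hv⟩ := exists_prime_orderOf_dvd_card' (G := T) 5 (by rw [hTcard]; norm_num)
    have hu1 : (u : G) ≠ 1 := by
      intro e1
      have : u = 1 := Subtype.ext e1
      rw [this, orderOf_one] at hu
      norm_num at hu
    have hu5 : (u : G) ^ 5 = 1 := by
      have := pow_orderOf_eq_one u
      rw [hu] at this
      have h2 := congrArg Subtype.val this
      simpa using h2
    have hv1 : (v : G) ≠ 1 := by
      intro e1
      have : v = 1 := Subtype.ext e1
      rw [this, orderOf_one] at hv
      norm_num at hv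
    have hv5 : (v : G) ^ 5 = 1 := by
      have := pow_orderOf_eq_one v
      rw [hv] at this
      have h2 := congrArg Subtype.val this
      simpa using h2
    have hvu : (v : G) * (u : G) = (u : G) * (v : G) :=
      Subgroup.mem_centralizer_iff.mp (hMC u.2) v v.2
    have hmem := h.mem_zpowers_of_commute (by norm_num : Nat.Prime 5) hvu hv5 hu5 hv1
    have huT : (u : G) ∈ T := (Subgroup.zpowers_le.mpr v.2) hmem
    have : (u : G) ∈ T ⊓ M := ⟨huT, u.2⟩
    rw [hinf, Subgroup.mem_bot] at this
    exact hu1 this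
  refine ⟨T ⊔ Subgroup.centralizer (T : Set G), inferInstance, D.index_le_two h T hTcard hTeq,
    T, M, ?_, hinf, ?_, ⟨e⟩, ?_, ?_⟩
  · apply le_antisymm
    · exact sup_le le_sup_left (hMC.trans le_sup_right)
    · exact sup_le le_sup_left hCle
  · intro s hs m hm
    exact Subgroup.mem_centralizer_iff.mp (hMC hm) s hs
  · intro p _ P
    by_cases hp2 : p = 2
    · subst hp2
      have hsub : Subsingleton P := by
        obtain ⟨n, hn⟩ := IsPGroup.iff_card.mp P.isPGroup'
        have hdvd : Nat.card P ∣ Nat.card M := Subgroup.card_subgroup_dvd_card _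
        rcases Nat.eq_zero_or_pos n with rfl | hn0
        · rw [pow_zero] at hn
          exact (Nat.card_eq_one_iff_unique.mp hn).1
        · exfalso
          have h2 : 2 ∣ Nat.card M := (dvd_pow_self 2 hn0.ne').trans (hn ▸ hdvd)
          exact (Nat.not_even_iff_odd.mpr hMod) (even_iff_two_dvd.mpr h2)
      exact isCyclic_of_subsingleton
    · exact ((h.subgroup M).subgroup (P : Subgroup M)).isCyclic_of_odd hp2 P.isPGroup'
  · have c2 : (Nat.card M).Coprime 2 := Nat.coprime_two_right.mpr hMod
    have c3 : (Nat.card M).Coprime 3 :=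
      ((Nat.Prime.coprime_iff_not_dvd Nat.prime_three).mpr h3).symm
    have c5 : (Nat.card M).Coprime 5 :=
      ((Nat.Prime.coprime_iff_not_dvd (by norm_num : Nat.Prime 5)).mpr h5).symm
    have : (30 : ℕ) = 2 * 3 * 5 := by norm_num
    rw [this]
    exact (c2.mul_right c3).mul_right c5

end ZNS3

end Cfsg.Agent.Helper56
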