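import Mathlib
import Cfsg.Agent.Helper56.ZRing
import Cfsg.Agent.Helper56.ZSylow
import Cfsg.Agent.Helper71.FpfRing
import Cfsg.Agent.Helper29.FrobConj

/-!
# Frobenius complements have fixed-point-free ring representations
-/

namespace Cfsg.Agent.Helper56

universe u

open scoped IsMulCommutative

/-- A nontrivial fixed-point-free group of automorphisms of a finite group has a fixed-point-free
ring representation (the proof of `Cfsg.Agent.Helper71.exists_fpf_ring`, which does not use
perfectness). -/
theorem exists_fpf_ring_of_fpf {K : Type u} [Group K] [Finite K] (G : Subgroup (MulAut K))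
    (hfpf : ∀ φ ∈ G, φ ≠ 1 → ∀ k : K, φ k = k → k = 1) (hne : G ≠ ⊥) :
    ∃ (R : Type u) (_ : Ring R) (_ : Nontrivial R) (ρ : G →* R), Fpf ρ := by
  classical
  have hfinA : Finite (MulAut K) :=
    Finite.of_injective (fun e : MulAut K => (e : K → K)) DFunLike.coe_injective
  have hntG : Nontrivial G := (Subgroup.nontrivial_iff_ne_bot G).mpr hne
  have hcard : Nat.card G ≠ 1 := by
    intro h1
    have := (Finite.one_lt_card_iff_nontrivial (α := G)).mpr hntG
    omega
  obtain ⟨p, hp, hpd⟩ := Nat.exists_prime_and_dvd hcard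
  have : Fact p.Prime := ⟨hp⟩
  obtain ⟨g, hg⟩ := exists_prime_orderOf_dvd_card' p hpd
  have hg1 : (g : MulAut K) ≠ 1 := by
    intro h1
    have h2 : g = 1 := Subtype.ext h1
    rw [h2, orderOf_one] at hg
    exact hp.one_lt.ne hg
  have hgp : (g : MulAut K) ^ p = 1 := by
    have h1 : g ^ p = 1 := by rw [← hg]; exact pow_orderOf_eq_one g
    have h2 := congrArg Subtype.val h1
    simpa using h2
  have hnil : Group.IsNilpotent K := by
    apply Cfsg.Agent.Helper19.thompson_thesis hp ((g : MulAut K).toMonoidHom)
    refine ⟨fun k hk => hfpf _ g.2 hg1 k hk, fun k => ?_⟩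
    have key : ∀ n : ℕ, ((⇑((g : MulAut K).toMonoidHom))^[n]) k = ((g : MulAut K) ^ n) k := by
      intro n
      induction n with
      | zero => simp
      | succ n ih =>
        rw [Function.iterate_succ_apply', ih, pow_succ', MulAut.mul_apply]
        rfl
    rw [key, hgp, MulAut.one_apply]
  have hntK : Nontrivial K := by
    obtain ⟨k, hk⟩ : ∃ k : K, (g : MulAut K) k ≠ k := by
      by_contra hno
      push Not at hno
      exact hg1 (MulEquiv.ext hno)
    exact ⟨⟨_, _, hk⟩⟩
  have hcen : Subgroup.center K ≠ ⊥ := Group.IsNilpotent.center_ne_bot K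
  have hntZ : Nontrivial (Subgroup.center K) := (Subgroup.nontrivial_iff_ne_bot _).mpr hcen
  have hntA : Nontrivial (Additive (Subgroup.center K)) := hntZ
  refine ⟨AddMonoid.End (Additive (Subgroup.center K)), inferInstance, ?_,
    Cfsg.Agent.Helper71.fpfCenterRep G, ?_⟩
  · obtain ⟨a, ha⟩ := exists_ne (0 : Additive (Subgroup.center K))
    refine ⟨⟨0, 1, fun h01 => ha ?_⟩⟩
    have h1 : (0 : AddMonoid.End (Additive (Subgroup.center K))) a =
        (1 : AddMonoid.End (Additive (Subgroup.center K))) a := by rw [h01]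
    simpa using h1.symm
  · intro x hx
    have hx1 : (x : MulAut K) ≠ 1 := fun h1 => hx (Subtype.ext h1)
    have hinj : Function.Injective (Cfsg.Agent.Helper71.fpfCenterRep G x - 1 :
        AddMonoid.End (Additive (Subgroup.center K))) := by
      rw [injective_iff_map_eq_zero]
      intro a ha
      have h1 : Cfsg.Agent.Helper71.fpfCenterRep G x a = a := by
        have h2 : (Cfsg.Agent.Helper71.fpfCenterRep G x - 1 :
            AddMonoid.End (Additive (Subgroup.center K))) a =
            Cfsg.Agent.Helper71.fpfCenterRep G x a - a := rfl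
        rw [h2] at ha
        exact sub_eq_zero.mp ha
      have h3 := Cfsg.Agent.Helper71.fpfCenterRep_apply G x a
      rw [h1] at h3
      have h4 := hfpf _ x.2 hx1 _ h3.symm
      apply Additive.toMul.injective
      apply Subtype.ext
      simpa using h4
    have hbij : Function.Bijective (Cfsg.Agent.Helper71.fpfCenterRep G x - 1 :
        AddMonoid.End (Additive (Subgroup.center K))) :=
      Finite.injective_iff_bijective.mp hinj
    let e : Additive (Subgroup.center K) ≃+ Additive (Subgroup.center K) :=
      AddEquiv.ofBijective (Cfsg.Agent.Helper71.fpfCenterRep G x - 1 :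
        AddMonoid.End (Additive (Subgroup.center K))) hbij
    refine ⟨⟨Cfsg.Agent.Helper71.fpfCenterRep G x - 1, e.symm.toAddMonoidHom, ?_, ?_⟩, rfl⟩
    · apply AddMonoidHom.ext
      intro a
      exact e.apply_symm_apply a
    · apply AddMonoidHom.ext
      intro a
      exact e.symm_apply_apply a

/-- **A Frobenius complement has a fixed-point-free ring representation** (on the endomorphism
ring of the centre of the Frobenius kernel). -/
theorem frobComp_fpf_ring {L : Type u} [Group L] [Finite L] (H : Subgroup L)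
    (hH : Cfsg.IsFrobeniusComplement H) :
    ∃ (R : Type u) (_ : Ring R) (_ : Nontrivial R) (ρ : H →* R), Fpf ρ := by
  obtain ⟨N, -, hFP⟩ := Cfsg.Agent.Helper29.exists_frobPair H hH
  have hNn : N.Normal := hFP.normal
  have hφ : ∀ (a : H) (n : N),
      (((MulAut.conjNormal (H := N)).comp H.subtype a n : N) : L) = (a : L) * n * (a : L)⁻¹ :=
    fun a n => rfl
  have hNne : N ≠ ⊥ := by
    intro hN
    apply hFP.ne_top
    have := hFP.compl.sup_eq_top
    rw [hN, bot_sup_eq] at this
    exact this
  have hfix : ∀ a : H, a ≠ 1 → ∀ n : N,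
      (MulAut.conjNormal (H := N)).comp H.subtype a n = n → n = 1 := by
    intro a ha n hn
    have haN : (a : L) ∉ N := fun haN => ha (Subtype.ext (hFP.disjoint haN a.2))
    have hc : (a : L) * (n : L) = (n : L) * (a : L) := by
      have := congrArg Subtype.val hn
      rw [hφ] at this
      calc (a : L) * n = (a : L) * n * (a : L)⁻¹ * a := by group
        _ = n * a := by rw [this]
    exact Subtype.ext (hFP.eq_one_of_commute haN n.2 hc)
  have hntN : Nontrivial N := (Subgroup.nontrivial_iff_ne_bot N).mpr hNne
  have hφinj : Function.Injective ((MulAut.conjNormal (H := N)).comp H.subtype) := by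
    rw [injective_iff_map_eq_one]
    intro a ha
    by_contra ha1
    obtain ⟨n, hn⟩ := exists_ne (1 : N)
    exact hn (hfix a ha1 n (by rw [ha]; rfl))
  have hfpf : ∀ ψ ∈ ((MulAut.conjNormal (H := N)).comp H.subtype).range, ψ ≠ 1 →
      ∀ k : N, ψ k = k → k = 1 := by
    rintro ψ ⟨a, rfl⟩ hψ k hk
    exact hfix a (fun e => hψ (by rw [e, map_one])) k hk
  have hne : ((MulAut.conjNormal (H := N)).comp H.subtype).range ≠ ⊥ := by
    intro hbot
    have hntH : Nontrivial H := (Subgroup.nontrivial_iff_ne_bot H).mpr hFP.ne_bot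
    obtain ⟨a, ha⟩ := exists_ne (1 : H)
    have : (MulAut.conjNormal (H := N)).comp H.subtype a ∈
        ((MulAut.conjNormal (H := N)).comp H.subtype).range := ⟨a, rfl⟩
    rw [hbot, Subgroup.mem_bot] at this
    exact ha (hφinj (this.trans (map_one _).symm))
  obtain ⟨R, hR, hRn, ρ, hρ⟩ := exists_fpf_ring_of_fpf _ hfpf hne
  refine ⟨R, hR, hRn, ρ.comp ((MulAut.conjNormal (H := N)).comp H.subtype).rangeRestrict, ?_⟩
  exact hρ.comp _ (MonoidHom.rangeRestrict_injective_iff.mpr hφinj)

end Cfsg.Agent.Helper56
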